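import Mathlib
import Cfsg.Prelude.Def_LieExceptional

set_option autoImplicit false

/-!
Elementary facts on finite Zassenhaus groups.
-/

namespace Cfsg.Agent.H33

open MulAction

variable {G Ω : Type*} [Group G] [MulAction G Ω]

theorem zas_eq_one (hZ : Cfsg.IsZassenhausGroup G Ω) {g : G} {a b c : Ω} (hab : a ≠ b)
    (hbc : b ≠ c) (hac : a ≠ c) (ha : g • a = a) (hb : g • b = b) (hc : g • c = c) : g = 1 :=
  hZ.2.2.1 g a b c hab hbc hac ha hb hc

theorem zas_map_pair (hZ : Cfsg.IsZassenhausGroup G Ω) {a b c d : Ω} (hab : a ≠ b) (hcd : c ≠ d) :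
    ∃ g : G, g • a = c ∧ g • b = d :=
  is_two_pretransitive_iff.mp hZ.2.1 hab hcd

/-- A non-identity element fixing `a ≠ b` fixes exactly those two points. -/
theorem zas_fixed_of_pair (hZ : Cfsg.IsZassenhausGroup G Ω) {g : G} (hg : g ≠ 1) {a b : Ω}
    (hab : a ≠ b) (ha : g • a = a) (hb : g • b = b) : fixedBy Ω g = {a, b} := by
  refine Set.Subset.antisymm (fun c hc => ?_) ?_
  · by_contra h
    simp only [Set.mem_insert_iff, Set.mem_singleton_iff, not_or] at h
    exact hg (zas_eq_one hZ hab (Ne.symm h.2) (Ne.symm h.1) ha hb hc)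
  · rintro x (rfl | rfl) <;> assumption

/-- Some involution interchanges any two given points. -/
theorem zas_exists_swap [Finite G] (hZ : Cfsg.IsZassenhausGroup G Ω) {a b : Ω} (hab : a ≠ b) :
    ∃ s : G, orderOf s = 2 ∧ s • a = b ∧ s • b = a := by
  have := hZ.1
  obtain ⟨g, hga, hgb⟩ := zas_map_pair hZ hab hab.symm
  have : Fact (Nat.Prime 2) := ⟨Nat.prime_two⟩
  have heven : 2 ∣ orderOf g := by
    by_contra h
    obtain ⟨r, hr⟩ : Odd (orderOf g) := Nat.not_even_iff_odd.mp (by rwa [even_iff_two_dvd])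
    have h2 : (g ^ 2) • a = a := by rw [pow_two, mul_smul, hga, hgb]
    have h3 : ((g ^ 2) ^ r) • a = a := smul_pow_fixed (g ^ 2) a h2 r
    have h4 := congrArg (· • a) (pow_orderOf_eq_one g)
    simp only [hr, pow_succ', pow_mul, mul_smul, h3, hga, one_smul] at h4
    exact hab h4.symm
  have hd : 2 ∣ Nat.card G := heven.trans (orderOf_dvd_natCard g)
  obtain ⟨u, hu⟩ := exists_prime_orderOf_dvd_card' 2 hd
  have hu1 : u ≠ 1 := fun e => by simp [e] at hu
  obtain ⟨x, hx⟩ : ∃ x : Ω, u • x ≠ x := by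
    by_contra h
    push Not at h
    exact hu1 (eq_of_smul_eq_smul fun x : Ω => by rw [h x, one_smul])
  obtain ⟨k, hka, hkb⟩ := zas_map_pair hZ (Ne.symm hx) hab
  have huu : u • u • x = x := by
    rw [smul_smul, ← pow_two, ← hu, pow_orderOf_eq_one, one_smul]
  refine ⟨k * u * k⁻¹, ?_, ?_, ?_⟩
  · rw [← hu]
    exact ((MulAut.conj k).orderOf_eq u)
  · rw [← hka, mul_smul, inv_smul_smul, mul_smul, hkb]
  · rw [← hkb, mul_smul, inv_smul_smul, mul_smul, huu, hka]
where
  smul_pow_fixed (g : G) (a : Ω) (h : g • a = a) (r : ℕ) : g ^ r • a = a := by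
    induction r with
    | zero => rw [pow_zero, one_smul]
    | succ r ih => rw [pow_succ, mul_smul, h, ih]

variable [Finite Ω]

theorem zas_ncard_fixedBy_le (hZ : Cfsg.IsZassenhausGroup G Ω) {g : G} (hg : g ≠ 1) :
    Nat.card (fixedBy Ω g) ≤ 2 := by
  rw [Nat.card_coe_set_eq]
  by_contra h
  obtain ⟨a, ha, b, hb, c, hc, hab, hac, hbc⟩ := (Set.two_lt_ncard).mp (Nat.lt_of_not_le h)
  exact hg (zas_eq_one hZ hab hbc hac ha hb hc)

theorem zas_three_le_card (hZ : Cfsg.IsZassenhausGroup G Ω) : 3 ≤ Nat.card Ω := by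
  obtain ⟨g, hg, a, b, hab, ha, hb⟩ := hZ.2.2.2.1
  have := hZ.1
  by_contra h
  refine hg (eq_of_smul_eq_smul fun x : Ω => ?_)
  rw [one_smul]
  by_contra hx
  have hxa : x ≠ a := fun e => hx (e ▸ ha)
  have hxb : x ≠ b := fun e => hx (e ▸ hb)
  have h3 : ({a, b, x} : Set Ω).ncard = 3 :=
    Set.ncard_eq_three.mpr ⟨a, b, x, hab, hxa.symm, hxb.symm, rfl⟩
  have := Set.ncard_le_card ({a, b, x} : Set Ω)
  omega

end Cfsg.Agent.H33
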