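import Mathlib

set_option autoImplicit false

/-!
Criteria for multiple transitivity and prescription of images.
-/

namespace Cfsg.Agent.H33

open MulAction

variable {G α : Type*} [Group G] [MulAction G α]

/-- In a `k`-transitive group the images of at most `k` points may be prescribed. -/
theorem exists_smul_eqOn [Finite α] {k : ℕ} (hG : IsMultiplyPretransitive G α k)
    (hk : k ≤ Nat.card α) (s : Finset α) (hs : s.card ≤ k) (f : α → α) (hf : Set.InjOn f s) :
    ∃ g : G, ∀ x ∈ s, g • x = f x := by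
  have : IsMultiplyPretransitive G α s.card :=
    isMultiplyPretransitive_of_le (n := k) hs hk
  let u : Fin s.card ↪ α := s.equivFin.symm.toEmbedding.trans (Function.Embedding.subtype _)
  let v : Fin s.card ↪ α := ⟨fun i => f (u i), fun i j h => u.injective
    (hf (s.equivFin.symm i).2 (s.equivFin.symm j).2 h)⟩
  obtain ⟨g, hg⟩ := exists_smul_eq G u v
  refine ⟨g, fun x hx => ?_⟩
  have h := DFunLike.congr_fun hg (s.equivFin ⟨x, hx⟩)
  simpa [u, v] using h

/-- Orbit sizes divisible by `r` on an invariant finite set force `r` to divide its size. -/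
theorem dvd_card_of_orbits {r : ℕ} : ∀ (s : Set α), s.Finite →
    (∀ g : G, ∀ y ∈ s, g • y ∈ s) → (∀ y ∈ s, r ∣ (orbit G y).ncard) → r ∣ s.ncard := by
  intro s hs
  induction hn : s.ncard using Nat.strong_induction_on generalizing s with
  | h n ih =>
    intro hinv hdvd
    rcases s.eq_empty_or_nonempty with rfl | ⟨y, hy⟩
    · simp [← hn]
    have hsub : orbit G y ⊆ s := by
      rintro _ ⟨g, rfl⟩
      exact hinv g y hy
    have hcard := Set.ncard_sdiff_add_ncard_of_subset hsub hs
    have hpos : 0 < (orbit G y).ncard :=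
      (Set.ncard_pos (hs.subset hsub)).mpr ⟨y, mem_orbit_self y⟩
    have h := ih (s \ orbit G y).ncard (by omega) (s \ orbit G y) hs.sdiff rfl
      (fun g z hz => ⟨hinv g z hz.1, fun h => hz.2 (by
        simpa using (mem_orbit_of_mem_orbit g⁻¹ h))⟩)
      (fun z hz => hdvd z hz.1)
    rw [← hn, ← hcard]
    exact dvd_add h (hdvd y hy)

/-- Gleason-type argument: the pointwise stabiliser of `t` is transitive outside `t`. -/
theorem fixing_transitive [Finite α] (t : Finset α) {r : ℕ} (hr : 2 ≤ r)
    (h : ∀ x ∉ t, ∃ P : Subgroup G, (∀ g ∈ P, g • x = x ∧ ∀ z ∈ t, g • z = z) ∧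
      ∀ y ∉ t, y ≠ x → r ∣ (orbit P y).ncard)
    {x y : α} (hx : x ∉ t) (hy : y ∉ t) :
    ∃ g : G, (∀ z ∈ t, g • z = z) ∧ g • x = y := by
  by_contra hne
  set O : Set α := {w | ∃ g : G, (∀ z ∈ t, g • z = z) ∧ g • x = w} with hO
  have hOt : ∀ w ∈ O, w ∉ t := by
    rintro w ⟨g, hg, rfl⟩ hw
    have e : g • x = x := MulAction.injective g (hg _ hw)
    exact hx (e ▸ hw)
  have hmul : ∀ (P : Subgroup G), (∀ g ∈ P, ∀ z ∈ t, g • z = z) →
      ∀ g : P, ∀ w ∈ O, g • w ∈ O := by
    rintro P hP g w ⟨k, hk, rfl⟩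
    exact ⟨g * k, fun z hz => by rw [mul_smul, hk z hz, hP g g.2 z hz],
      by rw [mul_smul]; rfl⟩
  obtain ⟨P, hP, hPo⟩ := h x hx
  obtain ⟨Q, hQ, hQo⟩ := h y hy
  have hxO : x ∈ O := ⟨1, fun z _ => one_smul _ _, one_smul _ _⟩
  have h1 : r ∣ (O \ {x}).ncard := by
    refine dvd_card_of_orbits (G := P) _ (Set.toFinite _) (fun g w hw => ⟨?_, ?_⟩)
      (fun w hw => hPo w (hOt w hw.1) hw.2)
    · exact hmul P (fun g hg => (hP g hg).2) g w hw.1
    · intro e
      have e' : g • w = x := e
      exact hw.2 (MulAction.injective g (e'.trans (hP g g.2).1.symm))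
  have h2 : r ∣ O.ncard := by
    refine dvd_card_of_orbits (G := Q) _ (Set.toFinite _)
      (hmul Q (fun g hg => (hQ g hg).2)) (fun w hw => hQo w (hOt w hw) ?_)
    rintro rfl
    exact hne hw
  have h3 := Set.ncard_sdiff_singleton_add_one hxO
  have h4 : r ∣ 1 := by
    rw [← h3] at h2
    exact (Nat.dvd_add_right h1).mp h2
  have := Nat.le_of_dvd one_pos h4
  omega

/-- `k`-transitivity from transitivity of stabilisers of `(k-1)`-subsets. -/
theorem pretransitive_of_fixing [Fintype α] [DecidableEq α] {k : ℕ} (hk : k < Fintype.card α)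
    (h : ∀ t : Finset α, t.card + 1 = k → ∀ x ∉ t, ∀ y ∉ t,
      ∃ g : G, (∀ z ∈ t, g • z = z) ∧ g • x = y) :
    IsMultiplyPretransitive G α k := by
  rw [isMultiplyPretransitive_iff]
  intro x y
  suffices hs : ∀ i ≤ k, ∃ g : G, ∀ j : Fin k, (j : ℕ) < i → g • x j = y j by
    obtain ⟨g, hg⟩ := hs k le_rfl
    exact ⟨g, Function.Embedding.ext fun j => hg j j.2⟩
  intro i
  induction i with
  | zero => exact fun _ => ⟨1, fun j hj => absurd hj (Nat.not_lt_zero _)⟩
  | succ i ih =>
    intro hi
    obtain ⟨g, hg⟩ := ih (by omega)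
    set a := g • x ⟨i, hi⟩ with ha
    set b := y ⟨i, hi⟩ with hb
    set pre : Finset α := (Finset.univ.filter fun j : Fin k => (j : ℕ) < i).image y with hpre
    have hpa : pre ⊆ (Finset.univ \ {a, b} : Finset α) := by
      intro z hz
      obtain ⟨j, hj, rfl⟩ := Finset.mem_image.mp hz
      have hj' : (j : ℕ) < i := (Finset.mem_filter.mp hj).2
      simp only [Finset.mem_sdiff, Finset.mem_univ, true_and, Finset.mem_insert,
        Finset.mem_singleton, not_or]
      refine ⟨fun e => ?_, fun e => ?_⟩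
      · rw [← hg j hj', ha] at e
        have := congrArg Fin.val (x.injective (MulAction.injective g e))
        simp at this; omega
      · have := congrArg Fin.val (y.injective e)
        simp at this; omega
    have hpc : pre.card ≤ k - 1 := by
      refine Finset.card_image_le.trans ?_
      rw [Fin.card_filter_val_lt]
      omega
    have huc : k - 1 ≤ (Finset.univ \ {a, b} : Finset α).card := by
      rw [Finset.card_sdiff_of_subset (Finset.subset_univ _), Finset.card_univ]
      have := Finset.card_le_two (a := a) (b := b)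
      omega
    obtain ⟨t, hpt, htu, htc⟩ := Finset.exists_subsuperset_card_eq hpa hpc huc
    have hab : a ∉ t ∧ b ∉ t := by
      constructor <;> intro hm <;> simpa using htu hm
    obtain ⟨u, hu, huab⟩ := h t (by omega) a hab.1 b hab.2
    refine ⟨u * g, fun j hj => ?_⟩
    rw [mul_smul]
    rcases Nat.lt_succ_iff_lt_or_eq.mp hj with hj' | hj'
    · rw [hg j hj']
      exact hu _ (hpt (Finset.mem_image.mpr ⟨j, Finset.mem_filter.mpr ⟨Finset.mem_univ _, hj'⟩, rfl⟩))
    · have : j = ⟨i, hi⟩ := Fin.ext hj'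
      rw [this]
      exact huab

end Cfsg.Agent.H33
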