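import Cfsg.Prelude.Def_Perm
import Cfsg.Prelude.Def_Characters
import Cfsg.Agent.CharBasic.Complete
import Cfsg.Agent.H32.PermModule
import Mathlib.LinearAlgebra.Matrix.ToLin
import Mathlib.GroupTheory.GroupAction.Quotient

set_option autoImplicit false

/-!
The complex permutation module: intertwiners, multiplicities, orbit counting.
-/

namespace Cfsg.Agent.H33

open Module MulAction
open scoped ComplexConjugate

universe u v

variable {G : Type u} [Group G]

/-- `f` intertwines `σ` with `ρ`. -/
def Eqv {V W : Type*} [AddCommGroup V] [Module ℂ V] [AddCommGroup W] [Module ℂ W]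
    (σ : Representation ℂ G V) (ρ : Representation ℂ G W) (f : V →ₗ[ℂ] W) : Prop :=
  ∀ g v, f (σ g v) = ρ g (f v)

section Basic

variable {V W X : Type*} [AddCommGroup V] [Module ℂ V] [AddCommGroup W] [Module ℂ W]
  [AddCommGroup X] [Module ℂ X]
  {σ : Representation ℂ G V} {ρ : Representation ℂ G W} {τ : Representation ℂ G X}

theorem Eqv.comp {f : V →ₗ[ℂ] W} {h : W →ₗ[ℂ] X} (hh : Eqv ρ τ h) (hf : Eqv σ ρ f) :
    Eqv σ τ (h ∘ₗ f) := fun g v => by
  rw [LinearMap.comp_apply, LinearMap.comp_apply, hf g v, hh g]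

theorem Eqv.sub {f h : V →ₗ[ℂ] W} (hf : Eqv σ ρ f) (hh : Eqv σ ρ h) : Eqv σ ρ (f - h) :=
  fun g v => by rw [LinearMap.sub_apply, LinearMap.sub_apply, hf g v, hh g v, map_sub]

theorem Eqv.smul {f : V →ₗ[ℂ] W} (hf : Eqv σ ρ f) (c : ℂ) : Eqv σ ρ (c • f) :=
  fun g v => by rw [LinearMap.smul_apply, LinearMap.smul_apply, hf g v, map_smul]

theorem eqv_id : Eqv σ σ LinearMap.id := fun _ _ => rfl

theorem eqv_subtype (S : Subrepresentation ρ) :
    Eqv S.toRepresentation ρ S.toSubmodule.subtype := fun _ _ => rfl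

/-- An intertwiner as an element of the intertwining space. -/
def Eqv.toMap {f : V →ₗ[ℂ] W} (hf : Eqv σ ρ f) : Representation.IntertwiningMap σ ρ :=
  ⟨f, fun g => LinearMap.ext (hf g)⟩

theorem eqv_toLinearMap (f : Representation.IntertwiningMap σ ρ) : Eqv σ ρ f.toLinearMap :=
  fun g v => LinearMap.congr_fun (f.isIntertwining' g) v

theorem eqv_injective [σ.IsIrreducible] {f : V →ₗ[ℂ] W} (hf : Eqv σ ρ f) (hne : f ≠ 0) :
    Function.Injective f := by
  let S : Subrepresentation σ := ⟨LinearMap.ker f, fun g v hv => by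
    rw [LinearMap.mem_ker] at hv ⊢
    rw [hf g v, hv, map_zero]⟩
  rw [← LinearMap.ker_eq_bot]
  rcases eq_bot_or_eq_top S with h | h
  · exact congrArg Subrepresentation.toSubmodule h
  · exact absurd (LinearMap.ker_eq_top.mp (congrArg Subrepresentation.toSubmodule h)) hne

end Basic

section Finite

variable [Finite G]
variable {V W : Type*} [AddCommGroup V] [Module ℂ V] [AddCommGroup W] [Module ℂ W]
  [FiniteDimensional ℂ V] [FiniteDimensional ℂ W]
  {σ : Representation ℂ G V} {ρ : Representation ℂ G W}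

omit [FiniteDimensional ℂ V] [FiniteDimensional ℂ W] in
/-- Maschke: an injective intertwiner has an intertwining left inverse. -/
theorem eqv_leftInverse {f : V →ₗ[ℂ] W} (hf : Eqv σ ρ f) (hinj : Function.Injective f) :
    ∃ p : W →ₗ[ℂ] V, Eqv ρ σ p ∧ p ∘ₗ f = LinearMap.id := by
  have := Fintype.ofFinite G
  obtain ⟨L, hL⟩ := f.exists_leftInverse_of_injective (LinearMap.ker_eq_bot.mpr hinj)
  refine ⟨(Fintype.card G : ℂ)⁻¹ • ∑ g : G, σ g⁻¹ ∘ₗ L ∘ₗ ρ g, ?_, ?_⟩
  · intro h w
    simp only [LinearMap.smul_apply, LinearMap.sum_apply, LinearMap.comp_apply, map_smul, map_sum]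
    congr 1
    refine Fintype.sum_equiv (Equiv.mulRight h) _ _ fun g => ?_
    simp only [Equiv.coe_mulRight]
    rw [← Module.End.mul_apply (ρ g), ← map_mul, ← Module.End.mul_apply (σ h), ← map_mul]
    congr 2
    rw [mul_inv_rev, mul_inv_cancel_left]
  · refine LinearMap.ext fun v => ?_
    simp only [LinearMap.smul_apply, LinearMap.sum_apply, LinearMap.comp_apply]
    have : ∀ g : G, σ g⁻¹ (L (ρ g (f v))) = v := fun g => by
      rw [← hf g v, ← LinearMap.comp_apply L f, hL, LinearMap.id_apply, ← Module.End.mul_apply,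
        ← map_mul, inv_mul_cancel, map_one, Module.End.one_apply]
    simp only [this, Finset.sum_const, Finset.card_univ, ← Nat.cast_smul_eq_nsmul ℂ, smul_smul]
    rw [inv_mul_cancel₀ (by simp), one_smul]
    rfl

/-- Intertwiners into a module in which the constituent has multiplicity at most one are
proportional. -/
theorem eqv_unique [Fintype G] (h : Cfsg.classInner ρ.character σ.character = 0 ∨
      Cfsg.classInner ρ.character σ.character = 1)
    {f k : V →ₗ[ℂ] W} (hf : Eqv σ ρ f) (hne : f ≠ 0) (hk : Eqv σ ρ k) :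
    ∃ c : ℂ, k = c • f := by
  rw [CharBasic.classInner_character] at h
  have hle : finrank ℂ (Representation.IntertwiningMap σ ρ) ≤ 1 := by
    rcases h with h | h
    · have : finrank ℂ (Representation.IntertwiningMap σ ρ) = 0 := by exact_mod_cast h
      omega
    · have : finrank ℂ (Representation.IntertwiningMap σ ρ) = 1 := by exact_mod_cast h
      omega
  obtain ⟨e, he⟩ := finrank_le_one_iff.mp hle
  obtain ⟨a, ha⟩ := he hf.toMap
  obtain ⟨b, hb⟩ := he hk.toMap
  have ha' : a • e.toLinearMap = f := congrArg Representation.IntertwiningMap.toLinearMap ha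
  have hb' : b • e.toLinearMap = k := congrArg Representation.IntertwiningMap.toLinearMap hb
  have ha0 : a ≠ 0 := fun h0 => hne (by rw [← ha', h0, zero_smul])
  exact ⟨b / a, by rw [← ha', smul_smul, div_mul_cancel₀ _ ha0, hb']⟩

theorem eqv_eq_zero [Fintype G] (h : Cfsg.classInner ρ.character σ.character = 0)
    {f : V →ₗ[ℂ] W} (hf : Eqv σ ρ f) : f = 0 := by
  rw [CharBasic.classInner_character, Nat.cast_eq_zero] at h
  haveI : Subsingleton (Representation.IntertwiningMap σ ρ) :=
    (Module.finrank_zero_iff (R := ℂ)).mp h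
  exact congrArg Representation.IntertwiningMap.toLinearMap
    (Subsingleton.elim hf.toMap 0)

theorem classInner_ne_zero [Fintype G] {f : V →ₗ[ℂ] W} (hf : Eqv σ ρ f) (hne : f ≠ 0) :
    Cfsg.classInner ρ.character σ.character ≠ 0 := fun h => hne (eqv_eq_zero h hf)

theorem exists_eqv_ne_zero [Fintype G] (h : Cfsg.classInner ρ.character σ.character ≠ 0) :
    ∃ f : V →ₗ[ℂ] W, Eqv σ ρ f ∧ f ≠ 0 := by
  rw [CharBasic.classInner_character, Nat.cast_ne_zero] at h
  haveI : Nontrivial (Representation.IntertwiningMap σ ρ) :=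
    (Module.finrank_pos_iff (R := ℂ)).mp (Nat.pos_of_ne_zero h)
  obtain ⟨f, hf⟩ := exists_ne (0 : Representation.IntertwiningMap σ ρ)
  exact ⟨f.toLinearMap, eqv_toLinearMap f,
    fun h0 => hf (Representation.IntertwiningMap.ext_iff.mpr (by rw [h0]; rfl))⟩

end Finite

/-- A linear map vanishing on all irreducible constituents is zero. -/
theorem eqv_ext [Finite G] {W : Type v} [AddCommGroup W] [Module ℂ W] [FiniteDimensional ℂ W]
    {X : Type*} [AddCommGroup X] [Module ℂ X] (ρ : Representation ℂ G W) (T : W →ₗ[ℂ] X)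
    (h : ∀ (V : Type v) [AddCommGroup V] [Module ℂ V] [FiniteDimensional ℂ V]
      (σ : Representation ℂ G V), σ.IsIrreducible → ∀ f : V →ₗ[ℂ] W, Eqv σ ρ f → T ∘ₗ f = 0) :
    T = 0 := by
  have key := CharBasic.rep_induction (G := G)
    (motive := fun V _ _ _ σ => ∀ f : V →ₗ[ℂ] W, Eqv σ ρ f → T ∘ₗ f = 0)
    (fun V _ _ _ σ hs f _ => LinearMap.ext fun x => by
      rw [Subsingleton.elim x 0, map_zero, map_zero])
    (fun V _ _ _ σ hσ f hf => h V σ hσ f hf)
    (fun V _ _ _ σ S S' hc hS hS' f hf => by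
      refine LinearMap.ext fun x => ?_
      obtain ⟨⟨a, b⟩, rfl⟩ :=
        (Submodule.prodEquivOfIsCompl _ _ (CharBasic.isCompl_toSubmodule hc)).surjective x
      have ha := LinearMap.congr_fun (hS _ (hf.comp (eqv_subtype S))) a
      have hb := LinearMap.congr_fun (hS' _ (hf.comp (eqv_subtype S'))) b
      rw [Submodule.coe_prodEquivOfIsCompl', map_add]
      simp only [LinearMap.comp_apply, Submodule.subtype_apply, LinearMap.zero_apply] at ha hb
      simp [ha, hb])
    W ρ LinearMap.id eqv_id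
  simpa using key

/-- A module with multiplicity-free character has commutative endomorphism ring. -/
theorem eqv_commute [Fintype G] {W : Type v} [AddCommGroup W] [Module ℂ W] [FiniteDimensional ℂ W]
    (ρ : Representation ℂ G W)
    (hm : ∀ χ : G → ℂ, Cfsg.IsIrrCharacter G χ →
      Cfsg.classInner ρ.character χ = 0 ∨ Cfsg.classInner ρ.character χ = 1)
    {S T : W →ₗ[ℂ] W} (hS : Eqv ρ ρ S) (hT : Eqv ρ ρ T) : S ∘ₗ T = T ∘ₗ S := by
  refine sub_eq_zero.mp (eqv_ext ρ _ fun V _ _ _ σ hσ f hf => ?_)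
  rcases eq_or_ne f 0 with rfl | hne
  · rw [LinearMap.comp_zero]
  have hm' := hm _ (CharBasic.isIrrCharacter_character σ)
  obtain ⟨a, ha⟩ := eqv_unique hm' hf hne (hS.comp hf)
  obtain ⟨b, hb⟩ := eqv_unique hm' hf hne (hT.comp hf)
  rw [LinearMap.sub_comp, LinearMap.comp_assoc, hb, LinearMap.comp_smul, ha, LinearMap.comp_assoc,
    ha, LinearMap.comp_smul, hb, smul_comm, sub_self]

/-- Conversely a commutative endomorphism ring forces multiplicity-freeness. -/
theorem multfree_of_commute [Fintype G] {W : Type v} [AddCommGroup W] [Module ℂ W]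
    [FiniteDimensional ℂ W] (ρ : Representation ℂ G W)
    (hc : ∀ S T : W →ₗ[ℂ] W, Eqv ρ ρ S → Eqv ρ ρ T → S ∘ₗ T = T ∘ₗ S)
    (χ : G → ℂ) (hχ : Cfsg.IsIrrCharacter G χ) :
    Cfsg.classInner ρ.character χ = 0 ∨ Cfsg.classInner ρ.character χ = 1 := by
  obtain ⟨n, σ, hσ, rfl⟩ := hχ
  rw [CharBasic.classInner_character]
  suffices finrank ℂ (Representation.IntertwiningMap σ ρ) ≤ 1 by
    rcases Nat.le_one_iff_eq_zero_or_eq_one.mp this with h | h <;> simp [h]
  rw [finrank_le_one_iff]
  by_cases htriv : ∀ w : Representation.IntertwiningMap σ ρ, w = 0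
  · exact ⟨0, fun w => ⟨0, by rw [zero_smul, htriv w]⟩⟩
  push Not at htriv
  obtain ⟨e, he⟩ := htriv
  refine ⟨e, fun w => ?_⟩
  have he' : e.toLinearMap ≠ 0 := fun h0 =>
    he (Representation.IntertwiningMap.ext_iff.mpr (by rw [h0]; rfl))
  set u := e.toLinearMap with hu
  have hue : Eqv σ ρ u := eqv_toLinearMap e
  obtain ⟨p, hp, hpu⟩ := eqv_leftInverse hue (eqv_injective hue he')
  obtain ⟨c, hc'⟩ := CharBasic.schur_scalar σ (p ∘ₗ w.toLinearMap)
    (fun g => LinearMap.ext fun v => (hp.comp (eqv_toLinearMap w)) g v)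
  refine ⟨c, ?_⟩
  by_contra hne
  set v := w.toLinearMap - c • u with hv
  have hve : Eqv σ ρ v := (eqv_toLinearMap w).sub (hue.smul c)
  have hv0 : v ≠ 0 := fun h0 => hne (Representation.IntertwiningMap.ext_iff.mpr (by
    show c • u = w.toLinearMap
    exact (sub_eq_zero.mp h0).symm))
  have hpv : p ∘ₗ v = 0 := by
    rw [hv, LinearMap.comp_sub, LinearMap.comp_smul, hc', hpu, sub_self]
  obtain ⟨q, hq, hqv⟩ := eqv_leftInverse hve (eqv_injective hve hv0)
  obtain ⟨d, hd⟩ := CharBasic.schur_scalar σ (q ∘ₗ u)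
    (fun g => LinearMap.ext fun x => (hq.comp hue) g x)
  set q' := q - d • p with hq'
  have hq'e : Eqv ρ σ q' := hq.sub (hp.smul d)
  have hq'v : q' ∘ₗ v = LinearMap.id := by
    rw [hq', LinearMap.sub_comp, LinearMap.smul_comp, hqv, hpv, smul_zero, sub_zero]
  have hq'u : q' ∘ₗ u = 0 := by
    rw [hq', LinearMap.sub_comp, LinearMap.smul_comp, hd, hpu, sub_self]
  have := congrArg (· ∘ₗ v) (hc (v ∘ₗ p) (u ∘ₗ q') (hve.comp hp) (hue.comp hq'e))
  simp only [LinearMap.comp_assoc, hq'v, LinearMap.comp_id, hpu, hpv, LinearMap.comp_zero] at this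
  exact hv0 this

/-! ### The permutation module -/

variable (G) in
/-- The permutation character. -/
noncomputable def permChar (Ω : Type v) [MulAction G Ω] : G → ℂ :=
  fun g => (Nat.card (fixedBy Ω g) : ℂ)

section Perm

variable {Ω : Type v} [Fintype Ω] [MulAction G Ω]

theorem permRep_character : (Cfsg.permRep ℂ G Ω).character = permChar G Ω := by
  classical
  funext g
  show LinearMap.trace ℂ (Ω → ℂ) (Cfsg.permRep ℂ G Ω g) = _
  rw [LinearMap.trace_eq_matrix_trace ℂ (Pi.basisFun ℂ Ω)]
  simp only [Matrix.trace, Matrix.diag, LinearMap.toMatrix_apply, Pi.basisFun_repr,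
    Pi.basisFun_apply, H32.permRep_apply, Pi.single_apply, inv_smul_eq_iff]
  rw [Finset.sum_boole, permChar, Nat.card_eq_fintype_card, Fintype.card_subtype]
  congr 2
  ext x
  simp [eq_comm]

theorem permChar_one : permChar G Ω 1 = (Fintype.card Ω : ℂ) := by
  rw [permChar, fixedBy_one_eq_univ, Nat.card_eq_fintype_card, Fintype.card_setUniv]

theorem permChar_conj (g : G) : conj (permChar G Ω g) = permChar G Ω g := Complex.conj_natCast _

theorem isCharacter_permChar : Cfsg.IsCharacter G (permChar G Ω) := by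
  rw [← permRep_character]
  exact CharBasic.isCharacter_character _

/-- An invariant kernel gives an equivariant endomorphism. -/
theorem eqv_toLin' [DecidableEq Ω] (M : Matrix Ω Ω ℂ) (hM : ∀ (g : G) x y, M (g • x) (g • y) = M x y) :
    Eqv (Cfsg.permRep ℂ G Ω) (Cfsg.permRep ℂ G Ω) (Matrix.toLin' M) := by
  intro g f
  funext x
  rw [H32.permRep_apply, Matrix.toLin'_apply, Matrix.toLin'_apply]
  simp only [Matrix.mulVec, dotProduct, H32.permRep_apply]
  refine Fintype.sum_equiv (MulAction.toPerm g⁻¹) _ _ fun y => ?_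
  rw [MulAction.toPerm_apply, hM]

/-- The kernel of an equivariant endomorphism is invariant. -/
theorem toMatrix'_invariant [DecidableEq Ω] {T : (Ω → ℂ) →ₗ[ℂ] (Ω → ℂ)}
    (hT : Eqv (Cfsg.permRep ℂ G Ω) (Cfsg.permRep ℂ G Ω) T) (g : G) (x y : Ω) :
    LinearMap.toMatrix' T (g • x) (g • y) = LinearMap.toMatrix' T x y := by
  simp only [LinearMap.toMatrix'_apply]
  have e : (fun j' => if j' = g • y then (1 : ℂ) else 0)
      = Cfsg.permRep ℂ G Ω g (fun j' => if j' = y then (1 : ℂ) else 0) := by
    funext z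
    rw [H32.permRep_apply]
    simp only [inv_smul_eq_iff]
  simp only [← Pi.single_apply] at e ⊢
  have e' : (Pi.single (g • y) (1 : ℂ) : Ω → ℂ) = Cfsg.permRep ℂ G Ω g (Pi.single y 1) := e
  rw [e', hT g, H32.permRep_apply, inv_smul_smul]

end Perm

section Count

variable [Fintype G] {Ω : Type v} [Fintype Ω] [MulAction G Ω]

theorem orbit_card_congr (a : Ω) [IsPretransitive G Ω] :
    Nat.card (stabilizer G a) * Fintype.card Ω = Nat.card G := by
  rw [← Nat.card_eq_fintype_card, ← index_stabilizer_of_transitive G a, Subgroup.card_mul_index]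

theorem classInner_permChar_one [IsPretransitive G Ω] [Nonempty Ω] :
    Cfsg.classInner (permChar G Ω) (fun _ => 1) = 1 := by
  classical
  have h := sum_card_fixedBy_eq_card_orbits_mul_card_group G Ω
  have h1 : Fintype.card (Quotient (orbitRel G Ω)) = 1 := by
    rw [Fintype.card_eq_one_iff_nonempty_unique]
    obtain ⟨a⟩ := ‹Nonempty Ω›
    exact ⟨⟨⟨Quotient.mk _ a⟩, fun q => Quotient.inductionOn q fun b =>
      Quotient.sound (mem_orbit_iff.mpr (exists_smul_eq G a b))⟩⟩
  rw [h1, one_mul] at h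
  rw [CharBasic.classInner_def]
  simp only [permChar, map_one, mul_one, Nat.card_eq_fintype_card]
  rw [← Nat.cast_sum, h, inv_mul_cancel₀ (by simp)]

/-- The rank of a transitive group is the norm of its permutation character. -/
theorem classInner_permChar_self [IsPretransitive G Ω] (a : Ω) :
    Cfsg.classInner (permChar G Ω) (permChar G Ω) =
      (Nat.card (orbitRel.Quotient (stabilizer G a) Ω) : ℂ) := by
  classical
  set r := Nat.card (orbitRel.Quotient (stabilizer G a) Ω) with hr
  let fx : G → ℕ := fun g => Nat.card (fixedBy Ω g)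
  have hb : ∀ b : Ω, (∑ g : G, if g • b = b then fx g else 0) = r * Nat.card (stabilizer G a) := by
    intro b
    obtain ⟨k, hk⟩ := exists_smul_eq G a b
    have e1 : (∑ g : G, if g • b = b then fx g else 0) = ∑ g : G, if g • a = a then fx g else 0 := by
      refine (Fintype.sum_equiv (MulAut.conj k).toEquiv _ _ fun g => ?_).symm
      have hfx : fx (k * g * k⁻¹) = fx g := by
        refine Nat.card_congr ((MulAction.toPerm k).subtypeEquiv fun x => ?_).symm
        simp [mul_smul]
      have hiff : (k * g * k⁻¹) • b = b ↔ g • a = a := by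
        rw [← hk]; simp [mul_smul]
      show _ = if (k * g * k⁻¹) • b = b then fx (k * g * k⁻¹) else 0
      rw [hfx]
      exact if_congr hiff.symm rfl rfl
    rw [e1, ← Finset.sum_filter, Finset.sum_subtype (p := fun g => g ∈ stabilizer G a) _
      (fun g => by simp)]
    have h := sum_card_fixedBy_eq_card_orbits_mul_card_group (stabilizer G a) Ω
    rw [hr, Nat.card_eq_fintype_card, Nat.card_eq_fintype_card]
    convert h using 1
    refine Finset.sum_congr rfl fun g _ => ?_
    rw [← Nat.card_eq_fintype_card]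
    rfl
  have hsum : ∑ g : G, fx g * fx g = r * Nat.card G := by
    calc ∑ g : G, fx g * fx g = ∑ g : G, ∑ b : Ω, if g • b = b then fx g else 0 := by
          refine Finset.sum_congr rfl fun g _ => ?_
          rw [← Finset.sum_filter, Finset.sum_const, smul_eq_mul]
          congr 1
          rw [← Fintype.card_subtype, ← Nat.card_eq_fintype_card]
          rfl
      _ = ∑ b : Ω, ∑ g : G, if g • b = b then fx g else 0 := Finset.sum_comm
      _ = r * Nat.card G := by
          rw [Finset.sum_congr rfl (fun b _ => hb b), Finset.sum_const, Finset.card_univ,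
            smul_eq_mul, ← orbit_card_congr (G := G) a]
          ring
  rw [CharBasic.classInner_def]
  simp only [permChar_conj]
  have : (∑ g : G, permChar G Ω g * permChar G Ω g) = ((∑ g : G, fx g * fx g : ℕ) : ℂ) := by
    push_cast; rfl
  rw [this, hsum, Nat.cast_mul, ← mul_assoc, mul_comm _ (r : ℂ), mul_assoc,
    inv_mul_cancel₀ (by simp [Nat.card_pos.ne']), mul_one]

end Count

end Cfsg.Agent.H33
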