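import Mathlib

/-!
Automorphisms of odd order of generalised quaternion groups.
-/

set_option autoImplicit false

namespace Cfsg.Agent.H33.QuatAut

open QuaternionGroup

/-- The only candidate for an endomorphism of `Q₈` with prescribed values on the generators. -/
def ev (u v : QuaternionGroup 2) : QuaternionGroup 2 → QuaternionGroup 2
  | a i => u ^ i.val
  | xa i => v * u ^ i.val

theorem ev_table : ∀ u v : QuaternionGroup 2, u * u ≠ 1 → v * v ≠ 1 → v ≠ u → v * u ≠ 1 →
    (((ev u v)^[3] (a 1) = a 1 ∧ (ev u v)^[3] (xa 0) = xa 0) ∧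
      ((u = a 1 ∧ v = xa 0) ∨
        u * (a 1)⁻¹ * (ev u v u * u⁻¹) ≠ ev u v u * u⁻¹ * (u * (a 1)⁻¹))) ∨
    ((ev u v)^[4] (a 1) = a 1 ∧ (ev u v)^[4] (xa 0) = xa 0) := by
  decide

theorem generate : ∀ d d' : QuaternionGroup 2, d * d' ≠ d' * d → ∀ g : QuaternionGroup 2,
    g ∈ [1, d, d ^ 2, d ^ 3, d', d * d', d ^ 2 * d', d ^ 3 * d'] := by
  decide

theorem eq_a_one_pow {n : ℕ} [NeZero n] (i : ZMod (2 * n)) :
    (a i : QuaternionGroup n) = a 1 ^ i.val := by
  rw [a_one_pow, ZMod.natCast_val, ZMod.cast_id]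

theorem ext_gens {n : ℕ} [NeZero n] {M : Type*} [Monoid M] {f g : QuaternionGroup n →* M}
    (h1 : f (a 1) = g (a 1)) (h2 : f (xa 0) = g (xa 0)) : f = g := by
  ext x
  rcases x with i | i
  · rw [eq_a_one_pow i, map_pow, map_pow, h1]
  · rw [show (xa i : QuaternionGroup n) = xa 0 * a i by simp, eq_a_one_pow i, map_mul, map_mul,
      map_pow, map_pow, h1, h2]

theorem aut_ext {n : ℕ} [NeZero n] {α β : MulAut (QuaternionGroup n)} (h1 : α (a 1) = β (a 1))
    (h2 : α (xa 0) = β (xa 0)) : α = β :=
  MulEquiv.toMonoidHom_injective (ext_gens (f := α.toMonoidHom) (g := β.toMonoidHom) h1 h2)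

theorem aut_iterate {G : Type*} [Group G] (α : MulAut G) (k : ℕ) (x : G) : (α ^ k) x = (⇑α)^[k] x := by
  induction k with
  | zero => rfl
  | succ k ih => rw [pow_succ', Function.iterate_succ_apply', MulAut.mul_apply, ih]

/-- A non-trivial automorphism of odd order of a generalised quaternion group: the group is `Q₈`,
the automorphism has order three and its commutators generate. -/
theorem quaternion_aut {n : ℕ} (α : MulAut (QuaternionGroup (2 ^ n))) (hodd : Odd (orderOf α))
    (h1 : α ≠ 1) :
    n = 1 ∧ α ^ 3 = 1 ∧ Subgroup.closure (Set.range fun x => α x * x⁻¹) = ⊤ := by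
  have : NeZero (2 ^ n) := ⟨by positivity⟩
  have : NeZero (2 * 2 ^ n) := ⟨by positivity⟩
  by_cases hn : n = 1
  · subst hn
    refine ⟨rfl, ?_⟩
    set u : QuaternionGroup 2 := α (a 1) with hu
    set v : QuaternionGroup 2 := α (xa 0) with hv
    have hev : ∀ x, α x = ev u v x := by
      intro x
      rcases x with i | i
      · show α (a i) = u ^ i.val
        rw [eq_a_one_pow i, map_pow]
      · show α (xa i) = v * u ^ i.val
        rw [show (xa i : QuaternionGroup (2 ^ 1)) = xa 0 * a i by simp, eq_a_one_pow i, map_mul, map_pow]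
    have hit : ∀ k x, (α ^ k) x = (ev u v)^[k] x := fun k x => by
      rw [aut_iterate, show (⇑α : QuaternionGroup 2 → QuaternionGroup 2) = ev u v from funext hev]
    have hne : ∀ {x : QuaternionGroup 2}, x ≠ 1 → α x ≠ 1 := fun hx h =>
      hx (α.injective (h.trans (map_one α).symm))
    have key := ev_table u v
      (by rw [hu, ← map_mul]; exact hne (by decide)) (by rw [hv, ← map_mul]; exact hne (by decide))
      (fun h => absurd (α.injective h) (by decide))
      (by rw [hu, hv, ← map_mul]; exact hne (by decide))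
    rcases key with ⟨⟨h3a, h3b⟩, hcase⟩ | ⟨h4a, h4b⟩
    · have h3 : α ^ 3 = 1 := aut_ext ((hit 3 (a 1)).trans h3a) ((hit 3 (xa 0)).trans h3b)
      refine ⟨h3, ?_⟩
      rcases hcase with ⟨e1, e2⟩ | hnc
      · exact absurd (aut_ext (α := α) (β := 1) e1 e2) h1
      rw [eq_top_iff]
      intro g _
      set S := Subgroup.closure (Set.range fun x => α x * x⁻¹)
      have hd : u * (a 1)⁻¹ ∈ S := Subgroup.subset_closure ⟨a 1, rfl⟩
      have hd' : ev u v u * u⁻¹ ∈ S := Subgroup.subset_closure ⟨u, by
        show α u * u⁻¹ = _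
        rw [hev]⟩
      have hg := generate _ _ hnc g
      simp only [List.mem_cons, List.not_mem_nil, or_false] at hg
      rcases hg with rfl | rfl | rfl | rfl | rfl | rfl | rfl | rfl
      · exact S.one_mem
      · exact hd
      · exact S.pow_mem hd 2
      · exact S.pow_mem hd 3
      · exact hd'
      · exact S.mul_mem hd hd'
      · exact S.mul_mem (S.pow_mem hd 2) hd'
      · exact S.mul_mem (S.pow_mem hd 3) hd'
    · exfalso
      have h4 : α ^ 4 = 1 := aut_ext ((hit 4 (a 1)).trans h4a) ((hit 4 (xa 0)).trans h4b)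
      have hd := orderOf_dvd_of_pow_eq_one h4
      refine h1 (orderOf_eq_one_iff.1 (Nat.eq_one_of_dvd_coprimes ?_ dvd_rfl hd))
      exact (Nat.coprime_two_right.2 hodd).pow_right 2
  · exfalso
    apply h1
    obtain ⟨i, hi⟩ : ∃ i, α (a 1) = a i := by
      rcases h : α (a 1) with i | i
      · exact ⟨i, rfl⟩
      · exfalso
        have := MulEquiv.orderOf_eq α (a 1)
        rw [h, orderOf_xa, orderOf_a_one, show 2 * 2 ^ n = 2 ^ (n + 1) by ring,
          show 4 = 2 ^ 2 from rfl] at this
        have := Nat.pow_right_injective le_rfl this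
        omega
    have hpow : ∀ j, α (a j) = a (i * j) := by
      intro j
      rw [eq_a_one_pow j, map_pow, hi, eq_a_one_pow i, ← pow_mul, a_one_pow, Nat.cast_mul,
        ZMod.natCast_zmod_val, ZMod.natCast_zmod_val]
    have hit : ∀ k : ℕ, (α ^ k) (a 1) = a (i ^ k) := by
      intro k
      induction k with
      | zero => simp
      | succ k ih => rw [pow_succ', MulAut.mul_apply, ih, hpow, pow_succ']
    have hik : i ^ orderOf α = 1 := by
      have := hit (orderOf α)
      rw [pow_orderOf_eq_one, MulAut.one_apply] at this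
      exact (QuaternionGroup.a.inj this).symm
    have hi1 : i = 1 := by
      let iu : (ZMod (2 * 2 ^ n))ˣ := IsUnit.unit (IsUnit.of_pow_eq_one hik hodd.pos.ne')
      have hiu : (iu : ZMod (2 * 2 ^ n)) = i := IsUnit.unit_spec _
      have e1 : orderOf iu ∣ orderOf α := orderOf_dvd_of_pow_eq_one (Units.ext (by rw [Units.val_pow_eq_pow_val, hiu, hik]; rfl))
      have e2 : orderOf iu ∣ Nat.card (ZMod (2 * 2 ^ n))ˣ := orderOf_dvd_natCard iu
      rw [Nat.card_eq_fintype_card, ZMod.card_units_eq_totient] at e2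
      have e3 : Nat.totient (2 * 2 ^ n) = 2 ^ n := by
        rw [show 2 * 2 ^ n = 2 ^ (n + 1) by ring, Nat.totient_prime_pow_succ Nat.prime_two]
        norm_num
      rw [e3] at e2
      have : iu = 1 := orderOf_eq_one_iff.1 (Nat.eq_one_of_dvd_coprimes
        ((Nat.coprime_two_right.2 hodd).pow_right n) e1 e2)
      rw [← hiu, this, Units.val_one]
    have hfix : ∀ j, α (a j) = a j := fun j => by rw [hpow, hi1, one_mul]
    obtain ⟨j, hj⟩ : ∃ j, α (xa 0) = xa j := by
      rcases h : α (xa 0) with j | j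
      · exact absurd (α.injective (h.trans (hfix j).symm)) (by simp)
      · exact ⟨j, rfl⟩
    have hxa : ∀ k : ℕ, (α ^ k) (xa 0) = xa ((k : ZMod (2 * 2 ^ n)) * j) := by
      intro k
      induction k with
      | zero => simp
      | succ k ih =>
        rw [pow_succ', MulAut.mul_apply, ih, show (xa ((k : ZMod (2 * 2 ^ n)) * j) : QuaternionGroup (2 ^ n))
          = xa 0 * a ((k : ZMod (2 * 2 ^ n)) * j) by simp, map_mul, hj, hfix]
        simp only [xa_mul_a, Nat.cast_succ]
        congr 1
        ring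
    have hj0 : j = 0 := by
      have := hxa (orderOf α)
      rw [pow_orderOf_eq_one, MulAut.one_apply] at this
      have h0 : ((orderOf α : ℕ) : ZMod (2 * 2 ^ n)) * j = 0 := (QuaternionGroup.xa.inj this).symm
      have hu : IsUnit ((orderOf α : ℕ) : ZMod (2 * 2 ^ n)) := by
        rw [ZMod.isUnit_iff_coprime, show 2 * 2 ^ n = 2 ^ (n + 1) by ring]
        exact (Nat.coprime_two_right.2 hodd).pow_right _
      exact hu.mul_right_eq_zero.1 h0
    exact aut_ext (hfix 1) (by rw [hj, hj0]; rfl)

end Cfsg.Agent.H33.QuatAut
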