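import Mathlib

/-!
The rational group ring of a cyclic group of prime order, and two-by-two idempotents over it.
-/

set_option autoImplicit false
set_option linter.unusedSectionVars false

namespace Cfsg.Agent.H33.PrimeRing

open AddMonoidAlgebra Polynomial

/-- The group ring. -/
abbrev R (p : ℕ) : Type := AddMonoidAlgebra ℚ (ZMod p)

variable {p : ℕ} [NeZero p]

/-- The element with given coefficients. -/
noncomputable def mk (f : ZMod p → ℚ) : R p := ∑ y, AddMonoidAlgebra.single y (f y)

theorem mk_coeff (f : ZMod p → ℚ) (y : ZMod p) : (mk f).coeff y = f y := by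
  classical
  simp [mk, AddMonoidAlgebra.coeff_sum, AddMonoidAlgebra.coeff_single, Finsupp.finsetSum_apply,
    Finsupp.single_apply]

theorem ext_coeff {a b : R p} (h : ∀ y, a.coeff y = b.coeff y) : a = b :=
  AddMonoidAlgebra.coeff_injective (Finsupp.ext h)

theorem mk_coeff_self (a : R p) : mk (fun y => a.coeff y) = a := ext_coeff fun y => mk_coeff _ y

theorem mk_add (f g : ZMod p → ℚ) : mk (fun y => f y + g y) = mk f + mk g := by
  simp [mk, Finset.sum_add_distrib, AddMonoidAlgebra.single_add]

theorem mk_mul (f g : ZMod p → ℚ) :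
    mk f * mk g = mk (fun y => ∑ z, f z * g (y - z)) := by
  classical
  refine ext_coeff fun y => ?_
  rw [mk_coeff, mk, mk, Finset.sum_mul, AddMonoidAlgebra.coeff_sum, Finsupp.finsetSum_apply]
  refine Finset.sum_congr rfl fun z _ => ?_
  rw [Finset.mul_sum, AddMonoidAlgebra.coeff_sum, Finsupp.finsetSum_apply,
    Finset.sum_eq_single (y - z)]
  · simp [AddMonoidAlgebra.coeff_single]
  · intro w _ hw
    rw [AddMonoidAlgebra.single_mul_single, AddMonoidAlgebra.coeff_single, Finsupp.single_eq_of_ne]
    intro e
    exact hw (by rw [e, add_sub_cancel_left])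
  · simp

theorem coeff_zero_mul (a b : R p) : (a * b).coeff 0 = ∑ y, a.coeff y * b.coeff (-y) := by
  conv_lhs => rw [← mk_coeff_self a, ← mk_coeff_self b, mk_mul, mk_coeff]
  simp

/-- The augmentation. -/
noncomputable def eps : R p →ₐ[ℚ] ℚ := AddMonoidAlgebra.lift ℚ ℚ (ZMod p) 1

theorem eps_mk (f : ZMod p → ℚ) : eps (mk f) = ∑ y, f y := by
  simp [eps, mk, map_sum, AddMonoidAlgebra.lift_single]

/-- A primitive root of unity. -/
noncomputable def zeta (p : ℕ) : ℂ := Complex.exp (2 * Real.pi * Complex.I / p)

theorem zeta_prim : IsPrimitiveRoot (zeta p) p := Complex.isPrimitiveRoot_exp p (NeZero.ne p)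

/-- A non-trivial character of the group ring. -/
noncomputable def chi : R p →ₐ[ℚ] ℂ :=
  AddMonoidAlgebra.lift ℚ ℂ (ZMod p) (AddChar.zmodChar p (zeta_prim (p := p)).pow_eq_one).toMonoidHom

theorem chi_mk (f : ZMod p → ℚ) : chi (mk f) = ∑ y : ZMod p, (f y : ℂ) * zeta p ^ y.val := by
  simp [chi, mk, map_sum, AddMonoidAlgebra.lift_single, AddChar.zmodChar_apply, Rat.smul_def]

theorem coeff_const [hp : Fact p.Prime] {a : R p} (h : chi a = 0) (y : ZMod p) :
    a.coeff y = a.coeff 0 := by
  classical
  rw [← mk_coeff_self a, chi_mk] at h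
  let P : ℚ[X] := ∑ y : ZMod p, monomial y.val (a.coeff y)
  have hP : aeval (zeta p) P = 0 := by
    rw [← h]
    simp [P, map_sum, aeval_monomial]
  have hcoeff : ∀ z : ZMod p, P.coeff z.val = a.coeff z := by
    intro z
    simp only [P, finsetSum_coeff, coeff_monomial]
    rw [Finset.sum_eq_single z]
    · simp
    · intro w _ hw
      rw [if_neg]
      exact fun e => hw (ZMod.val_injective p e)
    · simp
  have hdeg : P.natDegree ≤ p - 1 :=
    natDegree_sum_le_of_forall_le _ _ fun z _ =>
      (natDegree_monomial_le _).trans (by have := z.val_lt; omega)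
  have hdvd : cyclotomic p ℚ ∣ P := by
    rw [cyclotomic_eq_minpoly_rat zeta_prim hp.out.pos]
    exact minpoly.dvd ℚ _ hP
  obtain ⟨Q, hQ⟩ := hdvd
  have hQ0 : Q.natDegree = 0 := by
    by_cases hz : Q = 0
    · rw [hz, natDegree_zero]
    rw [hQ, natDegree_mul (cyclotomic_ne_zero _ _) hz, natDegree_cyclotomic, Nat.totient_prime hp.out] at hdeg
    omega
  obtain ⟨c, rfl⟩ := natDegree_eq_zero.1 hQ0
  have hall : ∀ z : ZMod p, a.coeff z = c := by
    intro z
    rw [← hcoeff z, hQ, cyclotomic_prime, coeff_mul_C, finsetSum_coeff]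
    simp [coeff_X_pow, z.val_lt]
  rw [hall y, hall 0]

theorem eq_zero_of_chi [hp : Fact p.Prime] {a : R p} (h : chi a = 0) (he : eps a = 0) : a = 0 := by
  refine ext_coeff fun y => ?_
  rw [← mk_coeff_self a, eps_mk, Finset.sum_congr rfl (fun z _ => coeff_const h z),
    Finset.sum_const, Finset.card_univ, ZMod.card, nsmul_eq_mul] at he
  rcases mul_eq_zero.1 he with h1 | h1
  · exact absurd h1 (Nat.cast_ne_zero.2 (NeZero.ne p))
  · rw [coeff_const h, h1]; simp

section Idempotent

variable {S : Type*} [CommRing S]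

theorem trace_cases {K : Type*} [Field K] {a b c d : K} (h00 : a * a + b * c = a)
    (h01 : a * b + b * d = b) (h10 : c * a + d * c = c) (h11 : c * b + d * d = d) :
    a + d = 0 ∨ a + d = 1 ∨ a + d = 2 := by
  by_cases h : a + d = 1
  · exact Or.inr (Or.inl h)
  have hb : b = 0 := by
    have : b * (a + d - 1) = 0 := by linear_combination h01
    exact (mul_eq_zero.1 this).resolve_right (sub_ne_zero.2 h)
  have ha : a * (a - 1) = 0 := by linear_combination h00 - c * hb
  have hd : d * (d - 1) = 0 := by linear_combination h11 - c * hb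
  rcases mul_eq_zero.1 ha with ha | ha <;> rcases mul_eq_zero.1 hd with hd | hd
  · exact Or.inl (by linear_combination ha + hd)
  · exact absurd (by linear_combination ha + hd) h
  · exact absurd (by linear_combination ha + hd) h
  · exact Or.inr (Or.inr (by linear_combination ha + hd))

/-- A matrix `X` killed on both sides by an idempotent of trace one is a multiple of the complement. -/
theorem shape_of_killed {e00 e01 e10 e11 x00 x01 x10 x11 : S} (htr : e00 + e11 = 1)
    (r11 : x10 * e01 + x11 * e11 = 0) (r10 : x10 * e00 + x11 * e10 = 0)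
    (r01 : x00 * e01 + x01 * e11 = 0)
    (l00 : e00 * x00 + e01 * x10 = 0) (l01 : e00 * x01 + e01 * x11 = 0)
    (l10 : e10 * x00 + e11 * x10 = 0) :
    x00 = (x00 + x11) * e11 ∧ x11 = (x00 + x11) * e00 ∧ x01 = -((x00 + x11) * e01) ∧
      x10 = -((x00 + x11) * e10) := by
  have key : x00 * e00 = x11 * e11 := by linear_combination l00 - r11
  exact ⟨by linear_combination key - x00 * htr, by linear_combination -key - x11 * htr,
    by linear_combination r01 + l01 - x01 * htr, by linear_combination r10 + l10 - x10 * htr⟩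

/-- Trace of the product of two elements acting as scalars on the image of the idempotent. -/
theorem trace_product {e00 e01 e10 e11 m00 m01 m10 m11 n00 n01 n10 n11 t s : S} (htr : e00 + e11 = 1)
    (hdet : e00 * e11 = e01 * e10)
    (hm00 : m00 - t = (m00 + m11 - 2 * t) * e11) (hm11 : m11 - t = (m00 + m11 - 2 * t) * e00)
    (hm01 : m01 = -((m00 + m11 - 2 * t) * e01)) (hm10 : m10 = -((m00 + m11 - 2 * t) * e10))
    (hn00 : n00 - s = (n00 + n11 - 2 * s) * e11) (hn11 : n11 - s = (n00 + n11 - 2 * s) * e00)
    (hn01 : n01 = -((n00 + n11 - 2 * s) * e01)) (hn10 : n10 = -((n00 + n11 - 2 * s) * e10)) :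
    m00 * n00 + m01 * n10 + m10 * n01 + m11 * n11 =
      t * s + (m00 + m11 - t) * (n00 + n11 - s) := by
  set m := m00 + m11 - 2 * t with hm
  set n := n00 + n11 - 2 * s with hn
  have a00 : m00 = t + m * e11 := by linear_combination hm00
  have a11 : m11 = t + m * e00 := by linear_combination hm11
  have b00 : n00 = s + n * e11 := by linear_combination hn00
  have b11 : n11 = s + n * e00 := by linear_combination hn11
  rw [show m00 + m11 - t = m + t by rw [hm]; ring, show n00 + n11 - s = n + s by rw [hn]; ring,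
    a00, a11, b00, b11, hm01, hm10, hn01, hn10]
  linear_combination (t * n + s * m + m * n * (e00 + e11 + 1)) * htr - 2 * m * n * hdet

end Idempotent

end Cfsg.Agent.H33.PrimeRing
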