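import Mathlib
import Cfsg.Agent.Unitary.TIFrames

/-!
# Hermitian forms over finite fields: coordinates and Witt's lemma

An involutive non-identity automorphism of a finite field is `x ↦ x ^ q` with `card F = q ^ 2`;
a non-degenerate Hermitian form has an orthonormal basis; Witt's lemma for `hermForm`.
-/

set_option autoImplicit false
set_option linter.unusedSectionVars false

namespace Cfsg.Agent.H33

open Cfsg Matrix Cfsg.Agent.Unitary

/-- A non-identity involutive automorphism of a finite field is `x ↦ x ^ q`, `card F = q ^ 2`. -/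
theorem exists_card_eq_sq {F : Type*} [Field F] [Fintype F] (σ : F →+* F)
    (hσ : σ ≠ RingHom.id F) (hσ2 : ∀ a : F, σ (σ a) = a) :
    ∃ q : ℕ, Fintype.card F = q ^ 2 ∧ ∀ x, σ x = x ^ q := by
  obtain ⟨p, hp⟩ := CharP.exists F
  have : Fact p.Prime := ⟨CharP.char_is_prime F p⟩
  letI : Algebra (ZMod p) F := ZMod.algebra F p
  have hc : ∀ k : ZMod p, σ (algebraMap (ZMod p) F k) = algebraMap (ZMod p) F k := fun k =>
    RingHom.congr_fun (Subsingleton.elim (σ.comp (algebraMap (ZMod p) F)) (algebraMap (ZMod p) F)) k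
  let e : Gal(F/ZMod p) := AlgEquiv.ofRingEquiv
    (f := RingEquiv.ofRingHom σ σ (RingHom.ext hσ2) (RingHom.ext hσ2)) hc
  obtain ⟨j, hj⟩ := (FiniteField.bijective_frobeniusAlgEquivOfAlgebraic_pow (ZMod p) F).2 e
  set φ := FiniteField.frobeniusAlgEquivOfAlgebraic (ZMod p) F with hφ
  have hord : orderOf φ = Module.finrank (ZMod p) F :=
    FiniteField.orderOf_frobeniusAlgEquivOfAlgebraic (ZMod p) F
  change φ ^ (j : ℕ) = e at hj
  have h2 : φ ^ (2 * (j : ℕ)) = 1 := by
    rw [mul_comm, pow_mul, hj, pow_two]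
    exact AlgEquiv.ext fun x => hσ2 x
  have hdvd := orderOf_dvd_of_pow_eq_one h2
  rw [hord] at hdvd
  have hj0 : (j : ℕ) ≠ 0 := by
    intro h0
    rw [h0, pow_zero] at hj
    exact hσ (RingHom.ext fun x => (congrArg (fun f : Gal(F/ZMod p) => f x) hj).symm)
  have hlt := j.isLt
  have hd : Module.finrank (ZMod p) F = 2 * (j : ℕ) := by
    obtain ⟨c, hc'⟩ := hdvd
    have hc0 : c ≠ 0 := by rintro rfl; omega
    have : c = 1 := by
      by_contra hc1
      have h2c : 2 ≤ c := by omega
      have := Nat.mul_le_mul (le_refl (Module.finrank (ZMod p) F)) h2c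
      omega
    rw [this, mul_one] at hc'
    omega
  refine ⟨p ^ (j : ℕ), ?_, fun x => ?_⟩
  · rw [Module.card_eq_pow_finrank (K := ZMod p) (V := F), ZMod.card, ← pow_mul]
    exact congrArg (p ^ ·) (hd.trans (mul_comm _ _))
  · have h := congrArg (fun f : Gal(F/ZMod p) => f x) hj
    simp only [AlgEquiv.coe_pow, hφ, FiniteField.coe_frobeniusAlgEquivOfAlgebraic_iterate,
      ZMod.card] at h
    exact h.symm

section Basis

variable {F V : Type*} [Field F] [Fintype F] [AddCommGroup V] [Module F V] [FiniteDimensional F V]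
  {σ : F →+* F}

/-- In a subspace with non-degenerate form there is a vector of norm one. -/
theorem exists_self_one (hσ : σ ≠ RingHom.id F) (hσ2 : ∀ a : F, σ (σ a) = a)
    (B : V →ₛₗ[σ] V →ₗ[F] F) (hS : B.IsSymm) {W : Submodule F V}
    (hW : ∀ u ∈ W, (∀ v ∈ W, B u v = 0) → u = 0) (hne : W ≠ ⊥) : ∃ v ∈ W, B v v = 1 := by
  obtain ⟨v, hvW, hv⟩ : ∃ v ∈ W, B v v ≠ 0 := by
    by_contra hcon
    push Not at hcon
    obtain ⟨u, huW, hu⟩ := W.exists_mem_ne_zero_of_ne_bot hne
    apply hu
    refine hW u huW fun v hv => ?_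
    by_contra huv
    have key : ∀ a : F, a + σ a = 0 := by
      intro a
      have h1 := hcon _ (W.add_mem huW (W.smul_mem (a / B u v) hv))
      simp only [map_add, LinearMap.add_apply, map_smulₛₗ, LinearMap.smul_apply, smul_eq_mul,
        RingHom.id_apply, hcon u huW, hcon v hv, mul_zero, add_zero, zero_add] at h1
      rw [← hS.eq u v, div_mul_cancel₀ a huv, ← map_mul, div_mul_cancel₀ a huv] at h1
      linear_combination h1
    have h2 : (1 : F) + 1 = 0 := by simpa using key 1
    refine hσ (RingHom.ext fun a => ?_)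
    have := key a
    rw [RingHom.id_apply]
    linear_combination this - a * h2
  obtain ⟨q, hq, hσq⟩ := exists_card_eq_sq σ hσ hσ2
  obtain ⟨l, hl⟩ := exists_norm_eq hq (a := (B v v)⁻¹) (by
    rw [inv_pow, ← hσq, hS.eq])
  refine ⟨l • v, W.smul_mem l hvW, ?_⟩
  simp only [map_smulₛₗ, LinearMap.smul_apply, smul_eq_mul, RingHom.id_apply]
  rw [← mul_assoc, hσq, hl, inv_mul_cancel₀ hv]

/-- A non-degenerate Hermitian form has an orthonormal basis. -/
theorem exists_orthonormal (hσ : σ ≠ RingHom.id F) (hσ2 : ∀ a : F, σ (σ a) = a)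
    (B : V →ₛₗ[σ] V →ₗ[F] F) (hS : B.IsSymm) (hB : B.Nondegenerate) :
    ∃ b : Module.Basis (Fin (Module.finrank F V)) F V,
      ∀ i j, B (b i) (b j) = if i = j then 1 else 0 := by
  suffices h : ∀ (d : ℕ) (W : Submodule F V), Module.finrank F W = d →
      (∀ u ∈ W, (∀ v ∈ W, B u v = 0) → u = 0) →
      ∃ f : Fin d → V, (∀ i, f i ∈ W) ∧ (∀ i j, B (f i) (f j) = if i = j then 1 else 0) ∧
        LinearIndependent F f by
    obtain ⟨f, -, hf, hind⟩ := h (Module.finrank F V) ⊤ (finrank_top F V)
      (fun u _ hu => hB.1 u fun v => hu v trivial)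
    refine ⟨basisOfLinearIndependentOfCardEqFinrank' f hind (Fintype.card_fin _), fun i j => ?_⟩
    simpa using hf i j
  intro d
  induction d with
  | zero => exact fun W _ _ => ⟨Fin.elim0, fun i => i.elim0, fun i => i.elim0, linearIndependent_empty_type⟩
  | succ d ih =>
    intro W hd hW
    have hne : W ≠ ⊥ := fun h => by rw [h, finrank_bot] at hd; omega
    obtain ⟨v, hvW, hv⟩ := exists_self_one hσ hσ2 B hS hW hne
    let W' : Submodule F V := W ⊓ LinearMap.ker (B v)
    have hsplit : ∀ x ∈ W, x - B v x • v ∈ W' := by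
      intro x hx
      refine ⟨W.sub_mem hx (W.smul_mem _ hvW), ?_⟩
      change B v (x - B v x • v) = 0
      rw [map_sub, map_smul, hv, smul_eq_mul, mul_one, sub_self]
    have hlt : Module.finrank F W' = d := by
      have hdis : Disjoint (Submodule.span F {v}) W' := by
        rw [Submodule.disjoint_def]
        intro x hx hx'
        obtain ⟨c, rfl⟩ := Submodule.mem_span_singleton.1 hx
        have := hx'.2
        change B v (c • v) = 0 at this
        rw [map_smul, hv, smul_eq_mul, mul_one] at this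
        rw [this, zero_smul]
      have hsup : Submodule.span F {v} ⊔ W' = W := by
        refine le_antisymm (sup_le ((Submodule.span_singleton_le_iff_mem _ _).2 hvW) inf_le_left) ?_
        intro x hx
        rw [← add_sub_cancel (B v x • v) x]
        exact Submodule.add_mem_sup (Submodule.smul_mem _ _ (Submodule.mem_span_singleton_self v))
          (hsplit x hx)
      have h1 := Submodule.finrank_sup_add_finrank_inf_eq (Submodule.span F {v}) W'
      have hv0 : v ≠ 0 := fun h0 => by simp [h0] at hv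
      rw [hsup, hd, hdis.eq_bot, finrank_bot, finrank_span_singleton hv0] at h1
      omega
    have hW' : ∀ u ∈ W', (∀ x ∈ W', B u x = 0) → u = 0 := by
      intro u hu h
      refine hW u hu.1 fun x hx => ?_
      have h1 := h _ (hsplit x hx)
      have h2 : B u v = 0 := by
        rw [← hS.eq v u, show B v u = 0 from hu.2, map_zero]
      rwa [map_sub, map_smul, h2, smul_zero, sub_zero] at h1
    obtain ⟨f, hfW, hf, hind⟩ := ih W' hlt hW'
    have hfv : ∀ i, B v (f i) = 0 := fun i => (hfW i).2
    have hvf : ∀ i, B (f i) v = 0 := fun i => by rw [← hS.eq v (f i), hfv, map_zero]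
    have hON : ∀ i j, B ((Fin.cons v f : Fin (d + 1) → V) i) ((Fin.cons v f : Fin (d + 1) → V) j)
        = if i = j then 1 else 0 := by
      intro i j
      refine Fin.cases ?_ (fun i => ?_) i <;> refine Fin.cases ?_ (fun j => ?_) j
      · simpa using hv
      · simpa [(Fin.succ_ne_zero j).symm] using hfv j
      · simpa [Fin.succ_ne_zero i] using hvf i
      · simpa using hf i j
    refine ⟨Fin.cons v f, Fin.cases (by simpa using hvW) (fun i => by simpa using (hfW i).1), hON, ?_⟩
    rw [Fintype.linearIndependent_iff]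
    intro c hc i
    have := congrArg (B ((Fin.cons v f : Fin (d + 1) → V) i)) hc
    simpa [hON] using this

end Basis

section Witt

variable {F : Type*} [Field F] [Fintype F] {n q : ℕ}

/-- Witt's lemma for the standard Hermitian form. -/
theorem witt_hermForm (hF : Fintype.card F = q ^ 2) (X : Submodule F (Fin n → F))
    (φ : X →ₗ[F] (Fin n → F)) (hinj : Function.Injective φ)
    (hφ : ∀ x y : X, hermForm n F q (φ x) (φ y) = hermForm n F q (x : Fin n → F) y) :
    ∃ g : GU n F q, ∀ x : X, gap g (x : Fin n → F) = φ x := by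
  let R : Submodule F (Fin n → F) := X ⊓ perp q (X : Set (Fin n → F))
  obtain ⟨C, hC⟩ := R.exists_isCompl
  let X0 : Submodule F (Fin n → F) := X ⊓ C
  have hsplit : ∀ x ∈ X, ∃ a ∈ R, ∃ b ∈ X0, a + b = x := by
    intro x hx
    obtain ⟨a, ha, b, hb, rfl⟩ := Submodule.mem_sup.1 (hC.sup_eq_top.symm ▸ Submodule.mem_top (x := x))
    exact ⟨a, ha, b, ⟨(X.add_mem_iff_right ha.1).1 hx, hb⟩, rfl⟩
  have hX0 : Nondeg q X0 := by
    intro u hu h
    have huR : u ∈ R := by
      refine ⟨hu.1, fun s hs => ?_⟩
      obtain ⟨a, ha, b, hb, rfl⟩ := hsplit s hs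
      rw [herm_add_right hF, h b hb, add_zero]
      exact (herm_eq_zero_symm hF).1 (ha.2 u hu.1)
    exact Submodule.disjoint_def.1 hC.disjoint u huR hu.2
  obtain ⟨f, hf, hfs⟩ := exists_ON_basis hF X0 hX0
  let r := fun i => ((Module.finBasis F R) i : Fin n → F)
  have hfX : ∀ i, f i ∈ X := fun i => (hfs ▸ Submodule.subset_span ⟨i, rfl⟩ : f i ∈ X0).1
  have hrR : ∀ i, r i ∈ R := fun i => ((Module.finBasis F R) i).2
  have hrX : ∀ i, r i ∈ X := fun i => (hrR i).1
  let f' := fun i => φ ⟨f i, hfX i⟩
  let r' := fun i => φ ⟨r i, hrX i⟩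
  have hf' : ON q f' := fun i j => (hφ _ _).trans (hf i j)
  have hrr : ∀ i j, hermForm n F q (r i) (r j) = 0 := fun i j => (hrR i).2 _ (hrX j)
  have hrf : ∀ i j, hermForm n F q (r i) (f j) = 0 := fun i j => (hrR i).2 _ (hfX j)
  have hrind : LinearIndependent F r :=
    (Module.finBasis F R).linearIndependent.map' R.subtype R.ker_subtype
  have hr'ind : LinearIndependent F r' := by
    have h : LinearIndependent F (fun i => (⟨r i, hrX i⟩ : X)) :=
      LinearIndependent.of_comp X.subtype hrind
    exact h.map' φ (LinearMap.ker_eq_bot.2 hinj)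
  obtain ⟨g1, hg1⟩ := exists_GU_map_ON hF hf hf'
  change ∀ i, gap g1 (f i) = f' i at hg1
  let r1 := fun i => gap g1 (r i)
  have hr1ind : LinearIndependent F r1 := by
    have h : r1 = (Matrix.mulVecLin (gmat g1)) ∘ r := rfl
    rw [h]
    exact hrind.map' _ (LinearMap.ker_eq_bot.2 (gap_injective g1))
  obtain ⟨d, e, he, hes⟩ : ∃ (d : ℕ) (e : Fin d → Fin n → F), ON q (Sum.elim f' e) ∧
      Submodule.span F (Set.range e) = perp q (Set.range f') := ⟨_, hf'.exists_extend hF⟩
  have heON : ON q e := fun i j => by simpa using he (Sum.inr i) (Sum.inr j)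
  have hfe : ∀ i j, hermForm n F q (f' i) (e j) = 0 := fun i j => by
    simpa using he (Sum.inl i) (Sum.inr j)
  let L : (Fin d → F) →ₗ[F] (Fin n → F) := Fintype.linearCombination F e
  have hL : ∀ w, L w = ∑ i, w i • e i := fun w => Fintype.linearCombination_apply F e w
  have hLh : ∀ w w', hermForm n F q (L w) (L w') = hermForm d F q w w' := by
    intro w w'
    rw [hL w', herm_sum_right hF]
    unfold hermForm
    refine Finset.sum_congr rfl fun j _ => ?_
    have := heON.coeff w j
    unfold hermForm at this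
    rw [hL]
    show hermForm n F q _ _ = _
    rw [herm_smul_right, mul_comm]
    exact congrArg (· * w' j ^ q) (heON.coeff w j)
  let co : (Fin n → F) → (Fin d → F) := fun x j => hermForm n F q x (e j)
  have hco : ∀ x, (∀ i, hermForm n F q x (f' i) = 0) → L (co x) = x := by
    intro x hx
    rw [hL]
    refine heON.proj_eq_self hF ?_
    rw [hes]
    rintro _ ⟨i, rfl⟩
    exact hx i
  have h1 : ∀ i j, hermForm n F q (r1 i) (f' j) = 0 := fun i j => by
    rw [← hg1, herm_gap, hrf]
  have h2 : ∀ i j, hermForm n F q (r' i) (f' j) = 0 := fun i j => (hφ _ _).trans (hrf i j)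
  have mk : ∀ (s : Fin (Module.finrank F R) → Fin n → F), LinearIndependent F s →
      (∀ i j, hermForm n F q (s i) (f' j) = 0) → (∀ i j, hermForm n F q (s i) (s j) = 0) →
      LinearIndependent F (fun i => co (s i)) ∧
        ∀ i j, hermForm d F q (co (s i)) (co (s j)) = 0 := by
    intro s hs hsf hss
    constructor
    · apply LinearIndependent.of_comp L
      have : (L ∘ fun i => co (s i)) = s := funext fun i => hco _ (hsf i)
      rwa [this]
    · intro i j
      rw [← hLh, hco _ (hsf i), hco _ (hsf j), hss]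
  have hr1 := mk r1 hr1ind h1 (fun i j => by rw [herm_gap, hrr])
  have hr' := mk r' hr'ind h2 (fun i j => (hφ _ _).trans (hrr i j))
  obtain ⟨g, hg⟩ := exists_GU_map_TIFrame hF (n := d) ⟨_, hr1⟩ ⟨_, hr'⟩
  let E := fun j : Fin d => L (gap g (Pi.single j 1))
  have hEf : ∀ i j, hermForm n F q (E j) (f' i) = 0 := by
    intro i j
    simp only [E, hL, herm_sum_left, herm_smul_left, (herm_eq_zero_symm hF).1 (hfe i _), mul_zero,
      Finset.sum_const_zero]
  have hEON : ON q (Sum.elim f' E) := hf'.sum_elim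
    (fun i j => by rw [hLh, herm_gap, herm_single_single hF])
    (fun i j => (herm_eq_zero_symm hF).1 (hEf i j)) (fun i j => hEf j i)
  have hs : ⊤ ≤ Submodule.span F (Set.range (Sum.elim f' e)) := by
    rw [Set.Sum.elim_range, Submodule.span_union, hes, (hf'.isCompl hF).sup_eq_top]
  obtain ⟨g2, hg2⟩ := exists_isometry_of_gram hF he.linearIndependent hs
    (b := Sum.elim f' E) (fun i j => by rw [hEON, he])
  change ∀ i, gap g2 (Sum.elim f' e i) = Sum.elim f' E i at hg2
  have hg2L : ∀ w, gap g2 (L w) = L (gap g w) := by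
    intro w
    conv_rhs => rw [pi_eq_sum_univ' w, gap_sum, map_sum]
    rw [hL, gap_sum]
    refine Finset.sum_congr rfl fun j _ => ?_
    rw [map_smul]
    exact congrArg (w j • ·) (hg2 (Sum.inr j))
  have hg2r : ∀ i, gap g2 (r1 i) = r' i := by
    intro i
    rw [← hco _ (h1 i), hg2L, hg i, hco _ (h2 i)]
  refine ⟨g2 * g1, ?_⟩
  let T : X →ₗ[F] (Fin n → F) := (Matrix.mulVecLin (gmat (g2 * g1))).comp X.subtype
  suffices hT : T = φ from fun x => LinearMap.congr_fun hT x
  refine LinearMap.ext_on_range (v := Sum.elim (fun i => (⟨f i, hfX i⟩ : X)) (fun i => ⟨r i, hrX i⟩)) ?_ ?_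
  · rw [← (Submodule.map_injective_of_injective X.injective_subtype).eq_iff, Submodule.map_span,
      Submodule.map_subtype_top, ← Set.range_comp]
    have : X.subtype ∘ Sum.elim (fun i => (⟨f i, hfX i⟩ : X)) (fun i => ⟨r i, hrX i⟩) = Sum.elim f r := by
      funext i; rcases i with i | i <;> rfl
    rw [this, Set.Sum.elim_range, Submodule.span_union, hfs]
    have hrs : Submodule.span F (Set.range r) = R := by
      rw [show r = R.subtype ∘ Module.finBasis F R from rfl, Set.range_comp, ← Submodule.map_span,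
        (Module.finBasis F R).span_eq, Submodule.map_subtype_top]
    rw [hrs]
    refine le_antisymm (sup_le inf_le_left inf_le_left) fun x hx => ?_
    obtain ⟨a, ha, b, hb, rfl⟩ := hsplit x hx
    rw [add_comm]
    exact Submodule.add_mem_sup hb ha
  · rintro (i | i)
    · show gap (g2 * g1) (f i) = f' i
      rw [gap_mul, hg1]
      exact hg2 (Sum.inl i)
    · show gap (g2 * g1) (r i) = r' i
      rw [gap_mul]
      exact hg2r i

end Witt

end Cfsg.Agent.H33
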