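import Mathlib

/-!
A classification-free lower bound for the minimal degree of a primitive group (Babai).
-/

set_option autoImplicit false
set_option linter.unusedSectionVars false

namespace Cfsg.Agent.H33.MinDegree

open MulAction

variable {G Ω : Type*} [Group G] [MulAction G Ω]

/-- `a` and `b` look the same from `z`. -/
def Same (G : Type*) [Group G] [MulAction G Ω] (a b z : Ω) : Prop := ∃ h : G, h • z = z ∧ h • a = b

theorem Same.refl (a z : Ω) : Same G a a z := ⟨1, one_smul _ _, one_smul _ _⟩

theorem Same.symm {a b z : Ω} (h : Same G a b z) : Same G b a z := by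
  obtain ⟨g, g1, g2⟩ := h
  exact ⟨g⁻¹, by rw [inv_smul_eq_iff, g1], by rw [inv_smul_eq_iff, g2]⟩

theorem Same.trans {a b c z : Ω} (h : Same G a b z) (h' : Same G b c z) : Same G a c z := by
  obtain ⟨g, g1, g2⟩ := h
  obtain ⟨g', g1', g2'⟩ := h'
  exact ⟨g' * g, by rw [mul_smul, g1, g1'], by rw [mul_smul, g2, g2']⟩

theorem Same.smul {a b z : Ω} (h : Same G a b z) (t : G) : Same G (t • a) (t • b) (t • z) := by
  obtain ⟨g, g1, g2⟩ := h
  exact ⟨t * g * t⁻¹, by rw [mul_smul, mul_smul, inv_smul_smul, g1],
    by rw [mul_smul, mul_smul, inv_smul_smul, g2]⟩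

theorem same_smul_iff {a b z : Ω} (t : G) : Same G (t • a) (t • b) (t • z) ↔ Same G a b z :=
  ⟨fun h => by have := h.smul t⁻¹; rwa [inv_smul_smul, inv_smul_smul, inv_smul_smul] at this, fun h => h.smul t⟩

variable [Fintype Ω]

/-- The number of points distinguishing `a` and `b`. -/
noncomputable def dist' (G : Type*) [Group G] [MulAction G Ω] (a b : Ω) : ℕ := by
  classical exact (Finset.univ.filter fun z : Ω => ¬ Same G a b z).card

/-- The size of the suborbit of `b` with respect to `a`. -/
noncomputable def subdeg (G : Type*) [Group G] [MulAction G Ω] (a b : Ω) : ℕ := by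
  classical exact (Finset.univ.filter fun z : Ω => Same G b z a).card

theorem dist'_symm (a b : Ω) : dist' G a b = dist' G b a := by
  classical
  unfold dist'
  exact congrArg Finset.card (Finset.filter_congr fun z _ => not_congr ⟨Same.symm, Same.symm⟩)

theorem dist'_triangle (a b c : Ω) : dist' G a c ≤ dist' G a b + dist' G b c := by
  classical
  unfold dist'
  refine (Finset.card_le_card ?_).trans (Finset.card_union_le _ _)
  intro z hz
  simp only [Finset.mem_filter, Finset.mem_univ, true_and, Finset.mem_union] at hz ⊢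
  by_contra h
  push Not at h
  exact hz (h.1.trans h.2)

theorem dist'_smul (t : G) (a b : Ω) : dist' G (t • a) (t • b) = dist' G a b := by
  classical
  unfold dist'
  symm
  refine Finset.card_equiv (MulAction.toPerm t) fun z => ?_
  simp only [Finset.mem_filter, Finset.mem_univ, true_and, MulAction.toPerm_apply]
  exact not_congr (same_smul_iff t).symm

theorem dist'_self (a : Ω) : dist' G a a = 0 := by
  classical
  unfold dist'
  simp [Same.refl]

theorem subdeg_smul (t : G) (a b : Ω) : subdeg G (t • a) (t • b) = subdeg G a b := by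
  classical
  unfold subdeg
  symm
  refine Finset.card_equiv (MulAction.toPerm t) fun z => ?_
  simp only [Finset.mem_filter, Finset.mem_univ, true_and, MulAction.toPerm_apply]
  exact (same_smul_iff t).symm

theorem subdeg_symm [IsPretransitive G Ω] (a b : Ω) : subdeg G a b = subdeg G b a := by
  classical
  let P : Finset (Ω × Ω) := Finset.univ.filter fun w => ∃ h : G, h • a = w.1 ∧ h • b = w.2
  have h1 : P.card = Fintype.card Ω * subdeg G a b := by
    rw [Finset.card_eq_sum_card_fiberwise (f := Prod.fst) (t := Finset.univ) (fun _ _ => Finset.mem_univ _)]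
    rw [← Finset.card_univ, ← smul_eq_mul, ← Finset.sum_const]
    refine Finset.sum_congr rfl fun x _ => ?_
    obtain ⟨t, ht⟩ := exists_smul_eq G a x
    unfold subdeg
    symm
    refine Finset.card_bij (fun z _ => (x, t • z)) ?_ ?_ ?_
    · intro z hz
      obtain ⟨h, h1, h2⟩ := (Finset.mem_filter.1 hz).2
      simp only [P, Finset.mem_filter, Finset.mem_univ, true_and, and_true]
      exact ⟨t * h, by rw [mul_smul, h1, ht], by rw [mul_smul, h2]⟩
    · intro z _ z' _ e
      exact smul_left_cancel t (congrArg Prod.snd e)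
    · rintro ⟨u, w⟩ hw
      simp only [P, Finset.mem_filter, Finset.mem_univ, true_and] at hw
      obtain ⟨⟨h, h1, h2⟩, rfl⟩ := hw
      refine ⟨t⁻¹ • w, Finset.mem_filter.2 ⟨Finset.mem_univ _, t⁻¹ * h, ?_, ?_⟩, by simp⟩
      · rw [mul_smul, h1, inv_smul_eq_iff, ht]
      · rw [mul_smul, h2]
  have h2 : P.card = Fintype.card Ω * subdeg G b a := by
    rw [Finset.card_eq_sum_card_fiberwise (f := Prod.snd) (t := Finset.univ) (fun _ _ => Finset.mem_univ _)]
    rw [← Finset.card_univ, ← smul_eq_mul, ← Finset.sum_const]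
    refine Finset.sum_congr rfl fun x _ => ?_
    obtain ⟨t, ht⟩ := exists_smul_eq G b x
    unfold subdeg
    symm
    refine Finset.card_bij (fun z _ => (t • z, x)) ?_ ?_ ?_
    · intro z hz
      obtain ⟨h, h1, h2⟩ := (Finset.mem_filter.1 hz).2
      simp only [P, Finset.mem_filter, Finset.mem_univ, true_and, and_true]
      exact ⟨t * h, by rw [mul_smul, h2], by rw [mul_smul, h1, ht]⟩
    · intro z _ z' _ e
      exact smul_left_cancel t (congrArg Prod.fst e)
    · rintro ⟨u, w⟩ hw
      simp only [P, Finset.mem_filter, Finset.mem_univ, true_and] at hw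
      obtain ⟨⟨h, h1, h2⟩, rfl⟩ := hw
      refine ⟨t⁻¹ • u, Finset.mem_filter.2 ⟨Finset.mem_univ _, t⁻¹ * h, ?_, ?_⟩, by simp⟩
      · rw [mul_smul, h2, inv_smul_eq_iff, ht]
      · rw [mul_smul, h1]
  exact Nat.eq_of_mul_eq_mul_left (Fintype.card_pos_iff.2 ⟨a⟩) (h1.symm.trans h2)

theorem walk_bound (Γ : SimpleGraph Ω) {D : ℕ} (hD : ∀ x y, Γ.Adj x y → dist' G x y = D) {x y : Ω}
    (w : Γ.Walk x y) : dist' G x y ≤ w.length * D := by
  induction w with
  | nil => simp [dist'_self]
  | @cons u v w' h p ih =>
    have h1 := dist'_triangle (G := G) u v w'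
    rw [hD u v h] at h1
    rw [SimpleGraph.Walk.length_cons, add_mul, one_mul]
    omega

set_option maxHeartbeats 2000000 in
/-- The bound for groups which are not doubly transitive. -/
theorem uniprimitive_bound [hprim : IsPreprimitive G Ω] (hn : 4 ≤ Fintype.card Ω) {a0 b0 c0 : Ω}
    (hb : b0 ≠ a0) (hc : c0 ≠ a0) (hbc : ¬ Same G b0 c0 a0) {x0 y0 : Ω} (hxy : x0 ≠ y0) :
    Fintype.card Ω ≤ (2 * dist' G x0 y0 + 1) ^ 2 := by
  classical
  set n := Fintype.card Ω with hndef
  set D := dist' G x0 y0 with hDdef
  let Γ : SimpleGraph Ω :=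
    { Adj := fun u v => u ≠ v ∧ ∃ h : G, (h • u = x0 ∧ h • v = y0) ∨ (h • u = y0 ∧ h • v = x0)
      symm := ⟨fun u v h => ⟨h.1.symm, h.2.imp fun g hg => hg.symm.imp (fun e => ⟨e.2, e.1⟩) (fun e => ⟨e.2, e.1⟩)⟩⟩
      loopless := ⟨fun u h => h.1 rfl⟩ }
  have hD : ∀ u v, Γ.Adj u v → dist' G u v = D := by
    rintro u v ⟨-, h, ⟨e1, e2⟩ | ⟨e1, e2⟩⟩
    · rw [hDdef, ← e1, ← e2, dist'_smul]
    · rw [hDdef, ← e1, ← e2, dist'_smul, dist'_symm]
  have hadj : ∀ (t : G) u v, Γ.Adj u v → Γ.Adj (t • u) (t • v) := by
    rintro t u v ⟨hne, h, hh⟩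
    exact ⟨fun e => hne (smul_left_cancel t e), h * t⁻¹, by simpa [mul_smul] using hh⟩
  have hwalk : ∀ (t : G) {u v : Ω} (w : Γ.Walk u v), ∃ w' : Γ.Walk (t • u) (t • v), w'.length = w.length := by
    intro t u v w
    induction w with
    | nil => exact ⟨.nil, rfl⟩
    | cons h p ih =>
      obtain ⟨w', hw'⟩ := ih
      exact ⟨.cons (hadj t _ _ h) w', by simp [hw']⟩
  have hedge : Γ.Adj x0 y0 := ⟨hxy, 1, Or.inl ⟨one_smul _ _, one_smul _ _⟩⟩
  have hconn : Γ.Connected := by
    let B : Set Ω := {v | Γ.Reachable x0 v}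
    have hB : IsBlock G B := by
      rw [isBlock_iff_smul_eq_of_nonempty]
      rintro g ⟨-, ⟨u, hu, rfl⟩, hgu⟩
      ext v
      constructor
      · rintro ⟨w, hw, rfl⟩
        obtain ⟨p⟩ := (SimpleGraph.Reachable.symm hu).trans hw
        obtain ⟨q, -⟩ := hwalk g p
        exact SimpleGraph.Reachable.trans hgu ⟨q⟩
      · intro hv
        refine ⟨g⁻¹ • v, ?_, smul_inv_smul g v⟩
        obtain ⟨p⟩ := (SimpleGraph.Reachable.symm hgu).trans hv
        obtain ⟨q, -⟩ := hwalk g⁻¹ p
        exact SimpleGraph.Reachable.trans hu ⟨q.copy (inv_smul_smul g u) rfl⟩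
    rcases IsPreprimitive.isTrivialBlock_of_isBlock hB with h | h
    · exact absurd (h (SimpleGraph.Reachable.refl _) hedge.reachable) hxy
    · refine (SimpleGraph.connected_iff _).2 ⟨fun u v => ?_, ⟨x0⟩⟩
      have hu : u ∈ B := h ▸ Set.mem_univ u
      have hv : v ∈ B := h ▸ Set.mem_univ v
      exact SimpleGraph.Reachable.trans (SimpleGraph.Reachable.symm hu) hv
  have hdist : ∀ (t : G) u v, Γ.dist (t • u) (t • v) = Γ.dist u v := by
    have hle : ∀ (t : G) u v, Γ.dist (t • u) (t • v) ≤ Γ.dist u v := by
      intro t u v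
      obtain ⟨p, hp⟩ := hconn.exists_walk_length_eq_dist u v
      obtain ⟨q, hq⟩ := hwalk t p
      exact (SimpleGraph.dist_le q).trans (by omega)
    intro t u v
    refine le_antisymm (hle t u v) ?_
    have := hle t⁻¹ (t • u) (t • v)
    rwa [inv_smul_smul, inv_smul_smul] at this
  have hsame_dist : ∀ {u v z}, Same G u v z → Γ.dist z u = Γ.dist z v := by
    rintro u v z ⟨h, h1, h2⟩
    rw [← hdist h z u, h1, h2]
  have hpath : ∀ u v, dist' G u v ≤ Γ.dist u v * D := fun u v => by
    obtain ⟨p, hp⟩ := hconn.exists_walk_length_eq_dist u v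
    exact hp ▸ walk_bound Γ hD p
  -- a geodesic gives distinguishing points
  have hgeo : ∀ u v, Γ.dist u v ≤ D := by
    intro u v
    obtain ⟨p, hp⟩ := hconn.exists_walk_length_eq_dist u v
    rcases Nat.eq_zero_or_pos p.length with h0 | hpos
    · omega
    have hlb : ∀ i j, i ≤ j → j ≤ p.length → Γ.dist (p.getVert i) (p.getVert j) = j - i := by
      intro i j hij hj
      have hup : ∀ k l, k ≤ l → l ≤ p.length → Γ.dist (p.getVert k) (p.getVert l) ≤ l - k := by
        intro k l hkl hl
        induction l, hkl using Nat.le_induction with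
        | base => simp
        | succ l hkl ih =>
          have h1 : Γ.dist (p.getVert l) (p.getVert (l + 1)) = 1 :=
            SimpleGraph.dist_eq_one_iff_adj.2 (p.adj_getVert_succ (by omega))
          have := hconn.dist_triangle (u := p.getVert k) (v := p.getVert l) (w := p.getVert (l + 1))
          have := ih (by omega)
          omega
      refine le_antisymm (hup i j hij hj) ?_
      have h1 := hup 0 i (Nat.zero_le _) (hij.trans hj)
      have h2 := hup j p.length hj le_rfl
      rw [SimpleGraph.Walk.getVert_zero] at h1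
      rw [SimpleGraph.Walk.getVert_length] at h2
      have h3 := hconn.dist_triangle (u := u) (v := p.getVert i) (w := v)
      have h4 := hconn.dist_triangle (u := p.getVert i) (v := p.getVert j) (w := v)
      omega
    have hedge1 : Γ.Adj (p.getVert 0) (p.getVert 1) := p.adj_getVert_succ hpos
    rw [← hD _ _ hedge1, ← hp]
    unfold dist'
    calc p.length ≤ (Finset.range (p.length + 1)).card := by simp
      _ ≤ _ := Finset.card_le_card_of_injOn p.getVert (fun j hj => by
          simp only [Finset.coe_range, Set.mem_Iio] at hj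
          simp only [Finset.coe_filter, Finset.mem_univ, true_and, Set.mem_setOf_eq]
          intro hs
          have e := hsame_dist hs
          rcases Nat.eq_zero_or_pos j with rfl | hjp
          · rw [hlb 0 0 le_rfl (by omega), hlb 0 1 (by omega) hpos] at e
            omega
          · rw [SimpleGraph.dist_comm, hlb 0 j (by omega) (by omega), SimpleGraph.dist_comm,
              hlb 1 j hjp (by omega)] at e
            omega) (fun i hi j hj e => by
          simp only [Finset.coe_range, Set.mem_Iio] at hi hj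
          rcases le_total i j with h | h
          · have := hlb i j h (by omega)
            rw [e, SimpleGraph.dist_self] at this
            omega
          · have := hlb j i h (by omega)
            rw [e, SimpleGraph.dist_self] at this
            omega)
  by_cases hA : ∀ a b : Ω, 4 * subdeg G a b ≤ 3 * n
  · -- some pair is distinguished by a quarter of the points
    have hpos : 0 < n := by omega
    obtain ⟨b, hb'⟩ : ∃ b, n ≤ 4 * dist' G a0 b := by
      by_contra hcon
      push Not at hcon
      have hsum : ∑ b, 4 * dist' G a0 b = ∑ z, 4 * (n - subdeg G z a0) := by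
        rw [← Finset.mul_sum, ← Finset.mul_sum]
        congr 1
        unfold dist' subdeg
        simp only [Finset.card_filter]
        rw [Finset.sum_comm]
        refine Finset.sum_congr rfl fun z _ => ?_
        rw [← Finset.card_filter, ← Finset.card_filter, hndef, ← Finset.card_compl, Finset.compl_filter]
      have h1 : ∑ b, 4 * dist' G a0 b < ∑ _b : Ω, n :=
        Finset.sum_lt_sum_of_nonempty ⟨a0, Finset.mem_univ _⟩ (fun b _ => hcon b)
      have h2 : ∑ _b : Ω, n ≤ ∑ z, 4 * (n - subdeg G z a0) :=
        Finset.sum_le_sum fun z _ => by have := hA z a0; omega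
      omega
    have h1 := hpath a0 b
    have h2 : Γ.dist a0 b * D ≤ D * D := Nat.mul_le_mul_right _ (hgeo a0 b)
    nlinarith
  push Not at hA
  obtain ⟨aJ, bJ, hJ⟩ := hA
  let Big : Ω → Ω → Prop := fun a b => 3 * n < 4 * subdeg G a b
  have hBs : ∀ {a b}, Big a b → Big b a := fun h => by unfold Big at *; rwa [subdeg_symm]
  have hBsame : ∀ {a b b'}, Same G b b' a → Big a b → Big a b' := by
    rintro a b b' ⟨h, h1, h2⟩ hB
    show 3 * n < 4 * subdeg G a b'
    rw [← h1, ← h2, subdeg_smul]; exact hB
  have hBuniq : ∀ {a b b'}, Big a b → Big a b' → Same G b b' a := by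
    intro a b b' h h'
    by_contra hne
    have hdis : Disjoint (Finset.univ.filter fun z : Ω => Same G b z a)
        (Finset.univ.filter fun z : Ω => Same G b' z a) := by
      rw [Finset.disjoint_left]
      intro z hz hz'
      exact hne ((Finset.mem_filter.1 hz).2.trans (Finset.mem_filter.1 hz').2.symm)
    have h3 := Finset.card_le_univ ((Finset.univ.filter fun z : Ω => Same G b z a) ∪
      (Finset.univ.filter fun z : Ω => Same G b' z a))
    rw [Finset.card_union_of_disjoint hdis] at h3
    simp only [Big, subdeg] at h h'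
    omega
  have hBne : ∀ {a b}, Big a b → a ≠ b := by
    intro a b h e
    subst e
    have : subdeg G a a ≤ 1 := by
      unfold subdeg
      refine Finset.card_le_one.2 fun u hu v hv => ?_
      obtain ⟨g, g1, g2⟩ := (Finset.mem_filter.1 hu).2
      obtain ⟨g', g1', g2'⟩ := (Finset.mem_filter.1 hv).2
      rw [← g2, g1, ← g2', g1']
    simp only [Big] at h
    omega
  have hBex : ∀ a, ∃ b, Big a b := fun a => by
    obtain ⟨t, rfl⟩ := exists_smul_eq G aJ a
    exact ⟨t • bJ, by show _ < _; rw [subdeg_smul]; exact hJ⟩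
  have hBorb : ∀ {a b a' b'}, Big a b → Big a' b' → ∃ h : G, h • a = a' ∧ h • b = b' := by
    intro a b a' b' h h'
    obtain ⟨t, rfl⟩ := exists_smul_eq G a a'
    have ht : Big (t • a) (t • b) := by show _ < _; rw [subdeg_smul]; exact h
    obtain ⟨g, g1, g2⟩ := hBuniq ht h'
    exact ⟨g * t, by rw [mul_smul, g1], by rw [mul_smul, g2]⟩
  -- the small colours
  let C : Ω → Finset Ω := fun a => Finset.univ.filter fun b => b ≠ a ∧ ¬ Big a b
  let J : Ω → Finset Ω := fun a => Finset.univ.filter fun b => Big a b
  have hCmem : ∀ {a b}, b ∈ C a ↔ b ≠ a ∧ ¬ Big a b := fun {a b} => by simp [C]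
  have hJmem : ∀ {a b}, b ∈ J a ↔ Big a b := fun {a b} => by simp [J]
  have hJcard : ∀ a, 3 * n < 4 * (J a).card := by
    intro a
    obtain ⟨b, hb⟩ := hBex a
    have : subdeg G a b ≤ (J a).card := Finset.card_le_card fun z hz =>
      hJmem.2 (hBsame (Finset.mem_filter.1 hz).2 hb)
    simp only [Big] at hb
    omega
  have hsplit : ∀ a, (C a).card + (J a).card + 1 = n := by
    intro a
    have hd : Disjoint (C a) (J a) := Finset.disjoint_left.2 fun z h h' => (hCmem.1 h).2 (hJmem.1 h')
    have hu : C a ∪ J a = Finset.univ.erase a := by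
      ext z
      simp only [Finset.mem_union, hCmem, hJmem, Finset.mem_erase, Finset.mem_univ, and_true]
      exact ⟨fun h => h.elim (fun h => h.1) (fun h => (hBne h).symm),
        fun h => (em (Big a z)).elim Or.inr (fun h' => Or.inl ⟨h, h'⟩)⟩
    rw [← Finset.card_union_of_disjoint hd, hu, Finset.card_erase_of_mem (Finset.mem_univ a), Finset.card_univ]
    omega
  have hCconst : ∀ a a', (C a).card = (C a').card := by
    intro a a'
    obtain ⟨t, rfl⟩ := exists_smul_eq G a a'
    refine Finset.card_equiv (MulAction.toPerm t) fun z => ?_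
    simp only [hCmem, MulAction.toPerm_apply, Big, subdeg_smul, ne_eq, (MulAction.injective t).eq_iff]
  set kC := (C a0).card with hkC
  have hkpos : 1 ≤ kC := by
    rw [hkC, Nat.one_le_iff_ne_zero, Finset.card_ne_zero]
    by_contra hnone
    rw [Finset.not_nonempty_iff_eq_empty] at hnone
    have hall : ∀ z, z ≠ a0 → Big a0 z := fun z hz => by
      by_contra hz'
      have : z ∈ C a0 := hCmem.2 ⟨hz, hz'⟩
      rw [hnone] at this
      exact Finset.notMem_empty _ this
    exact hbc (hBuniq (hall b0 hb) (hall c0 hc))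
  have h4k : 4 * kC < n := by have := hJcard a0; have := hsplit a0; omega
  -- the number of common small neighbours of a big pair
  obtain ⟨bJ', hbJ'⟩ := hBex a0
  set μ := (C a0 ∩ C bJ').card with hμ
  have hμconst : ∀ {a b}, Big a b → (C a ∩ C b).card = μ := by
    intro a b h
    obtain ⟨t, rfl, rfl⟩ := hBorb hbJ' h
    symm
    refine Finset.card_equiv (MulAction.toPerm t) fun z => ?_
    simp only [Finset.mem_inter, hCmem, MulAction.toPerm_apply, Big, subdeg_smul, ne_eq,
      (MulAction.injective t).eq_iff]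
  have hcount : (J a0).card * μ ≤ kC * kC := by
    calc (J a0).card * μ = ∑ b ∈ J a0, (C a0 ∩ C b).card := by
          rw [Finset.sum_congr rfl (fun b hb => hμconst (hJmem.1 hb)), Finset.sum_const, smul_eq_mul]
      _ = ∑ b ∈ J a0, ((C a0).filter fun w => w ∈ C b).card := by
          refine Finset.sum_congr rfl fun b _ => ?_
          rw [← Finset.filter_mem_eq_inter]
      _ = ∑ w ∈ C a0, ((J a0).filter fun b => w ∈ C b).card := by
          simp only [Finset.card_filter]; exact Finset.sum_comm
      _ ≤ ∑ w ∈ C a0, (C w).card := Finset.sum_le_sum fun w _ => Finset.card_le_card fun b hb => by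
          have hb' := hCmem.1 (Finset.mem_filter.1 hb).2
          exact hCmem.2 ⟨hb'.1.symm, fun h => hb'.2 (hBs h)⟩
      _ = kC * kC := by
          rw [Finset.sum_congr rfl (fun w _ => hCconst w a0), Finset.sum_const, smul_eq_mul]
  by_cases hBedge : ∀ u v, Γ.Adj u v → ¬ Big u v
  swap
  · push Not at hBedge
    obtain ⟨u, v, huv, hBuv⟩ := hBedge
    have := hD u v huv
    -- a big pair is distinguished by the symmetric difference
    have hDJ : (C u \ C v).card + (C v \ C u).card ≤ dist' G u v := by
      rw [← Finset.card_union_of_disjoint (Finset.disjoint_left.2 fun z h h' =>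
        (Finset.mem_sdiff.1 h).2 (Finset.mem_sdiff.1 h').1)]
      unfold dist'
      refine Finset.card_le_card fun z hz => Finset.mem_filter.2 ⟨Finset.mem_univ _, fun hs => ?_⟩
      have key : ∀ {p q}, Same G p q z → z ∈ C p → z ≠ q → z ∈ C q := fun {p q} hs hp hq =>
        hCmem.2 ⟨hq, fun h => (hCmem.1 hp).2 (hBs (hBsame hs.symm (hBs h)))⟩
      rcases Finset.mem_union.1 hz with h | h <;> obtain ⟨h1, h2⟩ := Finset.mem_sdiff.1 h
      · exact h2 (key hs h1 (fun e => (hCmem.1 h1).2 (e ▸ hBuv)))
      · exact h2 (key hs.symm h1 (fun e => (hCmem.1 h1).2 (e ▸ hBs hBuv)))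
    have h5 : 2 * μ < kC ∨ μ = 0 := by
      rcases Nat.eq_zero_or_pos μ with h | h
      · exact Or.inr h
      · left; have := hJcard a0; nlinarith
    have e1 : (C u \ C v).card + μ = kC := by
      rw [← hμconst hBuv, Finset.card_sdiff_add_card_inter, hCconst u a0]
    have e2 : (C v \ C u).card + μ = kC := by
      rw [← hμconst (hBs hBuv), Finset.card_sdiff_add_card_inter, hCconst v a0]
    -- the small graph is connected
    have hsq : n ≤ (kC + 1) ^ 2 := by
      by_contra hlt
      push Not at hlt
      have hμ0 : μ = 0 := by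
        by_contra h
        have h' : 1 ≤ μ := Nat.one_le_iff_ne_zero.2 h
        have h'' := hsplit a0
        nlinarith
      have hclosed : ∀ p q r, q ∈ C p → r ∈ C q → r ≠ p → r ∈ C p := by
        intro p q r hq hr hrp
        refine hCmem.2 ⟨hrp, fun hB => ?_⟩
        have h0 := hμconst hB
        rw [hμ0, Finset.card_eq_zero] at h0
        have : q ∈ C p ∩ C r := Finset.mem_inter.2 ⟨hq, hCmem.2 ⟨(hCmem.1 hr).1.symm,
          fun h => (hCmem.1 hr).2 (hBs h)⟩⟩
        rw [h0] at this
        exact Finset.notMem_empty _ this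
      let B : Set Ω := {v | v = a0 ∨ v ∈ C a0}
      have hBB : ∀ {p q}, p ∈ B → q ∈ B → q ≠ p → q ∈ C p := by
        intro p q hp hq hne
        have hsym : ∀ {r}, r ∈ C a0 → a0 ∈ C r := fun h =>
          hCmem.2 ⟨(hCmem.1 h).1.symm, fun h' => (hCmem.1 h).2 (hBs h')⟩
        rcases hp with rfl | hp <;> rcases hq with rfl | hq
        · exact absurd rfl hne
        · exact hq
        · exact hsym hp
        · exact hclosed p a0 q (hsym hp) hq hne
      have hmemB : ∀ {p q}, p ∈ B → q ∈ C p → q ∈ B := by
        intro p q hp hq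
        rcases hp with rfl | hp
        · exact Or.inr hq
        · by_cases hqa : q = a0
          · exact Or.inl hqa
          · exact Or.inr (hclosed a0 p q hp hq hqa)
      have hBl : IsBlock G B := by
        rw [isBlock_iff_smul_eq_of_nonempty]
        rintro g ⟨-, ⟨w, hw, rfl⟩, hgw⟩
        have hCs : ∀ {p q}, q ∈ C p → g • q ∈ C (g • p) := fun h => by
          simpa [hCmem, Big, subdeg_smul] using h
        have hCs' : ∀ {p q}, q ∈ C p → g⁻¹ • q ∈ C (g⁻¹ • p) := fun h => by
          simpa [hCmem, Big, subdeg_smul] using h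
        ext r
        constructor
        · rintro ⟨s, hs, rfl⟩
          by_cases hsw : s = w
          · subst hsw; exact hgw
          · exact hmemB hgw (hCs (hBB hw hs hsw))
        · intro hr
          refine ⟨g⁻¹ • r, ?_, smul_inv_smul g r⟩
          by_cases hrw : r = g • w
          · subst hrw; rwa [inv_smul_smul]
          · have := hCs' (hBB hgw hr hrw)
            rw [inv_smul_smul] at this
            exact hmemB hw this
      rcases IsPreprimitive.isTrivialBlock_of_isBlock hBl with h | h
      · obtain ⟨r, hr⟩ := Finset.card_pos.1 (show 0 < (C a0).card by omega)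
        exact (hCmem.1 hr).1 (h (show r ∈ B from Or.inr hr) (show a0 ∈ B from Or.inl rfl))
      · have : bJ' ∈ B := h ▸ Set.mem_univ _
        rcases this with h' | h'
        · exact hBne hbJ' h'.symm
        · exact (hCmem.1 h').2 hbJ'
    exact hsq.trans (Nat.pow_le_pow_left (by omega) 2)
  -- all edges are small
  set δ := Γ.dist a0 bJ' with hδ
  have hδall : ∀ {a b}, Big a b → Γ.dist a b = δ := by
    intro a b h
    obtain ⟨t, rfl, rfl⟩ := hBorb hbJ' h
    rw [hdist]
  have hδ2 : 2 ≤ δ := by
    have h1 : δ ≠ 0 := fun h => hBne hbJ' (hconn.dist_eq_zero_iff.1 h)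
    have h2 : δ ≠ 1 := fun h => hBedge _ _ (SimpleGraph.dist_eq_one_iff_adj.1 h) hbJ'
    omega
  let N : Ω → Finset Ω := fun a => Finset.univ.filter fun b => Γ.Adj a b
  by_cases hδ3 : δ = 2
  · -- diameter two
    obtain ⟨p, hp⟩ := hconn.exists_walk_length_eq_dist a0 bJ'
    have hmid : Γ.Adj a0 (p.getVert 1) ∧ Γ.Adj (p.getVert 1) bJ' := by
      refine ⟨?_, ?_⟩
      · have := p.adj_getVert_succ (i := 0) (by omega)
        rwa [SimpleGraph.Walk.getVert_zero] at this
      · have := p.adj_getVert_succ (i := 1) (by omega)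
        rwa [show 1 + 1 = p.length by omega, SimpleGraph.Walk.getVert_length] at this
    have hμ1 : 1 ≤ μ := Finset.card_pos.2 ⟨p.getVert 1, Finset.mem_inter.2
      ⟨hCmem.2 ⟨hmid.1.ne.symm, hBedge _ _ hmid.1⟩,
        hCmem.2 ⟨hmid.2.ne, fun h => hBedge _ _ hmid.2.symm h⟩⟩⟩
    have hsp := hsplit a0
    have hsq : n ≤ (kC + 1) ^ 2 := by nlinarith
    have h5 : 2 * μ < kC := by have := hJcard a0; nlinarith
    have hDJ : (C a0 \ C bJ').card + (C bJ' \ C a0).card ≤ dist' G a0 bJ' := by
      rw [← Finset.card_union_of_disjoint (Finset.disjoint_left.2 fun z h h' =>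
        (Finset.mem_sdiff.1 h).2 (Finset.mem_sdiff.1 h').1)]
      unfold dist'
      refine Finset.card_le_card fun z hz => Finset.mem_filter.2 ⟨Finset.mem_univ _, fun hs => ?_⟩
      have key : ∀ {p q}, Same G p q z → z ∈ C p → z ≠ q → z ∈ C q := fun {p q} hs hp hq =>
        hCmem.2 ⟨hq, fun h => (hCmem.1 hp).2 (hBs (hBsame hs.symm (hBs h)))⟩
      rcases Finset.mem_union.1 hz with h | h <;> obtain ⟨h1, h2⟩ := Finset.mem_sdiff.1 h
      · exact h2 (key hs h1 (fun e => (hCmem.1 h1).2 (e ▸ hbJ')))
      · exact h2 (key hs.symm h1 (fun e => (hCmem.1 h1).2 (e ▸ hBs hbJ')))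
    have e1 : (C a0 \ C bJ').card + μ = kC := by
      rw [hμ, Finset.card_sdiff_add_card_inter]
    have e2 : (C bJ' \ C a0).card + μ = kC := by
      rw [← hμconst (hBs hbJ'), Finset.card_sdiff_add_card_inter, hCconst bJ' a0]
    have h6 := hpath a0 bJ'
    rw [← hδ, hδ3] at h6
    exact hsq.trans (Nat.pow_le_pow_left (by omega) 2)
  -- large diameter
  have hk3 : 2 * (N a0).card ≤ 3 * D := by
    obtain ⟨p, hp⟩ := hconn.exists_walk_length_eq_dist a0 bJ'
    have hlen : p.length = δ := hp
    let x3 := p.getVert 3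
    have h3 : Γ.dist a0 x3 = 3 := by
      refine le_antisymm ?_ ?_
      · exact le_trans (SimpleGraph.dist_le (p.take 3)) (by simp)
      · have h1 := hconn.dist_triangle (u := a0) (v := x3) (w := bJ')
        have h2 : Γ.dist x3 bJ' ≤ p.length - 3 := le_trans (SimpleGraph.dist_le (p.drop 3)) (by simp)
        omega
    have h6 := hpath a0 x3
    rw [h3] at h6
    refine le_trans ?_ h6
    have hN : (N x3).card = (N a0).card := by
      obtain ⟨t, ht⟩ := exists_smul_eq G a0 x3
      symm
      refine Finset.card_equiv (MulAction.toPerm t) fun z => ?_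
      simp only [N, Finset.mem_filter, Finset.mem_univ, true_and, MulAction.toPerm_apply]
      rw [← SimpleGraph.dist_eq_one_iff_adj, ← SimpleGraph.dist_eq_one_iff_adj, ← ht, hdist]
    have hdisj : Disjoint (N a0) (N x3) := Finset.disjoint_left.2 fun z h h' => by
      have h1 := hconn.dist_triangle (u := a0) (v := z) (w := x3)
      rw [SimpleGraph.dist_eq_one_iff_adj.2 (Finset.mem_filter.1 h).2, SimpleGraph.dist_comm (u := z),
        SimpleGraph.dist_eq_one_iff_adj.2 (Finset.mem_filter.1 h').2] at h1
      omega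
    rw [show 2 * (N a0).card = (N a0).card + (N x3).card by omega, ← Finset.card_union_of_disjoint hdisj]
    unfold dist'
    refine Finset.card_le_card fun z hz => Finset.mem_filter.2 ⟨Finset.mem_univ _, fun hs => ?_⟩
    have e := hsame_dist hs
    rw [SimpleGraph.dist_comm (u := z), SimpleGraph.dist_comm (u := z)] at e
    rcases Finset.mem_union.1 hz with h | h
    · rw [SimpleGraph.dist_eq_one_iff_adj.2 (Finset.mem_filter.1 h).2] at e
      exact Finset.disjoint_left.1 hdisj h (Finset.mem_filter.2
        ⟨Finset.mem_univ _, SimpleGraph.dist_eq_one_iff_adj.1 e.symm⟩)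
    · rw [SimpleGraph.dist_eq_one_iff_adj.2 (Finset.mem_filter.1 h).2] at e
      exact Finset.disjoint_left.1 hdisj (Finset.mem_filter.2
        ⟨Finset.mem_univ _, SimpleGraph.dist_eq_one_iff_adj.1 e⟩) h
  have hkD : (J a0).card ≤ (N a0).card * D := by
    calc (J a0).card ≤ ((N a0).biUnion fun y => Finset.univ.filter fun z => ¬ Same G a0 y z).card := by
          refine Finset.card_le_card fun z hz => ?_
          obtain ⟨p, hp⟩ := hconn.exists_walk_length_eq_dist a0 z
          have hz' := hδall (hJmem.1 hz)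
          have hadj1 : Γ.Adj a0 (p.getVert 1) := by
            have := p.adj_getVert_succ (i := 0) (by omega)
            rwa [SimpleGraph.Walk.getVert_zero] at this
          refine Finset.mem_biUnion.2 ⟨p.getVert 1, Finset.mem_filter.2 ⟨Finset.mem_univ _, hadj1⟩,
            Finset.mem_filter.2 ⟨Finset.mem_univ _, fun hs => ?_⟩⟩
          have e := hsame_dist hs
          have h2 : Γ.dist (p.getVert 1) z ≤ p.length - 1 :=
            le_trans (SimpleGraph.dist_le (p.drop 1)) (by simp)
          rw [SimpleGraph.dist_comm (u := z), SimpleGraph.dist_comm (u := z)] at e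
          omega
      _ ≤ ∑ y ∈ N a0, dist' G a0 y := Finset.card_biUnion_le
      _ = (N a0).card * D := by
          rw [Finset.sum_congr rfl (fun y hy => hD a0 y (Finset.mem_filter.1 hy).2), Finset.sum_const,
            smul_eq_mul]
  have := hJcard a0
  nlinarith

section TwoTransitive

variable [DecidableEq Ω]

/-- The commutator of two permutations whose supports meet in one point is a three-cycle. -/
theorem isThreeCycle_commutator {g k : Equiv.Perm Ω} {w : Ω} (h : g.support ∩ k.support = {w}) :
    (g * k * g⁻¹ * k⁻¹).IsThreeCycle := by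
  have hw : w ∈ g.support ∧ w ∈ k.support := Finset.mem_inter.1 (h ▸ Finset.mem_singleton_self w)
  have hex : ∀ x, x ≠ w → x ∈ g.support → k x = x := fun x hx hg => by
    by_contra hk
    exact hx (Finset.mem_singleton.1 (h ▸ Finset.mem_inter.2 ⟨hg, Equiv.Perm.mem_support.2 hk⟩))
  have hgu : g w ∈ g.support := Equiv.Perm.apply_mem_support.2 hw.1
  have hkv : k w ∈ k.support := Equiv.Perm.apply_mem_support.2 hw.2
  have hu : g w ≠ w := Equiv.Perm.mem_support.1 hw.1
  have hv : k w ≠ w := Equiv.Perm.mem_support.1 hw.2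
  have hgk : ∀ x, x ≠ w → x ∈ k.support → g x = x := fun x hx hk => by
    by_contra hg
    exact hx (Finset.mem_singleton.1 (h ▸ Finset.mem_inter.2 ⟨Equiv.Perm.mem_support.2 hg, hk⟩))
  have huv : g w ≠ k w := fun e => hv (k.injective (hex _ hv (e ▸ hgu)))
  set c := g * k * g⁻¹ * k⁻¹ with hc
  have ki : ∀ x, k x = x → k⁻¹ x = x := fun x hx => Equiv.Perm.inv_eq_iff_eq.2 hx.symm
  have gi : ∀ x, g x = x → g⁻¹ x = x := fun x hx => Equiv.Perm.inv_eq_iff_eq.2 hx.symm
  have cu : c (g w) = k w := by
    simp only [hc, Equiv.Perm.mul_apply]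
    rw [ki _ (hex _ hu hgu), Equiv.Perm.inv_eq_iff_eq.2 rfl, hgk _ hv hkv]
  have cv : c (k w) = w := by
    simp only [hc, Equiv.Perm.mul_apply]
    rw [Equiv.Perm.inv_eq_iff_eq.2 rfl]
    have h1 : g⁻¹ w ∈ g.support := by
      rw [← Equiv.Perm.apply_mem_support, ← Equiv.Perm.mul_apply, mul_inv_cancel, Equiv.Perm.one_apply]
      exact hw.1
    have h2 : g⁻¹ w ≠ w := fun e => hu (Equiv.Perm.inv_eq_iff_eq.1 e).symm
    rw [hex _ h2 h1, ← Equiv.Perm.mul_apply, mul_inv_cancel, Equiv.Perm.one_apply]
  have cw : c w = g w := by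
    simp only [hc, Equiv.Perm.mul_apply]
    have h1 : k⁻¹ w ∈ k.support := by
      rw [← Equiv.Perm.apply_mem_support, ← Equiv.Perm.mul_apply, mul_inv_cancel, Equiv.Perm.one_apply]
      exact hw.2
    have h2 : k⁻¹ w ≠ w := fun e => hv (Equiv.Perm.inv_eq_iff_eq.1 e).symm
    rw [gi _ (hgk _ h2 h1), ← Equiv.Perm.mul_apply k, mul_inv_cancel, Equiv.Perm.one_apply]
  have cfix : ∀ x, x ≠ w → x ≠ g w → x ≠ k w → c x = x := by
    intro x hxw hxu hxv
    simp only [hc, Equiv.Perm.mul_apply]
    by_cases hk : x ∈ k.support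
    · have hy : k⁻¹ x ≠ w := fun e => hxv (Equiv.Perm.inv_eq_iff_eq.1 e)
      have hys : k⁻¹ x ∈ k.support := by
        rw [← Equiv.Perm.apply_mem_support, ← Equiv.Perm.mul_apply, mul_inv_cancel, Equiv.Perm.one_apply]
        exact hk
      rw [gi _ (hgk _ hy hys), ← Equiv.Perm.mul_apply k, mul_inv_cancel, Equiv.Perm.one_apply, hgk _ hxw hk]
    · rw [ki _ (Equiv.Perm.notMem_support.1 hk)]
      by_cases hg : x ∈ g.support
      · have hy : g⁻¹ x ≠ w := fun e => hxu (Equiv.Perm.inv_eq_iff_eq.1 e)
        have hys : g⁻¹ x ∈ g.support := by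
          rw [← Equiv.Perm.apply_mem_support, ← Equiv.Perm.mul_apply, mul_inv_cancel, Equiv.Perm.one_apply]
          exact hg
        rw [hex _ hy hys, ← Equiv.Perm.mul_apply, mul_inv_cancel, Equiv.Perm.one_apply]
      · rw [gi _ (Equiv.Perm.notMem_support.1 hg), Equiv.Perm.notMem_support.1 hk,
          Equiv.Perm.notMem_support.1 hg]
  rw [← card_support_eq_three_iff]
  have hs : c.support = {w, g w, k w} := by
    ext x
    simp only [Equiv.Perm.mem_support, Finset.mem_insert, Finset.mem_singleton]
    constructor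
    · intro hx
      by_contra hh
      push Not at hh
      exact hx (cfix x hh.1 hh.2.1 hh.2.2)
    · rintro (rfl | rfl | rfl)
      · rw [cw]; exact hu
      · rw [cu]; exact huv.symm
      · rw [cv]; exact hv.symm
  rw [hs, Finset.card_insert_of_notMem (by simp [hu.symm, hv.symm]), Finset.card_pair huv]

/-- A small support in a doubly transitive group can be moved to meet itself in exactly one point. -/
theorem exists_meet_one [Fintype G] (h2 : ∀ a b c d : Ω, a ≠ b → c ≠ d → ∃ h : G, h • a = c ∧ h • b = d)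
    (S : Finset Ω) (hS : S.Nonempty) (hsmall : (S.card - 1) ^ 2 + 1 < Fintype.card Ω) :
    ∃ h : G, (S.filter fun s => h • s ∈ S).card = 1 := by
  classical
  set n := Fintype.card Ω
  set m := S.card
  set g := Fintype.card G
  have hm : 1 ≤ m := Finset.card_pos.2 hS
  let X : G → ℕ := fun h => (S.filter fun s => h • s ∈ S).card
  by_contra hcon
  push Not at hcon
  have hle : ∀ h, X h ≤ X h * (X h - 1) := fun h => by
    rcases Nat.lt_or_ge (X h) 2 with hlt | hge
    · rcases (show X h = 0 ∨ X h = 1 by omega) with e | e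
      · simp [e]
      · exact absurd e (hcon h)
    · exact Nat.le_mul_of_pos_right _ (by omega)
  have hmap : ∀ a b : Ω, a ≠ b → ∀ c d : Ω, c ≠ d →
      (Finset.univ.filter fun h : G => h • a = c ∧ h • b = d).card * (n * (n - 1)) = g := by
    intro a b hab c d hcd
    have hn2 : (Finset.univ : Finset Ω).offDiag.card = n * (n - 1) := by
      rw [Finset.offDiag_card, Finset.card_univ, Nat.mul_sub, mul_one]
    rw [← hn2, mul_comm, ← smul_eq_mul, ← Finset.sum_const]
    show _ = Fintype.card G
    rw [← Finset.card_univ (α := G),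
      Finset.card_eq_sum_card_fiberwise (s := (Finset.univ : Finset G)) (f := fun h : G => (h • a, h • b)) (t := (Finset.univ : Finset Ω).offDiag)
        (fun h _ => Finset.mem_coe.2 (Finset.mem_offDiag.2
          ⟨Finset.mem_univ _, Finset.mem_univ _, fun e => hab (smul_left_cancel h e)⟩))]
    refine Finset.sum_congr rfl fun w hw => ?_
    obtain ⟨t, t1, t2⟩ := h2 c d w.1 w.2 hcd (Finset.mem_offDiag.1 hw).2.2
    refine Finset.card_equiv (Equiv.mulLeft t) fun h => ?_
    simp only [Finset.mem_filter, Finset.mem_univ, true_and, Equiv.coe_mulLeft, mul_smul, Prod.ext_iff]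
    refine ⟨fun e => by rw [e.1, e.2, t1, t2]; exact ⟨rfl, rfl⟩, fun e => ?_⟩
    exact ⟨smul_left_cancel t (e.1.trans t1.symm), smul_left_cancel t (e.2.trans t2.symm)⟩
  have hone : ∀ a c : Ω, (Finset.univ.filter fun h : G => h • a = c).card * n = g := by
    intro a c
    show _ * Fintype.card Ω = Fintype.card G
    rw [← Finset.card_univ, mul_comm, ← smul_eq_mul, ← Finset.sum_const, ← Finset.card_univ (α := G),
      Finset.card_eq_sum_card_fiberwise (s := (Finset.univ : Finset G)) (f := fun h : G => h • a) (t := Finset.univ) (fun _ _ => Finset.mem_univ _)]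
    refine Finset.sum_congr rfl fun w _ => ?_
    obtain ⟨b, hb⟩ := Finset.exists_mem_ne (s := (Finset.univ : Finset Ω))
      (by rw [Finset.card_univ]; omega) c
    obtain ⟨b', hb'⟩ := Finset.exists_mem_ne (s := (Finset.univ : Finset Ω))
      (by rw [Finset.card_univ]; omega) w
    obtain ⟨t, t1, -⟩ := h2 c b w b' hb.2.symm hb'.2.symm
    refine Finset.card_equiv (Equiv.mulLeft t) fun h => ?_
    simp only [Finset.mem_filter, Finset.mem_univ, true_and, Equiv.coe_mulLeft, mul_smul]
    exact ⟨fun e => by rw [e, t1], fun e => smul_left_cancel t (e.trans t1.symm)⟩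
  have hX1 : (∑ h, X h) * n = m * m * g := by
    have : ∀ h, X h = ∑ s ∈ S, ∑ t ∈ S, if h • s = t then 1 else 0 := fun h => by
      show (S.filter fun s => h • s ∈ S).card = _
      rw [Finset.card_filter]
      exact Finset.sum_congr rfl fun s _ => by rw [Finset.sum_ite_eq]
    rw [Finset.sum_congr rfl (fun h _ => this h), Finset.sum_comm, Finset.sum_mul,
      Finset.sum_congr rfl (fun s _ => by
        rw [Finset.sum_comm, Finset.sum_mul,
          Finset.sum_congr rfl (fun t _ => by rw [← Finset.card_filter, hone s t]),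
          Finset.sum_const, smul_eq_mul]),
      Finset.sum_const, smul_eq_mul]
    ring
  have hX2 : (∑ h, X h * (X h - 1)) * (n * (n - 1)) = (m * (m - 1)) * (m * (m - 1)) * g := by
    have hoff : S.offDiag.card = m * (m - 1) := by
      rw [Finset.offDiag_card, Nat.mul_sub, mul_one]
    have : ∀ h, X h * (X h - 1) = ∑ u ∈ S.offDiag, ∑ v ∈ S.offDiag,
        if h • u.1 = v.1 ∧ h • u.2 = v.2 then 1 else 0 := fun h => by
      have e : X h * (X h - 1) = ((S.filter fun s => h • s ∈ S)).offDiag.card := by
        rw [Finset.offDiag_card, Nat.mul_sub, mul_one]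
      rw [e, show (S.filter fun s => h • s ∈ S).offDiag =
          S.offDiag.filter (fun u => h • u.1 ∈ S ∧ h • u.2 ∈ S) by
        ext u; simp only [Finset.mem_offDiag, Finset.mem_filter]; tauto, Finset.card_filter]
      refine Finset.sum_congr rfl fun u hu => ?_
      rw [← Finset.card_filter]
      split_ifs with hin
      · symm
        rw [Finset.card_eq_one]
        refine ⟨(h • u.1, h • u.2), ?_⟩
        ext v
        simp only [Finset.mem_filter, Finset.mem_singleton, Finset.mem_offDiag]
        exact ⟨fun e => Prod.ext e.2.1.symm e.2.2.symm, fun e => by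
          subst e
          exact ⟨⟨hin.1, hin.2, fun e' => (Finset.mem_offDiag.1 hu).2.2 (smul_left_cancel h e')⟩, rfl, rfl⟩⟩
      · symm
        rw [Finset.card_eq_zero, Finset.filter_eq_empty_iff]
        intro v hv e
        exact hin ⟨e.1 ▸ (Finset.mem_offDiag.1 hv).1, e.2 ▸ (Finset.mem_offDiag.1 hv).2.1⟩
    rw [Finset.sum_congr rfl (fun h _ => this h), Finset.sum_comm, Finset.sum_mul,
      Finset.sum_congr rfl (fun u hu => by
        rw [Finset.sum_comm, Finset.sum_mul,
          Finset.sum_congr rfl (fun v hv => by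
            rw [← Finset.card_filter, hmap u.1 u.2 (Finset.mem_offDiag.1 hu).2.2 v.1 v.2
              (Finset.mem_offDiag.1 hv).2.2]),
          Finset.sum_const, hoff, smul_eq_mul]),
      Finset.sum_const, hoff, smul_eq_mul]
    ring
  have hsum : ∑ h, X h ≤ ∑ h, X h * (X h - 1) := Finset.sum_le_sum fun h _ => hle h
  have h3 := Nat.mul_le_mul_right (n * (n - 1)) hsum
  rw [hX2, ← mul_assoc, hX1] at h3
  have hg : 0 < g := Fintype.card_pos
  have h4 : (n - 1) * (m * m * g) ≤ (m - 1) ^ 2 * (m * m * g) := by
    calc (n - 1) * (m * m * g) = m * m * g * (n - 1) := by ring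
      _ ≤ _ := h3
      _ = _ := by ring
  have h5 := Nat.le_of_mul_le_mul_right h4 (by positivity)
  omega

end TwoTransitive

end Cfsg.Agent.H33.MinDegree
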