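import Mathlib
import Cfsg.Agent.H33.QuaternionAut
import Cfsg.Agent.H25.QuaternionSylow
import Cfsg.Agent.H76.FPFSylow
import Cfsg.Agent.H74.LocalTI
import Cfsg.Agent.Fusion.Frobenius
import Cfsg.Agent.Frobenius.Basic

/-!
A group acting regularly on the non-identity elements of an abelian group of odd order, with at
most one subgroup of order three, has a subgroup of index two.
-/

set_option autoImplicit false
set_option linter.unusedSectionVars false

namespace Cfsg.Agent.H33.Nearfield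

open Subgroup
open scoped Pointwise commutatorElement

universe u v

/-- The arithmetic at the end of the argument. -/
theorem no_size {r L : ℕ} (hr : 2 ≤ r) (heq : r * r = 24 * L + 1) (hL : L ∣ r - 1) (h3 : 3 ∣ L)
    (hodd : Odd L) : False := by
  obtain ⟨m, hm⟩ := hL
  obtain ⟨s, rfl⟩ : ∃ s, r = s + 1 := ⟨r - 1, by omega⟩
  rw [Nat.add_sub_cancel] at hm
  have h1 : L * (m * (s + 2)) = L * 24 := by
    rw [hm] at heq
    have e : (s + 1) * (s + 1) = s * (s + 2) + 1 := by ring
    rw [hm] at e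
    rw [hm]
    nlinarith
  have h2 : m * (s + 2) = 24 := Nat.eq_of_mul_eq_mul_left hodd.pos h1
  have hs : s + 2 ≤ 24 := Nat.le_of_dvd (by norm_num) ⟨m, by rw [mul_comm] at h2; exact h2.symm⟩
  have hLs : L ∣ s := ⟨m, hm⟩
  obtain ⟨t, rfl⟩ := hodd
  have hs' : s ≤ 22 := by omega
  interval_cases s <;> simp at heq <;> omega

variable {H : Type u} [Group H]

/-- A non-trivial quotient of two-power order gives a subgroup of index two. -/
theorem exists_index_two_of_quotient [Finite H] (K : Subgroup H) [K.Normal]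
    (hK : IsPGroup 2 (H ⧸ K)) (hne : K ≠ ⊤) : ∃ M : Subgroup H, M.index = 2 := by
  have : Fact (Nat.Prime 2) := ⟨Nat.prime_two⟩
  obtain ⟨k, hk⟩ := IsPGroup.iff_card.1 hK
  obtain ⟨j, rfl⟩ : ∃ j, k = j + 1 := by
    refine ⟨k - 1, ?_⟩
    by_contra h
    have : k = 0 := by omega
    subst this
    exact hne (Subgroup.index_eq_one.1 hk)
  obtain ⟨Q, hQ⟩ := Sylow.exists_subgroup_card_pow_prime (G := H ⧸ K) 2 (n := j)
    (by rw [hk]; exact pow_dvd_pow 2 j.le_succ)
  refine ⟨Q.comap (QuotientGroup.mk' K), ?_⟩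
  rw [Q.index_comap_of_surjective (QuotientGroup.mk'_surjective K)]
  have h := Q.card_mul_index
  rw [hQ, hk, pow_succ] at h
  exact Nat.eq_of_mul_eq_mul_left (by positivity) h

/-- The restriction of conjugation to a normalised subgroup, with its order. -/
theorem conjOn_props [Finite H] (U : Subgroup H) {g : H} (hg : g ∈ normalizer (U : Set H)) :
    ∃ α : MulAut U, (∀ u : U, ((α u : U) : H) = g * u * g⁻¹) ∧ orderOf α ∣ orderOf g ∧
      (α ^ 3 = 1 → ∀ u ∈ U, g ^ 3 * u * (g ^ 3)⁻¹ = u) := by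
  refine ⟨U.normalizerMonoidHom ⟨g, hg⟩, fun u => rfl, ?_, fun h u hu => ?_⟩
  · refine (orderOf_map_dvd _ _).trans ?_
    rw [orderOf_mk]
  · rw [← map_pow] at h
    exact congrArg Subtype.val (DFunLike.congr_fun h ⟨u, hu⟩)

variable [Finite H] {V : Type v} [CommGroup V] [Finite V] {φ : H →* MulAut V}

/-- A 2-subgroup normalised by an element of odd order not centralising it is `Q₈`. -/
theorem quat_structure [Nontrivial V] (hφ : Frobenius.IsFPF φ) {U : Subgroup H} (hU : IsPGroup 2 U)
    {g : H} (hg : g ∈ normalizer (U : Set H)) (hodd : Odd (orderOf g))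
    (hc : g ∉ centralizer (U : Set H)) :
    Nat.card U = 8 ∧ (∀ u ∈ U, g ^ 3 * u * (g ^ 3)⁻¹ = u) ∧
      U ≤ commutator H ∧ Nonempty (U ≃* QuaternionGroup 2) := by
  have : Fact (Nat.Prime 2) := ⟨Nat.prime_two⟩
  rw [mem_centralizer_iff] at hc
  push Not at hc
  obtain ⟨u0, hu0, hu0g⟩ := hc
  obtain ⟨α, hα, hαord, hα3⟩ := conjOn_props U hg
  have hα1 : α ≠ 1 := by
    intro h
    apply hu0g
    have := hα ⟨u0, hu0⟩
    rw [h, MulAut.one_apply] at this
    change u0 = g * u0 * g⁻¹ at this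
    exact (eq_mul_inv_iff_mul_eq.1 this)
  rcases H76.cyclic_or_quaternion_of_fpf (hφ.comp (f := U.subtype) U.subtype_injective) 2 hU with
    hcyc | ⟨-, n, ⟨e⟩⟩
  · exfalso
    obtain ⟨⟨c, hcU⟩, hgen⟩ := hcyc.exists_generator
    obtain ⟨k, hk⟩ := IsPGroup.iff_orderOf.1 hU ⟨c, hcU⟩
    rw [orderOf_mk] at hk
    have hmem : g * c * g⁻¹ ∈ zpowers c := by
      obtain ⟨j, hj⟩ := mem_zpowers_iff.1 (hgen ⟨g * c * g⁻¹, (mem_normalizer_iff.1 hg c).1 hcU⟩)
      exact ⟨j, congrArg Subtype.val hj⟩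
    have hfix := H25.conj_eq_of_zpowers hodd k hk hmem
    apply hu0g
    obtain ⟨j, hj⟩ := mem_zpowers_iff.1 (hgen ⟨u0, hu0⟩)
    have hj' : c ^ j = u0 := congrArg Subtype.val hj
    rw [← hj']
    exact ((show Commute g c from mul_inv_eq_iff_eq_mul.1 hfix).zpow_right j).eq.symm
  · let β : MulAut (QuaternionGroup (2 ^ n)) := MulAut.congr e α
    have hβo : orderOf β = orderOf α := (MulAut.congr e).orderOf_eq α
    obtain ⟨rfl, h3, hcl⟩ := QuatAut.quaternion_aut β (by rw [hβo]; exact hodd.of_dvd_nat hαord)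
      (fun h => hα1 ((MulAut.congr e).injective (h.trans (map_one _).symm)))
    refine ⟨?_, hα3 ((MulAut.congr e).injective ((map_pow _ _ _).trans (h3.trans (map_one _).symm))), ?_,
      ⟨e⟩⟩
    · rw [Nat.card_congr e.toEquiv, Nat.card_eq_fintype_card, QuaternionGroup.card]
      norm_num
    · intro u hu
      have h : e ⟨u, hu⟩ ∈ Subgroup.closure (Set.range fun x => β x * x⁻¹) := hcl ▸ Subgroup.mem_top _
      have key : ∀ y ∈ Subgroup.closure (Set.range fun x => β x * x⁻¹),
          ((e.symm y : U) : H) ∈ commutator H := by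
        intro y hy
        induction hy using Subgroup.closure_induction with
        | mem y hy =>
          obtain ⟨x, rfl⟩ := hy
          show ((e.symm (β x * x⁻¹) : U) : H) ∈ commutator H
          rw [show β x = e (α (e.symm x)) from rfl, map_mul, map_inv, MulEquiv.symm_apply_apply,
            Subgroup.coe_mul, Subgroup.coe_inv, hα, commutator_def]
          exact Subgroup.commutator_mem_commutator (mem_top g) (mem_top _)
        | one => rw [map_one]; exact one_mem _
        | mul a b _ _ iha ihb => rw [map_mul]; exact mul_mem iha ihb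
        | inv a _ iha => rw [map_inv]; exact inv_mem iha
      simpa using key _ h

/-- Cardinality of the group. -/
theorem card_add_one [Nontrivial V] (hφ : Frobenius.IsFPF φ)
    (htr : ∀ u v : V, u ≠ 1 → v ≠ 1 → ∃ h, φ h u = v) : Nat.card H + 1 = Nat.card V := by
  obtain ⟨v0, hv0⟩ := exists_ne (1 : V)
  have hne : ∀ h : H, φ h v0 ≠ 1 := fun h e => hv0 ((φ h).injective (e.trans (map_one _).symm))
  have hb : Function.Bijective (fun h : H => (⟨φ h v0, hne h⟩ : {v : V // v ≠ 1})) := by
    refine ⟨fun h h' e => ?_, fun v => ?_⟩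
    · by_contra hne'
      refine hv0 (hφ (h'⁻¹ * h) (fun e' => hne' (inv_mul_eq_one.1 e').symm) v0 ?_)
      have e' : φ h v0 = φ h' v0 := congrArg Subtype.val e
      rw [map_mul, MulAut.mul_apply, e', ← MulAut.mul_apply, ← map_mul, inv_mul_cancel, map_one,
        MulAut.one_apply]
    · obtain ⟨h, hh⟩ := htr v0 v hv0 v.2
      exact ⟨h, Subtype.ext hh⟩
  rw [Nat.card_congr (Equiv.ofBijective _ hb)]
  have : Fintype V := Fintype.ofFinite V
  classical
  rw [Nat.card_eq_fintype_card, Fintype.card_subtype_compl, Fintype.card_subtype_eq,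
    Nat.card_eq_fintype_card]
  have : 1 ≤ Fintype.card V := Fintype.card_pos
  omega

/-- All non-identity elements of `V` have the same prime order. -/
theorem exists_prime_exponent [Nontrivial V] (htr : ∀ u v : V, u ≠ 1 → v ≠ 1 → ∃ h, φ h u = v) :
    ∃ p : ℕ, p.Prime ∧ p ∣ Nat.card V ∧ ∀ v : V, v ^ p = 1 := by
  obtain ⟨p, hp, hpd⟩ := Nat.exists_prime_and_dvd (Finite.one_lt_card (α := V)).ne'
  have := Fact.mk hp
  obtain ⟨w, hw⟩ := exists_prime_orderOf_dvd_card' p hpd
  refine ⟨p, hp, hpd, fun v => ?_⟩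
  by_cases hv : v = 1
  · rw [hv, one_pow]
  obtain ⟨h, hh⟩ := htr w v (fun e => by rw [e, orderOf_one] at hw; exact hp.ne_one hw.symm) hv
  rw [← hh, ← map_pow, ← hw, pow_orderOf_eq_one, map_one]

/-- The quaternion case: a subgroup centralising `Q₈` has order dividing `√|V| - 1`. -/
theorem exists_half [Nontrivial V] (hφ : Frobenius.IsFPF φ)
    (htr : ∀ u v : V, u ≠ 1 → v ≠ 1 → ∃ h, φ h u = v) (hoddV : Odd (Nat.card V))
    {U : Subgroup H} (e : U ≃* QuaternionGroup 2) (C : Subgroup H) (hC : C ≤ centralizer (U : Set H)) :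
    ∃ r, r * r = Nat.card V ∧ Nat.card C ∣ r - 1 := by
  obtain ⟨p, hp, hpd, hexp⟩ := exists_prime_exponent htr
  have := Fact.mk hp
  have hp2 : p ≠ 2 := fun h => (Nat.not_even_iff_odd.2 hoddV) (even_iff_two_dvd.2 (h ▸ hpd))
  obtain ⟨a', b', hab⟩ := ZMod.sq_add_sq p (-1)
  set a := a'.val
  set b := b'.val
  have hpdvd : p ∣ a * a + b * b + 1 := by
    apply (CharP.cast_eq_zero_iff (ZMod p) p _).1
    push_cast
    simp only [a, b, ZMod.natCast_zmod_val]
    linear_combination hab
  obtain ⟨c, hc⟩ := hpdvd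
  let i : H := ((e.symm (QuaternionGroup.a 1) : U) : H)
  let j : H := ((e.symm (QuaternionGroup.xa 0) : U) : H)
  let z : H := ((e.symm (QuaternionGroup.a 2) : U) : H)
  have rel : ∀ {x y w : QuaternionGroup 2}, x * y = w →
      ((e.symm x : U) : H) * (e.symm y : U) = (e.symm w : U) := by
    intro x y w h
    rw [← h, map_mul]; rfl
  have hii : i * i = z := rel (by decide)
  have hjj : j * j = z := rel (by decide)
  have hz2 : z * z = 1 := by
    have := rel (show (QuaternionGroup.a 2 : QuaternionGroup 2) * QuaternionGroup.a 2 = 1 by decide)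
    rw [map_one] at this
    exact this
  have hji : j * i = z * (i * j) := by
    rw [show i * j = ((e.symm (QuaternionGroup.a 1 * QuaternionGroup.xa 0) : U) : H) from rel rfl]
    exact (rel (show QuaternionGroup.xa 0 * QuaternionGroup.a 1 =
      QuaternionGroup.a 2 * (QuaternionGroup.a 1 * QuaternionGroup.xa 0) by decide)).trans (rel rfl).symm
  have hzi : i * z = z * i := (rel rfl).trans ((congrArg (fun x => ((e.symm x : U) : H))
    (show QuaternionGroup.a 1 * QuaternionGroup.a 2 = QuaternionGroup.a 2 * QuaternionGroup.a 1 by decide)).trans (rel rfl).symm)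
  have hzj : j * z = z * j := (rel rfl).trans ((congrArg (fun x => ((e.symm x : U) : H))
    (show QuaternionGroup.xa 0 * QuaternionGroup.a 2 = QuaternionGroup.a 2 * QuaternionGroup.xa 0 by decide)).trans (rel rfl).symm)
  have hz1 : z ≠ 1 := fun h => absurd (e.symm.injective
    ((Subtype.ext h : e.symm (QuaternionGroup.a 2) = 1).trans (map_one e.symm).symm)) (by decide)
  have hzv : ∀ v, φ z v = v⁻¹ := by
    have h1 : MonoidHom.FixedPointFree (φ z).toMonoidHom := fun v hv => hφ z hz1 v hv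
    have h2 : Function.Involutive (φ z).toMonoidHom := fun v => by
      show φ z (φ z v) = v
      rw [← MulAut.mul_apply, ← map_mul, hz2, map_one, MulAut.one_apply]
    exact fun v => congrFun (h1.coe_eq_inv_of_involutive h2) v
  have ap : ∀ (x y : H) v, φ x (φ y v) = φ (x * y) v := fun x y v => by
    rw [map_mul, MulAut.mul_apply]
  let E : V →* V := ((φ i).toMonoidHom ^ a) * ((φ j).toMonoidHom ^ b)
  have hEv : ∀ v, E v = φ i v ^ a * φ j v ^ b := fun v => rfl
  have hEE : ∀ v, E (E v) = v := by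
    intro v
    simp only [hEv, map_mul, map_pow]
    simp only [← MulAut.mul_apply, ← map_mul, hii, hjj, hji]
    rw [show φ (z * (i * j)) v = (φ (i * j) v)⁻¹ by rw [← ap, hzv], hzv v]
    generalize φ (i * j) v = w
    simp only [inv_pow, mul_pow, ← pow_mul]
    have hv' : v ^ (a * a + b * b + 1) = 1 := by rw [hc, pow_mul, hexp, one_pow]
    rw [mul_comm b a]
    calc (v ^ (a * a))⁻¹ * w ^ (a * b) * ((w ^ (a * b))⁻¹ * (v ^ (b * b))⁻¹)
        = (v ^ (a * a + b * b))⁻¹ := by rw [mul_assoc, mul_inv_cancel_left, ← mul_inv, ← pow_add]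
      _ = v := by rw [inv_eq_iff_mul_eq_one, ← pow_succ]; exact hv'
  let k := i * j
  have hik : i * k = z * (k * i) := by
    show i * (i * j) = z * (i * j * i)
    have : i * j * i = j := by
      rw [mul_assoc, hji, ← mul_assoc i z, hzi, mul_assoc z i, ← mul_assoc i i, hii, ← mul_assoc z z,
        hz2, one_mul]
    rw [this, ← mul_assoc, hii]
  have hjk : j * k = z * (k * j) := by
    show j * (i * j) = z * (i * j * j)
    rw [← mul_assoc j i j, hji, mul_assoc z]
  have hEk : ∀ v, E (φ k v) = (φ k (E v))⁻¹ := by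
    intro v
    simp only [hEv, map_mul, map_pow]
    simp only [← MulAut.mul_apply, ← map_mul, hik, hjk]
    rw [show φ (z * (k * i)) v = (φ (k * i) v)⁻¹ by rw [← ap, hzv],
      show φ (z * (k * j)) v = (φ (k * j) v)⁻¹ by rw [← ap, hzv]]
    rw [inv_pow, inv_pow, mul_inv]
  let Vp : Subgroup V := MonoidHom.eqLocus E (MonoidHom.id V)
  let Vm : Subgroup V := MonoidHom.eqLocus E ((MulEquiv.inv V).toMonoidHom)
  have hVp : ∀ v, v ∈ Vp ↔ E v = v := fun v => Iff.rfl
  have hVm : ∀ v, v ∈ Vm ↔ E v = v⁻¹ := fun v => Iff.rfl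
  have hswap : Nat.card Vp = Nat.card Vm := by
    refine Nat.card_congr ((φ k).toEquiv.subtypeEquiv fun v => ?_)
    show v ∈ Vp ↔ φ k v ∈ Vm
    rw [hVp, hVm, hEk, inv_inj]
    exact ⟨fun h => by rw [h], fun h => (φ k).injective h⟩
  obtain ⟨h, hh⟩ : ∃ h, 2 * h = Nat.card V + 1 := by
    obtain ⟨m, hm⟩ := hoddV
    exact ⟨m + 1, by omega⟩
  have hpowV : ∀ v : V, v ^ (2 * h) = v := fun v => by
    rw [hh, pow_succ, pow_card_eq_one', one_mul]
  have hcompl : Subgroup.IsComplement' Vp Vm := by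
    refine Subgroup.isComplement'_of_disjoint_and_mul_eq_univ ?_ ?_
    · rw [Subgroup.disjoint_def]
      intro v hv hv'
      rw [hVp] at hv
      rw [hVm, hv] at hv'
      have h2 : v ^ 2 = 1 := by rw [pow_two]; exact mul_eq_one_iff_eq_inv.2 hv'
      rw [← hpowV v, pow_mul, h2, one_pow]
    · refine Set.eq_univ_of_forall fun v => ⟨(v * E v) ^ h, ?_, (v * (E v)⁻¹) ^ h, ?_, ?_⟩
      · show E _ = _
        rw [map_pow, map_mul, hEE, mul_comm]
        rfl
      · show E _ = _
        rw [map_pow, map_mul, map_inv, hEE]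
        show _ = ((v * (E v)⁻¹) ^ h)⁻¹
        rw [← inv_pow, mul_inv, inv_inv, mul_comm]
      · show (v * E v) ^ h * (v * (E v)⁻¹) ^ h = v
        rw [← mul_pow, mul_mul_mul_comm, mul_inv_cancel, mul_one, ← pow_two, ← pow_mul, hpowV]
  refine ⟨Nat.card Vp, ?_, ?_⟩
  · conv_lhs => arg 2; rw [hswap]
    exact hcompl.card_mul
  have hCE : ∀ (g : H), g ∈ C → ∀ v, E (φ g v) = φ g (E v) := by
    intro g hg v
    have hgi : i * g = g * i := mem_centralizer_iff.1 (hC hg) i (Subtype.coe_prop _)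
    have hgj : j * g = g * j := mem_centralizer_iff.1 (hC hg) j (Subtype.coe_prop _)
    simp only [hEv, map_mul, map_pow]
    simp only [← MulAut.mul_apply, ← map_mul, hgi, hgj]
  let Y := {v : V // E v = v ∧ v ≠ 1}
  letI : MulAction C Y :=
    { smul := fun g v => ⟨φ (g : H) v.1, by rw [hCE _ g.2, v.2.1],
        fun hh => v.2.2 ((φ (g : H)).injective (hh.trans (map_one _).symm))⟩
      one_smul := fun v => Subtype.ext (by show φ ((1 : C) : H) v.1 = v.1; simp)
      mul_smul := fun g g' v => Subtype.ext (by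
        show φ ((g * g' : C) : H) v.1 = φ (g : H) (φ (g' : H) v.1)
        rw [Subgroup.coe_mul, ap]) }
  have hfree := Frobenius.dvd_card_of_free C (X := Y) (fun g v hv => by
    by_contra hg
    exact v.2.2 (hφ (g : H) (fun hh => hg (Subtype.ext hh)) v.1 (congrArg Subtype.val hv)))
  have hY : Nat.card Y = Nat.card Vp - 1 := by
    classical
    have e1 : Y ≃ {v : Vp // v ≠ 1} :=
      { toFun := fun v => ⟨⟨v.1, v.2.1⟩, fun hh => v.2.2 (congrArg Subtype.val hh)⟩
        invFun := fun v => ⟨v.1.1, v.1.2, fun hh => v.2 (Subtype.ext hh)⟩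
        left_inv := fun _ => rfl
        right_inv := fun _ => rfl }
    have : Fintype Vp := Fintype.ofFinite _
    rw [Nat.card_congr e1, Nat.card_eq_fintype_card, Fintype.card_subtype_compl,
      Fintype.card_subtype_eq, Nat.card_eq_fintype_card]
  rwa [hY] at hfree

/-- Main theorem. -/
theorem exists_index_two [Nontrivial V] (hφ : Frobenius.IsFPF φ)
    (htr : ∀ u v : V, u ≠ 1 → v ≠ 1 → ∃ h, φ h u = v) (hoddV : Odd (Nat.card V))
    (h2H : 2 ∣ Nat.card H) (h3 : ∀ A B : Subgroup H, Nat.card A = 3 → Nat.card B = 3 → A = B) :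
    ∃ M : Subgroup H, M.index = 2 := by
  classical
  have : Fact (Nat.Prime 2) := ⟨Nat.prime_two⟩
  have : Fact (Nat.Prime 3) := ⟨Nat.prime_three⟩
  by_contra hno
  have hnc : ¬ HasNormalPComplement 2 H := by
    rintro ⟨P, K, hK, hcmp⟩
    have := hK
    refine hno (exists_index_two_of_quotient K (Fusion.isPGroup_quotient_of_isComplement' P hcmp) ?_)
    intro htop
    have := Fusion.not_dvd_card_of_isComplement' P hcmp
    rw [htop, Subgroup.card_top] at this
    exact this h2H
  let P : Sylow 2 H := default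
  rw [Fusion.frobenius_criterion P] at hnc
  push Not at hnc
  obtain ⟨U, hUP, g, hgN, hg2, hgC⟩ := hnc
  have hgodd : Odd (orderOf g) := Nat.coprime_two_right.1 hg2
  have hUp : IsPGroup 2 U := P.isPGroup'.to_le hUP
  obtain ⟨hU8, hg3, hUcomm, ⟨e⟩⟩ := quat_structure hφ hUp hgN hgodd hgC
  -- three divides the order
  have h3H : 3 ∣ Nat.card H := by
    by_contra h
    apply hgC
    have hco : Nat.Coprime (orderOf g) 3 :=
      ((Nat.prime_three.coprime_iff_not_dvd).2 fun hd => h (hd.trans (_root_.orderOf_dvd_natCard g))).symm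
    rw [mem_centralizer_iff]
    intro u hu
    obtain ⟨m, hm⟩ := exists_pow_eq_self_of_coprime hco.symm
    have hcm : Commute (g ^ 3) u := mul_inv_eq_iff_eq_mul.1 (hg3 u hu)
    have := hcm.pow_left m
    rw [hm] at this
    exact this.eq.symm
  obtain ⟨t, ht⟩ := exists_prime_orderOf_dvd_card' 3 h3H
  set T := zpowers t with hT
  have hTcard : Nat.card T = 3 := by rw [Nat.card_zpowers, ht]
  have hTn : T.Normal := ⟨fun x hx y => by
    have h := h3 (T.map (MulAut.conj y).toMonoidHom) T
      ((card_map_of_injective (MulAut.conj y).injective).trans hTcard) hTcard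
    have h1 : y * x * y⁻¹ ∈ T.map (MulAut.conj y).toMonoidHom := ⟨x, hx, rfl⟩
    rwa [h] at h1⟩
  have hTc : ∀ (y : H) (x : H), x ∈ T → y * x = x * y := by
    intro y x hx
    let ψ : H →* MulAut T := MulAut.conjNormal
    have hidx : ψ.ker.index ∣ 2 := by
      rw [Subgroup.index_ker]
      refine (card_subgroup_dvd_card _).trans ?_
      have : IsCyclic T := isCyclic_zpowers t
      rw [IsCyclic.card_mulAut, hTcard]
      decide
    rcases (Nat.dvd_prime Nat.prime_two).1 hidx with h1 | h2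
    · have hy : y ∈ ψ.ker := by rw [Subgroup.index_eq_one.1 h1]; trivial
      have := congrArg Subtype.val (DFunLike.congr_fun (MonoidHom.mem_ker.1 hy) ⟨x, hx⟩)
      exact mul_inv_eq_iff_eq_mul.1 this
    · exact absurd ⟨_, h2⟩ hno
  -- Sylow three-subgroups
  let X : Sylow 3 H := default
  have hXcyc : IsCyclic (X : Subgroup H) := by
    rcases H76.cyclic_or_quaternion_of_fpf (hφ.comp (f := (X : Subgroup H).subtype)
      (X : Subgroup H).subtype_injective) 3 X.isPGroup' with hc | ⟨hh, -⟩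
    · exact hc
    · omega
  have hTX : T ≤ X := (IsPGroup.of_card (n := 1) (by rw [hTcard, pow_one])).le_sylow_of_normal X
  have hnc3 : normalizer ((X : Subgroup H) : Set H) ≤ centralizer ((X : Subgroup H) : Set H) := fun y hy =>
    H74.fix_all 3 X hXcyc y hy t (hTX (mem_zpowers t))
      (fun h => by rw [h, orderOf_one] at ht; omega) (hTc y t (mem_zpowers t))
  obtain ⟨X', M, hMn, hMc⟩ := Fusion.hasNormalPComplement_of_normalizer_le_centralizer X hnc3
  have hM3 := Fusion.not_dvd_card_of_isComplement' X' hMc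
  have hMq := Fusion.isPGroup_quotient_of_isComplement' X' hMc
  have hmemM : ∀ {x : H}, x ∈ M ↔ Nat.Coprime (orderOf x) 3 := Fusion.mem_iff_coprime_orderOf hM3 hMq
  have two_pow_mem : ∀ {x : H} {k : ℕ}, orderOf x = 2 ^ k → x ∈ M := fun {x k} h =>
    hmemM.2 (by rw [h]; exact (Nat.Coprime.pow_left k (by norm_num)))
  have hUM : U ≤ M := fun u hu => by
    obtain ⟨k, hk⟩ := IsPGroup.iff_orderOf.1 hUp ⟨u, hu⟩
    rw [orderOf_mk] at hk
    exact two_pow_mem hk
  -- M has a normal two-complement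
  have hM2 : HasNormalPComplement 2 M := by
    let PM : Sylow 2 M := default
    rw [Fusion.frobenius_criterion PM]
    intro Q hQ y hy hy2
    by_contra hyc
    have hQ2 : IsPGroup 2 Q := PM.isPGroup'.to_le hQ
    obtain ⟨-, hy3, -, -⟩ := quat_structure (φ := φ.comp M.subtype) (hφ.comp (f := M.subtype) M.subtype_injective)
      hQ2 hy (Nat.coprime_two_right.1 hy2) hyc
    apply hyc
    rw [mem_centralizer_iff]
    intro u hu
    have hco : Nat.Coprime (orderOf y) 3 :=
      ((Nat.prime_three.coprime_iff_not_dvd).2 fun hd =>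
        hM3 (hd.trans (_root_.orderOf_dvd_natCard y))).symm
    obtain ⟨m, hm⟩ := exists_pow_eq_self_of_coprime hco.symm
    have hcm : Commute (y ^ 3) u := mul_inv_eq_iff_eq_mul.1 (hy3 u hu)
    have := hcm.pow_left m
    rw [hm] at this
    exact this.eq.symm
  obtain ⟨PM, OM, hOMn, hOMc⟩ := hM2
  have hOM2 := Fusion.not_dvd_card_of_isComplement' PM hOMc
  have hOMq := Fusion.isPGroup_quotient_of_isComplement' PM hOMc
  have hmemOM := fun {x : M} => Fusion.mem_iff_coprime_orderOf hOM2 hOMq (g := x)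
  let O : Subgroup H := OM.map M.subtype
  have hOM : O ≤ M := map_subtype_le OM
  have hmemO : ∀ {x : H}, x ∈ O ↔ x ∈ M ∧ Odd (orderOf x) := by
    intro x
    constructor
    · rintro ⟨w, hw, rfl⟩
      refine ⟨w.2, ?_⟩
      rw [coe_subtype, Subgroup.orderOf_coe]
      exact Nat.coprime_two_right.1 (hmemOM.1 hw)
    · rintro ⟨hxM, hx⟩
      refine ⟨⟨x, hxM⟩, hmemOM.2 ?_, rfl⟩
      rw [orderOf_mk]
      exact Nat.coprime_two_right.2 hx
  have hOn : O.Normal := ⟨fun x hx y => by
    obtain ⟨h1, h2⟩ := hmemO.1 hx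
    exact hmemO.2 ⟨hMn.conj_mem x h1 y, by
      rw [show y * x * y⁻¹ = MulAut.conj y x from rfl, MulEquiv.orderOf_eq]; exact h2⟩⟩
  have hOodd : ¬ 2 ∣ Nat.card O := by
    rw [card_map_of_injective M.subtype_injective]; exact hOM2
  have hO3 : ¬ 3 ∣ Nat.card O := fun h => hM3 (h.trans (card_dvd_of_le hOM))
  -- the quotient by `O`
  let π := QuotientGroup.mk' O
  have hker : ∀ {x : H}, π x = 1 ↔ x ∈ O := fun {x} => QuotientGroup.eq_one_iff x
  have hUO : ∀ {x : H}, x ∈ U → x ∈ O → x = 1 := by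
    intro x hxU hxO
    obtain ⟨k, hk⟩ := IsPGroup.iff_orderOf.1 hUp ⟨x, hxU⟩
    rw [orderOf_mk] at hk
    have h2 := (hmemO.1 hxO).2
    exact orderOf_eq_one_iff.1 (Nat.eq_one_of_dvd_coprimes
      ((Nat.coprime_two_right.2 h2).pow_right k) dvd_rfl hk.dvd)
  have hMbar : IsPGroup 2 (M.map π) := by
    rintro ⟨x, y, hy, rfl⟩
    obtain ⟨k, hk⟩ := hOMq (QuotientGroup.mk ⟨y, hy⟩)
    rw [← QuotientGroup.mk_pow, QuotientGroup.eq_one_iff] at hk
    refine ⟨k, Subtype.ext ?_⟩
    show π y ^ 2 ^ k = 1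
    rw [← map_pow, hker]
    exact ⟨_, hk, rfl⟩
  have hMbarn : (M.map π).Normal := hMn.map π (QuotientGroup.mk'_surjective O)
  have hgbarN : π g ∈ normalizer (M.map π : Set (H ⧸ O)) := by
    rw [normalizer_eq_top]; trivial
  -- transfer to a Sylow subgroup of `M`
  have hePM : Function.Bijective (fun x : (PM : Subgroup M) =>
      (⟨π ((x : M) : H), ⟨(x : M), (x : M).2, rfl⟩⟩ : M.map π)) := by
    constructor
    · intro x y hxy
      have h1 : π ((x : M) : H) = π ((y : M) : H) := congrArg Subtype.val hxy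
      have h2 : ((y : M) : H)⁻¹ * ((x : M) : H) ∈ O := by
        rw [← hker, map_mul, map_inv, h1, inv_mul_cancel]
      obtain ⟨w, hw, hw'⟩ := h2
      have hw'' : w = (y : M)⁻¹ * (x : M) := Subtype.ext hw'
      have : (y : M)⁻¹ * (x : M) ∈ OM ⊓ (PM : Subgroup M) :=
        ⟨hw'' ▸ hw, (PM : Subgroup M).mul_mem ((PM : Subgroup M).inv_mem y.2) x.2⟩
      rw [hOMc.disjoint.eq_bot, mem_bot, inv_mul_eq_one] at this
      exact Subtype.ext this.symm
    · rintro ⟨_, y, hy, rfl⟩
      obtain ⟨⟨o, x⟩, hox⟩ := hOMc.2 ⟨y, hy⟩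
      refine ⟨x, Subtype.ext ?_⟩
      show π ((x : M) : H) = π y
      have h1 : ((o : M) : H) * ((x : M) : H) = y := congrArg Subtype.val hox
      rw [← h1, map_mul, show π ((o : M) : H) = 1 from hker.2 ⟨(o : M), o.2, rfl⟩, one_mul]
  let ePM : (PM : Subgroup M) ≃* (M.map π) := MulEquiv.mk (Equiv.ofBijective _ hePM)
    (fun x y => Subtype.ext (by simp))
  -- size of M
  have hbar8 : Nat.card (M.map π) = 8 := by
    have hgbar : π g ∉ centralizer (M.map π : Set (H ⧸ O)) := by
      intro hc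
      apply hgC
      rw [mem_centralizer_iff]
      intro u hu
      have h1 := mem_centralizer_iff.1 hc (π u) ⟨u, hUM hu, rfl⟩
      have h2 : g * u * g⁻¹ * u⁻¹ = 1 := by
        refine hUO (mul_mem ((mem_normalizer_iff.1 hgN u).1 hu) (inv_mem hu)) (hker.1 ?_)
        rw [map_mul, map_mul, map_inv, map_inv, map_mul, ← h1]
        group
      rw [mul_inv_eq_one, mul_inv_eq_iff_eq_mul] at h2
      exact h2.symm
    obtain ⟨α, hα, hαord, -⟩ := conjOn_props (M.map π) hgbarN
    rcases H76.cyclic_or_quaternion_of_fpf ((hφ.comp (f := M.subtype) M.subtype_injective).comp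
      (f := (PM : Subgroup M).subtype) (PM : Subgroup M).subtype_injective) 2 PM.isPGroup' with
      hcyc | ⟨-, n, ⟨en⟩⟩
    · exfalso
      have : IsCyclic (M.map π) := isCyclic_of_surjective ePM ePM.surjective
      obtain ⟨⟨c, hcM⟩, hgen⟩ := ‹IsCyclic (M.map π)›.exists_generator
      obtain ⟨k, hk⟩ := IsPGroup.iff_orderOf.1 hMbar ⟨c, hcM⟩
      rw [orderOf_mk] at hk
      have hoddbar : Odd (orderOf (π g)) := hgodd.of_dvd_nat (orderOf_map_dvd π g)
      have hmem : π g * c * (π g)⁻¹ ∈ zpowers c := by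
        obtain ⟨j, hj⟩ := mem_zpowers_iff.1 (hgen ⟨_, (mem_normalizer_iff.1 hgbarN c).1 hcM⟩)
        exact ⟨j, congrArg Subtype.val hj⟩
      have hfix := H25.conj_eq_of_zpowers hoddbar k hk hmem
      apply hgbar
      rw [mem_centralizer_iff]
      intro x hx
      obtain ⟨j, hj⟩ := mem_zpowers_iff.1 (hgen ⟨x, hx⟩)
      have hj' : c ^ j = x := congrArg Subtype.val hj
      rw [← hj']
      exact ((show Commute (π g) c from mul_inv_eq_iff_eq_mul.1 hfix).zpow_right j).eq.symm
    · let eM := ePM.symm.trans en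
      have hα1 : α ≠ 1 := by
        intro h
        apply hgbar
        rw [mem_centralizer_iff]
        intro x hx
        have := hα ⟨x, hx⟩
        rw [h, MulAut.one_apply] at this
        exact eq_mul_inv_iff_mul_eq.1 this
      obtain ⟨hn, -, -⟩ := QuatAut.quaternion_aut (MulAut.congr eM α)
        (by rw [(MulAut.congr eM).orderOf_eq]
            exact (hgodd.of_dvd_nat (orderOf_map_dvd π g)).of_dvd_nat hαord)
        (fun h => hα1 ((MulAut.congr eM).injective (h.trans (map_one _).symm)))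
      subst hn
      rw [Nat.card_congr eM.toEquiv, Nat.card_eq_fintype_card, QuaternionGroup.card]
      norm_num
  have hUbar : U.map π = M.map π := by
    refine eq_of_le_of_card_ge (map_mono hUM) ?_
    rw [hbar8, ← hU8]
    refine le_of_eq (Nat.card_congr (Equiv.ofBijective
      (fun x : U => (⟨π x, x.1, x.2, rfl⟩ : U.map π)) ⟨fun x y hxy => ?_, ?_⟩))
    · have h1 : π (x : H) = π y := congrArg Subtype.val hxy
      have h2 := hUO (mul_mem (inv_mem y.2) x.2) (hker.1 (by rw [map_mul, map_inv, h1, inv_mul_cancel]))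
      exact Subtype.ext (inv_mul_eq_one.1 h2).symm
    · rintro ⟨_, x, hx, rfl⟩
      exact ⟨⟨x, hx⟩, rfl⟩
  have hMdec : ∀ {y : H}, y ∈ M → ∃ u ∈ U, ∃ o ∈ O, y = u * o := by
    intro y hy
    obtain ⟨u, hu, hu'⟩ : π y ∈ U.map π := hUbar ▸ ⟨y, hy, rfl⟩
    exact ⟨u, hu, u⁻¹ * y, hker.1 (by rw [map_mul, map_inv, hu', inv_mul_cancel]), by group⟩
  -- order of H
  have hMcard : Nat.card M = 8 * Nat.card O := by
    have h1 : Nat.card M = Nat.card OM * Nat.card (PM : Subgroup M) := hOMc.card_mul.symm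
    have h2 : Nat.card (PM : Subgroup M) = Nat.card (M.map π) := Nat.card_congr ePM.toEquiv
    rw [h1, h2, hbar8, card_map_of_injective M.subtype_injective, mul_comm]
  obtain ⟨e3, he3⟩ := IsPGroup.iff_card.1 X'.isPGroup'
  have hHcard : Nat.card H = 8 * Nat.card O * 3 ^ e3 := by rw [← hMc.card_mul, hMcard, he3]
  have hsyl : ∀ Q : Subgroup H, Nat.card Q = 8 → ∃ c : H, ∀ u ∈ U, c * u * c⁻¹ ∈ Q := by
    intro Q hQ
    have hnd : ¬ 2 ∣ Nat.card O * 3 ^ e3 := by
      intro hd
      rcases Nat.prime_two.dvd_mul.1 hd with h | h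
      · exact hOodd h
      · exact absurd (Nat.prime_two.dvd_of_dvd_pow h) (by norm_num)
    have hidx : ∀ Q : Subgroup H, Nat.card Q = 8 → ¬ 2 ∣ Q.index := by
      intro Q hQ
      have := Q.card_mul_index
      rw [hQ, hHcard, mul_assoc] at this
      rwa [Nat.eq_of_mul_eq_mul_left (by norm_num) this]
    let SQ : Sylow 2 H := (IsPGroup.of_card (n := 3) (hQ.trans (by norm_num))).toSylow (hidx Q hQ)
    let SU : Sylow 2 H := hUp.toSylow (hidx U hU8)
    obtain ⟨c, hc⟩ := MulAction.exists_smul_eq H SU SQ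
    refine ⟨c, fun u hu => ?_⟩
    have : (SQ : Subgroup H) = MulAut.conj c • (SU : Subgroup H) := by rw [← hc]; rfl
    show c * u * c⁻¹ ∈ (SQ : Subgroup H)
    rw [this]
    exact Subgroup.smul_mem_pointwise_smul u (MulAut.conj c) U hu
  -- U centralises O
  have hOC : O ≤ centralizer (U : Set H) := by
    set D := O ⊓ centralizer (U : Set H) with hD
    suffices h : Nat.card O ∣ Nat.card D by
      have := eq_of_le_of_card_ge (inf_le_left : D ≤ O) (Nat.le_of_dvd Nat.card_pos h)
      rw [← this]; exact inf_le_right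
    rw [Nat.dvd_iff_prime_pow_dvd_dvd]
    intro r k hr hrk
    rcases Nat.eq_zero_or_pos k with rfl | hk
    · simp
    have := Fact.mk hr
    have hr2 : r ≠ 2 := fun e => hOodd (e ▸ (dvd_pow_self r hk.ne').trans hrk)
    let R : Sylow r O := default
    set R' : Subgroup H := (R : Subgroup O).map O.subtype
    have hR'card : Nat.card R' = Nat.card (R : Subgroup O) := card_map_of_injective O.subtype_injective
    have hR'p : IsPGroup r R' := R.isPGroup'.map _
    have hR'cyc : IsCyclic R' := by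
      rcases H76.cyclic_or_quaternion_of_fpf (hφ.comp (f := R'.subtype) R'.subtype_injective) r hR'p with
        hc | ⟨hh, -⟩
      · exact hc
      · exact absurd hh hr2
    have hsup : normalizer (R' : Set H) ⊔ O = ⊤ := Sylow.normalizer_sup_eq_top R
    set NR := normalizer (R' : Set H)
    have hNRmap : NR.map π = ⊤ := by
      have := congrArg (Subgroup.map π) hsup
      rw [Subgroup.map_sup, map_top_of_surjective π (QuotientGroup.mk'_surjective O),
        show O.map π = ⊥ from (Subgroup.map_eq_bot_iff _).2 (by rw [QuotientGroup.ker_mk']), sup_bot_eq] at this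
      exact this
    have hC8 : 8 ∣ Nat.card ↥(centralizer (R' : Set H)) := by
      have h1 : ⁅NR, NR⁆ ≤ centralizer (R' : Set H) := by
        rw [commutator_le]
        intro a ha b hb
        rw [mem_centralizer_iff]
        intro x hx
        have hmem : ⁅a, b⁆ ∈ NR := by
          rw [commutatorElement_def]
          exact mul_mem (mul_mem (mul_mem ha hb) (inv_mem ha)) (inv_mem hb)
        have hcomm : R'.normalizerMonoidHom ⟨⁅a, b⁆, hmem⟩ = 1 := by
          have e1 : (⟨⁅a, b⁆, hmem⟩ : NR) = ⁅(⟨a, ha⟩ : NR), ⟨b, hb⟩⁆ := rfl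
          rw [e1, map_commutatorElement, commutatorElement_eq_one_iff_mul_comm]
          have hc : ∀ p q : MulAut R', p * q = q * p := by
            intro p q
            apply (IsCyclic.mulAutMulEquiv R').injective
            rw [map_mul, map_mul]
            exact mul_comm _ _
          exact hc _ _
        have := congrArg Subtype.val (DFunLike.congr_fun hcomm ⟨x, hx⟩)
        exact (mul_inv_eq_iff_eq_mul.1 this).symm
      have h2 : U.map π ≤ ⁅NR, NR⁆.map π := by
        rw [map_commutator, hNRmap]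
        calc U.map π ≤ (commutator H).map π := map_mono hUcomm
          _ = ⁅(⊤ : Subgroup (H ⧸ O)), ⊤⁆ := by
            rw [_root_.commutator_def, map_commutator, map_top_of_surjective π (QuotientGroup.mk'_surjective O)]
      have h8 : Nat.card (U.map π) = 8 := by rw [hUbar, hbar8]
      calc 8 = Nat.card (U.map π) := h8.symm
        _ ∣ Nat.card (⁅NR, NR⁆.map π) := card_dvd_of_le h2
        _ ∣ Nat.card ↥⁅NR, NR⁆ := card_map_dvd _ _
        _ ∣ _ := card_dvd_of_le h1
    obtain ⟨Q, hQ⟩ := Sylow.exists_subgroup_card_pow_prime (G := centralizer (R' : Set H)) 2 (n := 3)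
      (by norm_num; exact hC8)
    obtain ⟨c, hc⟩ := hsyl (Q.map (centralizer (R' : Set H)).subtype)
      (by rw [card_map_of_injective (Subgroup.subtype_injective _), hQ]; norm_num)
    have hle : R'.map (MulAut.conj c⁻¹).toMonoidHom ≤ D := by
      rintro _ ⟨x, hx, rfl⟩
      refine ⟨?_, ?_⟩
      · exact hOn.conj_mem x (map_subtype_le _ hx) c⁻¹
      · show MulAut.conj c⁻¹ x ∈ centralizer (U : Set H)
        rw [mem_centralizer_iff]
        intro u hu
        obtain ⟨w, -, hw⟩ := hc u hu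
        have h5 : (c * u * c⁻¹) * x = x * (c * u * c⁻¹) := by
          rw [← hw]
          exact (mem_centralizer_iff.1 w.2 x hx).symm
        simp only [MulAut.conj_apply, inv_inv]
        calc u * (c⁻¹ * x * c) = c⁻¹ * ((c * u * c⁻¹) * x) * c := by group
          _ = c⁻¹ * (x * (c * u * c⁻¹)) * c := by rw [h5]
          _ = c⁻¹ * x * c * u := by group
    have h6 : Nat.card R' ∣ Nat.card D := by
      rw [Nat.card_congr (R'.equivMapOfInjective (MulAut.conj c⁻¹).toMonoidHom
        (MulAut.conj c⁻¹).injective).toEquiv]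
      exact card_dvd_of_le hle
    refine (Nat.dvd_trans ?_ h6)
    rw [hR'card]
    exact ((hr.coprime_iff_not_dvd.2 R.not_dvd_index).pow_left k).dvd_of_dvd_mul_right
      (by rw [(R : Subgroup O).card_mul_index]; exact hrk)
  have hOcomm : ∀ o ∈ O, ∀ u ∈ U, u * o = o * u := fun o ho u hu => mem_centralizer_iff.1 (hOC ho) u hu
  have hUn : ∀ y : H, ∀ u ∈ U, y * u * y⁻¹ ∈ U := by
    intro y u hu
    obtain ⟨u', hu', o, ho, hy⟩ := hMdec (hMn.conj_mem u (hUM hu) y)
    have hco : Commute u' o := hOcomm o ho u' hu'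
    obtain ⟨k, hk⟩ := IsPGroup.iff_orderOf.1 hUp ⟨u, hu⟩
    obtain ⟨k', hk'⟩ := IsPGroup.iff_orderOf.1 hUp ⟨u', hu'⟩
    rw [orderOf_mk] at hk hk'
    have hu1 : u ^ 2 ^ (k + k') = 1 :=
      orderOf_dvd_iff_pow_eq_one.1 (hk ▸ pow_dvd_pow 2 (Nat.le_add_right k k'))
    have hu2 : u' ^ 2 ^ (k + k') = 1 :=
      orderOf_dvd_iff_pow_eq_one.1 (hk' ▸ pow_dvd_pow 2 (Nat.le_add_left k' k))
    have hpo : o ^ 2 ^ (k + k') = 1 := by
      have h1 : (y * u * y⁻¹) ^ 2 ^ (k + k') = 1 := by rw [conj_pow, hu1, mul_one, mul_inv_cancel]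
      rwa [hy, hco.mul_pow, hu2, one_mul] at h1
    have ho1 : o = 1 := orderOf_eq_one_iff.1 (Nat.eq_one_of_dvd_coprimes
      ((Nat.coprime_two_right.2 (hmemO.1 ho).2).pow_right (k + k')) dvd_rfl (orderOf_dvd_of_pow_eq_one hpo))
    rw [hy, ho1, mul_one]
    exact hu'
  -- a generator of the Sylow three-subgroup
  have hX'cyc : IsCyclic (X' : Subgroup H) := by
    rcases H76.cyclic_or_quaternion_of_fpf (hφ.comp (f := (X' : Subgroup H).subtype)
      (X' : Subgroup H).subtype_injective) 3 X'.isPGroup' with hc | ⟨hh, -⟩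
    · exact hc
    · omega
  obtain ⟨⟨x, hxX⟩, hgenx⟩ := hX'cyc.exists_generator
  have hxord : orderOf x = 3 ^ e3 := by
    rw [← he3, ← orderOf_eq_card_of_forall_mem_zpowers hgenx, orderOf_mk]
  have hxodd : Odd (orderOf x) := by rw [hxord]; exact Odd.pow (by decide)
  have hxN : x ∈ normalizer (U : Set H) := H74.mem_normalizer_of_conj (hUn x)
  have hxC : x ∉ centralizer (U : Set H) := by
    intro hxC
    apply hgC
    -- every element acts on U as an element of U
    have hall : ∀ y : H, ∃ w ∈ U, w⁻¹ * y ∈ centralizer (U : Set H) := by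
      intro y
      obtain ⟨⟨m, x'⟩, hmx⟩ := hMc.2 y
      obtain ⟨w, hw, o, ho, hmo⟩ := hMdec m.2
      refine ⟨w, hw, ?_⟩
      rw [← hmx]
      show w⁻¹ * ((m : H) * (x' : H)) ∈ _
      rw [hmo, mul_assoc w, inv_mul_cancel_left]
      refine mul_mem (hOC ho) ?_
      obtain ⟨j, hj⟩ := mem_zpowers_iff.1 (hgenx x')
      rw [show (x' : H) = x ^ j from (congrArg Subtype.val hj).symm]
      exact zpow_mem hxC j
    obtain ⟨w, hw, hwg⟩ := hall g
    -- conjugation by g agrees with w; iterate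
    have hconj : ∀ u ∈ U, g * u * g⁻¹ = w * u * w⁻¹ := by
      intro u hu
      have h := mem_centralizer_iff.1 hwg u hu
      calc g * u * g⁻¹ = w * ((w⁻¹ * g) * u) * g⁻¹ := by group
        _ = w * (u * (w⁻¹ * g)) * g⁻¹ := by rw [h]
        _ = w * u * w⁻¹ := by group
    obtain ⟨α, hα, hαord, -⟩ := conjOn_props U hgN
    obtain ⟨α', hα', hα'ord, -⟩ := conjOn_props U (Subgroup.le_normalizer hw)
    have hαα' : α = α' := MulEquiv.ext fun u => Subtype.ext (by rw [hα, hα', hconj u u.2])
    obtain ⟨k, hk⟩ := IsPGroup.iff_orderOf.1 hUp ⟨w, hw⟩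
    rw [orderOf_mk] at hk
    have hα1 : α = 1 := orderOf_eq_one_iff.1 (Nat.eq_one_of_dvd_coprimes
      ((Nat.coprime_two_right.2 hgodd).pow_right k) hαord (hαα' ▸ hk ▸ hα'ord))
    rw [mem_centralizer_iff]
    intro u hu
    have := hα ⟨u, hu⟩
    rw [hα1, MulAut.one_apply] at this
    exact eq_mul_inv_iff_mul_eq.1 this
  obtain ⟨-, hx3, -, -⟩ := quat_structure hφ hUp hxN hxodd hxC
  have hx3C : x ^ 3 ∈ centralizer (U : Set H) := by
    rw [mem_centralizer_iff]
    intro u hu
    exact (mul_inv_eq_iff_eq_mul.1 (hx3 u hu)).symm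
  -- x has order at least nine
  obtain ⟨e', rfl⟩ : ∃ e', e3 = e' + 2 := by
    refine ⟨e3 - 2, ?_⟩
    by_contra hlt
    have hle : e3 ≤ 1 := by omega
    apply hxC
    have hxT : x ∈ T := by
      interval_cases e3
      · rw [pow_zero] at hxord
        rw [orderOf_eq_one_iff.1 hxord]; exact one_mem _
      · rw [pow_one] at hxord
        have h := h3 (zpowers x) T (by rw [Nat.card_zpowers, hxord]) hTcard
        exact h ▸ mem_zpowers x
    rw [mem_centralizer_iff]
    intro u hu
    exact hTc u x hxT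
  set C := O ⊔ zpowers (x ^ 3) with hCdef
  have hCcent : C ≤ centralizer (U : Set H) := sup_le hOC (zpowers_le.2 hx3C)
  have hx3ord : orderOf (x ^ 3) = 3 ^ (e' + 1) := by
    rw [orderOf_pow' x three_ne_zero, hxord, pow_succ, Nat.gcd_mul_left_left,
      Nat.mul_div_cancel _ (by norm_num)]
  have hdisj : Disjoint O (zpowers (x ^ 3)) := by
    refine disjoint_of_coprime_natCard ?_
    rw [Nat.card_zpowers, hx3ord]
    exact (Nat.prime_three.coprime_iff_not_dvd.2 hO3).symm.pow_right _
  have hCcard : Nat.card C = Nat.card O * 3 ^ (e' + 1) := by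
    rw [← hx3ord, ← Nat.card_zpowers, ← Nat.card_prod]
    refine (Nat.card_congr (Equiv.ofBijective
      (fun p : O × zpowers (x ^ 3) => (⟨(p.1 : H) * p.2,
        mul_mem (le_sup_left (a := O) p.1.2) (le_sup_right (a := O) p.2.2)⟩ : C)) ⟨?_, ?_⟩)).symm
    · intro p q hpq
      exact Subgroup.mul_injective_of_disjoint hdisj (congrArg Subtype.val hpq)
    · rintro ⟨y, hy⟩
      rw [hCdef, ← SetLike.mem_coe, normal_mul] at hy
      obtain ⟨o, ho, w, hw, rfl⟩ := Set.mem_mul.1 hy
      exact ⟨(⟨o, ho⟩, ⟨w, hw⟩), rfl⟩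
  obtain ⟨r, hr, hrd⟩ := exists_half hφ htr hoddV e C hCcent
  have hV := card_add_one hφ htr
  refine no_size (r := r) (L := Nat.card C) ?_ ?_ hrd ?_ ?_
  · by_contra h
    have : r * r ≤ 1 := by interval_cases r <;> simp
    have := Finite.one_lt_card (α := V)
    omega
  · rw [hr, ← hV, hHcard, hCcard, pow_succ 3 (e' + 1)]
    ring
  · rw [hCcard]; exact dvd_mul_of_dvd_right (dvd_pow_self 3 (by omega)) _
  · rw [hCcard]
    exact Odd.mul (Nat.odd_iff.2 (Nat.two_dvd_ne_zero.1 hOodd)) (Odd.pow (by decide))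

end Cfsg.Agent.H33.Nearfield
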