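import Mathlib
import Cfsg.Agent.H33.NearfieldIndexTwo
import Cfsg.Agent.H33.Hermitian

/-!
A group acting regularly on the non-identity elements of an abelian group of order `p ^ f` (`f` odd)
and having an involutive automorphism with at most two fixed elements is abelian.
-/

set_option autoImplicit false
set_option linter.unusedSectionVars false

namespace Cfsg.Agent.H33.Nearfield

open Subgroup

universe u v

variable {H : Type u} [Group H] [Finite H] {V : Type v} [CommGroup V] [Finite V] {φ : H →* MulAut V}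

theorem not_square_pow_odd {p f r : ℕ} (hp : p.Prime) (hf : Odd f) (h : r * r = p ^ f) : False := by
  obtain ⟨k, -, rfl⟩ := (Nat.dvd_prime_pow hp).1 (h ▸ dvd_mul_right r r)
  rw [← pow_add] at h
  have := Nat.pow_right_injective hp.two_le h
  obtain ⟨m, hm⟩ := hf
  omega

/-- The Sylow two-subgroup is cyclic as `|V|` is not a square. -/
theorem sylow_two_cyclic [Nontrivial V] (hφ : Frobenius.IsFPF φ)
    (htr : ∀ u v : V, u ≠ 1 → v ≠ 1 → ∃ h, φ h u = v) (hoddV : Odd (Nat.card V))
    {p f : ℕ} (hp : p.Prime) (hf : Odd f) (hV : Nat.card V = p ^ f) (P : Sylow 2 H) :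
    IsCyclic (P : Subgroup H) := by
  have : Fact (Nat.Prime 2) := ⟨Nat.prime_two⟩
  rcases H76.cyclic_or_quaternion_of_fpf (hφ.comp (f := (P : Subgroup H).subtype)
    (P : Subgroup H).subtype_injective) 2 P.isPGroup' with hc | ⟨-, n, ⟨e⟩⟩
  · exact hc
  obtain ⟨A, z, hA, hz1, hzA, hzz, hsq, hinv, hmul, hord⟩ := H25.quaternion_facts e
  by_cases hyA : ∀ y, y ∈ A
  · obtain ⟨g, hg⟩ := hA.exists_generator
    refine ⟨⟨g, fun y => ?_⟩⟩
    obtain ⟨j, hj⟩ := hg ⟨y, hyA y⟩
    exact ⟨j, congrArg Subtype.val hj⟩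
  push Not at hyA
  obtain ⟨y, hy⟩ := hyA
  by_cases hsmall : ∀ w : A, w ^ 2 = 1
  · -- then the group has order at most four
    refine isCyclic_of_orderOf_eq_card y (le_antisymm (Nat.le_of_dvd Nat.card_pos (orderOf_dvd_natCard y)) ?_)
    classical
    have := Fintype.ofFinite A
    have hA2 : Nat.card A ≤ 2 := by
      rw [Nat.card_eq_fintype_card, ← Finset.card_univ]
      refine le_trans (Finset.card_le_card (fun x _ => ?_)) (IsCyclic.card_pow_eq_one_le (α := A) two_pos)
      simp [hsmall x]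
    have hidx : Nat.card (P : Subgroup H) ≤ 2 * Nat.card A := by
      have hsurj : Function.Surjective (fun b : Bool × A => if b.1 then y * (b.2 : (P : Subgroup H)) else (b.2 : (P : Subgroup H))) := by
        intro x
        by_cases hx : x ∈ A
        · exact ⟨(false, ⟨x, hx⟩), rfl⟩
        · exact ⟨(true, ⟨y⁻¹ * x, hmul _ _ (fun h => hy (inv_mem_iff.1 h)) hx⟩), by simp⟩
      have := Nat.card_le_card_of_surjective _ hsurj
      rwa [Nat.card_prod, Nat.card_eq_fintype_card (α := Bool), Fintype.card_bool] at this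
    have hy4 : orderOf y = 4 := by
      have h2 : y ^ 2 = z := by rw [pow_two]; exact hsq y hy
      refine orderOf_eq_prime_pow (p := 2) (n := 1) ?_ ?_
      · rw [pow_one, h2]; exact hz1
      · rw [show 2 ^ (1 + 1) = 2 * 2 from rfl, pow_mul, h2, pow_two]; exact hzz
    omega
  exfalso
  push Not at hsmall
  obtain ⟨w, hw⟩ := hsmall
  obtain ⟨k, hk⟩ := hord (w : (P : Subgroup H))
  have hk2 : 2 ≤ k := by
    by_contra h
    apply hw
    apply Subtype.ext
    rw [Subgroup.coe_pow, Subgroup.coe_one, ← orderOf_dvd_iff_pow_eq_one, hk]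
    exact pow_dvd_pow 2 (show k ≤ 1 by omega)
  let c : (P : Subgroup H) := (w : (P : Subgroup H)) ^ 2 ^ (k - 2)
  have hcA : c ∈ A := pow_mem w.2 _
  have hc4 : orderOf c = 4 := by
    show orderOf ((w : (P : Subgroup H)) ^ 2 ^ (k - 2)) = 4
    rw [orderOf_pow' _ (by positivity), hk, Nat.gcd_eq_right (pow_dvd_pow 2 (show k - 2 ≤ k by omega)),
      Nat.pow_div (show k - 2 ≤ k by omega) two_pos, show k - (k - 2) = 2 by omega]
    rfl
  have hyy : y * c * y⁻¹ = c⁻¹ := hinv y hy c hcA
  have hy2 : y ^ 2 = c ^ 2 := by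
    classical
    have hcc : (⟨c, hcA⟩ : A) ^ 2 ≠ 1 := fun h => by
      have h2 : c ^ 2 = 1 := congrArg Subtype.val h
      have := orderOf_dvd_of_pow_eq_one h2
      rw [hc4] at this
      norm_num at this
    have hc22 : ((⟨c, hcA⟩ : A) ^ 2) ^ 2 = 1 := by
      rw [← pow_mul]
      exact Subtype.ext (by rw [Subgroup.coe_pow, show 2 * 2 = 4 from rfl, ← hc4]; exact pow_orderOf_eq_one c)
    have hzsq : (⟨z, hzA⟩ : A) ^ 2 = 1 := Subtype.ext (by rw [Subgroup.coe_pow, pow_two]; exact hzz)
    have := Fintype.ofFinite A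
    have h3 := IsCyclic.card_pow_eq_one_le (α := A) two_pos
    by_contra hne
    rw [pow_two, hsq y hy] at hne
    have hsub : ({1, ⟨z, hzA⟩, (⟨c, hcA⟩ : A) ^ 2} : Finset A) ⊆ Finset.univ.filter fun a : A => a ^ 2 = 1 := by
      intro a ha
      simp only [Finset.mem_insert, Finset.mem_singleton] at ha
      rcases ha with rfl | rfl | rfl
      · simp
      · simp [hzsq]
      · simp only [Finset.mem_filter, Finset.mem_univ, true_and]; exact hc22
    have h4 := (Finset.card_le_card hsub).trans h3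
    rw [Finset.card_insert_of_notMem, Finset.card_pair] at h4
    · omega
    · exact fun h => hne (congrArg Subtype.val h)
    · simp only [Finset.mem_insert, Finset.mem_singleton]
      rintro (h | h)
      · exact hz1 (congrArg Subtype.val h).symm
      · exact hcc h.symm
  -- the hom from `Q₈`
  have hq4 : c ^ 4 = 1 := hc4 ▸ pow_orderOf_eq_one c
  let q := H25.quaternionHom c y hq4 hy2 hyy
  have hc2ne : c ^ 2 ≠ 1 := fun h => by
    have := orderOf_dvd_of_pow_eq_one h
    rw [hc4] at this
    norm_num at this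
  have hqinj : Function.Injective q := by
    rw [injective_iff_map_eq_one]
    intro x hx
    by_contra hx1
    have key : ∀ x : QuaternionGroup 2, x ≠ 1 → x = QuaternionGroup.a 2 ∨ x * x = QuaternionGroup.a 2 := by decide
    have hz : q (QuaternionGroup.a 2) = 1 := by
      rcases key x hx1 with rfl | h
      · exact hx
      · rw [← h, map_mul, hx, one_mul]
    exact hc2ne hz
  let q' : QuaternionGroup 2 →* H := (P : Subgroup H).subtype.comp q
  have hq'inj : Function.Injective q' := (P : Subgroup H).subtype_injective.comp hqinj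
  obtain ⟨r, hr, -⟩ := exists_half hφ htr hoddV (U := q'.range) (MonoidHom.ofInjective hq'inj).symm ⊥ bot_le
  exact not_square_pow_odd hp hf (hr.trans hV)

/-- An abelian normal subgroup of index at most two is central when `|V| = p ^ f`, `f` odd, `p` odd. -/
theorem le_center_of_index_le_two [Nontrivial V] (hφ : Frobenius.IsFPF φ)
    (htr : ∀ u v : V, u ≠ 1 → v ≠ 1 → ∃ h, φ h u = v)
    {p f : ℕ} (hp : p.Prime) (hp2 : p ≠ 2) (hf : Odd f) (hV : Nat.card V = p ^ f)
    (C : Subgroup H) [C.Normal] (hC : IsMulCommutative C) (hidx : C.index ≤ 2) :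
    C ≤ center H := by
  classical
  intro c0 hc0
  rw [mem_center_iff]
  intro t
  let W := Additive V
  let ψ : H → AddMonoid.End W := fun h => MonoidHom.toAdditive (φ h).toMonoidHom
  have hψ : ∀ h v, ψ h (Additive.ofMul v) = Additive.ofMul (φ h v) := fun h v => rfl
  have hψmul : ∀ g h, ψ (g * h) = ψ g * ψ h := fun g h => AddMonoidHom.ext fun w => by
    show Additive.ofMul (φ (g * h) w.toMul) = _
    rw [map_mul]; rfl
  have hψone : ψ 1 = 1 := AddMonoidHom.ext fun w => by
    show Additive.ofMul (φ 1 w.toMul) = _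
    rw [map_one]; rfl
  have hψinj : Function.Injective ψ := fun g h e => by
    by_contra hne
    obtain ⟨v, hv⟩ := exists_ne (1 : V)
    refine hv (hφ (h⁻¹ * g) (fun e' => hne (inv_mul_eq_one.1 e').symm) v ?_)
    have e' : φ g v = φ h v := congrArg Additive.toMul (DFunLike.congr_fun e (Additive.ofMul v))
    rw [map_mul, MulAut.mul_apply, e', ← MulAut.mul_apply, ← map_mul, inv_mul_cancel, map_one,
      MulAut.one_apply]
  haveI : Finite (AddMonoid.End W) :=
    Finite.of_injective (fun (a : AddMonoid.End W) => (a : W → W)) DFunLike.coe_injective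
  let S : Set (AddMonoid.End W) := ψ '' C
  have hScomm : ∀ x ∈ S, ∀ y ∈ S, x * y = y * x := by
    rintro _ ⟨x, hx, rfl⟩ _ ⟨y, hy, rfl⟩
    rw [← hψmul, ← hψmul]
    exact congrArg ψ (congrArg Subtype.val (hC.is_comm.comm ⟨x, hx⟩ ⟨y, hy⟩))
  let A := Subring.closure S
  letI : CommRing A :=
    { (inferInstance : Ring A) with
      mul_comm := fun a b => Subtype.ext ((Subring.isMulCommutative_closure hScomm).is_comm.comm a b |> congrArg Subtype.val) }
  have hcard := card_add_one hφ htr
  have hCcard : Nat.card H ≤ 2 * Nat.card C := by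
    rw [← C.card_mul_index, mul_comm]
    exact Nat.mul_le_mul_right _ hidx
  have hp3 : 3 ≤ p := by have := hp.two_le; omega
  -- invariant subgroups
  have hinv : ∀ K : AddSubgroup W, (∀ c ∈ C, ∀ w ∈ K, ψ c w ∈ K) → K ≠ ⊤ → K = ⊥ := by
    intro K hK hKtop
    by_contra hKbot
    haveI := Fintype.ofFinite K
    let Y := {w : K // w ≠ 0}
    letI : MulAction C Y :=
      { smul := fun c w => ⟨⟨ψ (c : H) (w.1 : W), hK c c.2 _ w.1.2⟩, fun h => w.2 (Subtype.ext ((φ (c : H)).injective
          ((congrArg (fun x : K => Additive.toMul (x : W)) h).trans (map_one (φ (c : H))).symm)))⟩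
        one_smul := fun w => Subtype.ext (Subtype.ext (by show ψ ((1 : C) : H) (w.1 : W) = (w.1 : W); rw [Subgroup.coe_one, hψone]; rfl))
        mul_smul := fun c d w => Subtype.ext (Subtype.ext (by
          show ψ ((c * d : C) : H) (w.1 : W) = ψ (c : H) (ψ (d : H) (w.1 : W))
          rw [Subgroup.coe_mul, hψmul]; rfl)) }
    have hd := Frobenius.dvd_card_of_free C (X := Y) (fun c w hw => by
      by_contra hc
      have h0 : Additive.toMul (w.1 : W) = 1 := hφ (c : H) (fun hh => hc (Subtype.ext hh)) _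
        (congrArg (fun x : Y => Additive.toMul (x.1 : W)) hw)
      exact w.2 (Subtype.ext h0))
    have hY : Nat.card Y = Nat.card K - 1 := by
      rw [Nat.card_eq_fintype_card, Fintype.card_subtype_compl, Fintype.card_subtype_eq, Nat.card_eq_fintype_card]
    rw [hY] at hd
    have hK1 : 1 < Nat.card K := by
      by_contra h
      exact hKbot (AddSubgroup.eq_bot_of_card_eq K (le_antisymm (not_lt.1 h) Nat.card_pos))
    have hle := Nat.le_of_dvd (by omega) hd
    -- a proper subgroup has index at least `p`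
    have hW : Nat.card W = p ^ f := hV
    obtain ⟨i, hi, hKi⟩ := (Nat.dvd_prime_pow hp).1 (hW ▸ K.card_addSubgroup_dvd_card)
    have hi' : i < f := by
      refine lt_of_le_of_ne hi ?_
      rintro rfl
      exact hKtop (AddSubgroup.eq_top_of_card_eq K (by rw [hKi, hW]))
    obtain ⟨f', rfl⟩ : ∃ f', f = f' + 1 := ⟨f - 1, by omega⟩
    have h1 : p ^ i ≤ p ^ f' := Nat.pow_le_pow_right hp.pos (by omega)
    have h2 : 3 * p ^ f' ≤ p ^ (f' + 1) := by
      rw [pow_succ']; exact Nat.mul_le_mul_right _ hp3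
    have h3 : Nat.card V = p ^ (f' + 1) := hV
    have := Nat.one_le_pow f' p hp.pos
    omega
  -- elements of A commute with C
  have hAC : ∀ a : A, ∀ c ∈ C, (a : AddMonoid.End W) * ψ c = ψ c * a := by
    intro a c hc
    exact congrArg Subtype.val (mul_comm a (⟨ψ c, Subring.subset_closure ⟨c, hc, rfl⟩⟩ : A))
  have hAinj : ∀ a : A, a ≠ 0 → Function.Injective (a : AddMonoid.End W) := by
    intro a ha
    rw [injective_iff_map_eq_zero]
    have h := hinv (AddMonoidHom.ker (a : AddMonoid.End W)) (fun c hc w hw => by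
      show (a : AddMonoid.End W) (ψ c w) = 0
      have h1 := DFunLike.congr_fun (hAC a c hc) w
      change (a : AddMonoid.End W) (ψ c w) = ψ c ((a : AddMonoid.End W) w) at h1
      rw [h1, show (a : AddMonoid.End W) w = 0 from hw, map_zero]) (fun htop => ha (Subtype.ext (AddMonoidHom.ext fun w => by
        exact (htop ▸ AddSubgroup.mem_top w : w ∈ AddMonoidHom.ker (a : AddMonoid.End W)))))
    intro w hw
    exact (h ▸ (show w ∈ AddMonoidHom.ker (a : AddMonoid.End W) from hw) : w ∈ (⊥ : AddSubgroup W))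
  obtain ⟨v0, hv0⟩ := exists_ne (1 : V)
  let w0 : W := Additive.ofMul v0
  have hw0 : w0 ≠ 0 := hv0
  haveI : Nontrivial A := ⟨⟨1, 0, fun h => hw0 (DFunLike.congr_fun (congrArg Subtype.val h) w0)⟩⟩
  haveI : NoZeroDivisors A := ⟨fun {a b} hab => by
    by_contra hcon
    push Not at hcon
    apply hcon.2
    refine Subtype.ext (AddMonoidHom.ext fun w => hAinj a hcon.1 ?_)
    have := DFunLike.congr_fun (congrArg Subtype.val hab) w
    exact this.trans (map_zero (a : AddMonoid.End W)).symm⟩
  haveI : IsDomain A := NoZeroDivisors.to_isDomain A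
  letI : Field A := (Finite.isField_of_domain A).toField
  haveI := Fintype.ofFinite A
  let ev : A →+ W :=
    { toFun := fun a => (a : AddMonoid.End W) w0
      map_zero' := rfl
      map_add' := fun a b => rfl }
  have hev : Function.Bijective ev := by
    refine ⟨(injective_iff_map_eq_zero ev).2 fun a ha => ?_, ?_⟩
    · by_contra hne
      exact hw0 (hAinj a hne (ha.trans (map_zero (a : AddMonoid.End W)).symm))
    · rw [← AddMonoidHom.range_eq_top]
      by_contra hne
      have h := hinv ev.range (fun c hc w hw => by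
        obtain ⟨a, rfl⟩ := hw
        exact ⟨(⟨ψ c, Subring.subset_closure ⟨c, hc, rfl⟩⟩ : A) * a, rfl⟩) hne
      have : w0 ∈ ev.range := ⟨1, rfl⟩
      rw [h] at this
      exact hw0 this
  have hAcard : Fintype.card A = p ^ f := by
    rw [← Nat.card_eq_fintype_card, Nat.card_congr (Equiv.ofBijective ev hev)]; exact hV
  -- conjugation
  have hconjmem : ∀ (y : H) (a : AddMonoid.End W), a ∈ A → ψ y * a * ψ y⁻¹ ∈ A := by
    intro y a ha
    induction ha using Subring.closure_induction with
    | mem x hx =>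
      obtain ⟨c, hc, rfl⟩ := hx
      rw [← hψmul, ← hψmul]
      exact Subring.subset_closure ⟨_, Subgroup.Normal.conj_mem inferInstance c hc y, rfl⟩
    | zero => rw [mul_zero, zero_mul]; exact A.zero_mem
    | one => rw [mul_one, ← hψmul, mul_inv_cancel, hψone]; exact A.one_mem
    | add x z _ _ h1 h2 => rw [mul_add, add_mul]; exact A.add_mem h1 h2
    | neg x _ h1 =>
      have e : ψ y * -x * ψ y⁻¹ = -(ψ y * x * ψ y⁻¹) := AddMonoidHom.ext fun w => map_neg (ψ y) (x (ψ y⁻¹ w))
      rw [e]; exact A.neg_mem h1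
    | mul x z _ _ h1 h2 =>
      have : ψ y * (x * z) * ψ y⁻¹ = (ψ y * x * ψ y⁻¹) * (ψ y * z * ψ y⁻¹) := by
        have h3 : ψ y⁻¹ * ψ y = 1 := by rw [← hψmul, inv_mul_cancel, hψone]
        simp only [mul_assoc]
        rw [← mul_assoc (ψ y⁻¹) (ψ y), h3, one_mul]
      rw [this]; exact A.mul_mem h1 h2
  let σ : A →+* A :=
    { toFun := fun a => ⟨ψ t * (a : AddMonoid.End W) * ψ t⁻¹, hconjmem t a a.2⟩
      map_one' := Subtype.ext (by
        show ψ t * 1 * ψ t⁻¹ = 1
        rw [mul_one, ← hψmul, mul_inv_cancel, hψone])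
      map_mul' := fun a b => Subtype.ext (by
        show ψ t * ((a : AddMonoid.End W) * b) * ψ t⁻¹ = ψ t * (a : AddMonoid.End W) * ψ t⁻¹ * (ψ t * b * ψ t⁻¹)
        have h3 : ψ t⁻¹ * ψ t = 1 := by rw [← hψmul, inv_mul_cancel, hψone]
        simp only [mul_assoc]
        rw [← mul_assoc (ψ t⁻¹) (ψ t), h3, one_mul])
      map_zero' := Subtype.ext (by show ψ t * 0 * ψ t⁻¹ = 0; rw [mul_zero, zero_mul])
      map_add' := fun a b => Subtype.ext (by
        show ψ t * ((a : AddMonoid.End W) + b) * ψ t⁻¹ = _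
        rw [mul_add, add_mul]; rfl) }
  have ht2 : t * t ∈ C := by
    rcases Nat.lt_or_ge C.index 2 with h | h
    · have : C.index = 1 := by have := C.index_ne_zero_of_finite; omega
      rw [Subgroup.index_eq_one.1 this]; trivial
    · have h2 : C.index = 2 := le_antisymm hidx h
      exact Subgroup.sq_mem_of_index_two h2 t |> fun h => by rwa [pow_two] at h
  have hσ2 : ∀ a, σ (σ a) = a := by
    intro a
    apply Subtype.ext
    show ψ t * (ψ t * (a : AddMonoid.End W) * ψ t⁻¹) * ψ t⁻¹ = a
    have e : ψ t * (ψ t * (a : AddMonoid.End W) * ψ t⁻¹) * ψ t⁻¹ = ψ (t * t) * a * ψ (t⁻¹ * t⁻¹) := by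
      simp only [hψmul, mul_assoc]
    rw [e, ← hAC a (t * t) ht2, mul_assoc, ← hψmul, show t * t * (t⁻¹ * t⁻¹) = 1 by group, hψone, mul_one]
  have hσid : σ = RingHom.id A := by
    by_contra hne
    obtain ⟨r, hr, -⟩ := H33.exists_card_eq_sq σ hne hσ2
    rw [hAcard] at hr
    exact not_square_pow_odd hp hf (r := r) (by rw [hr, pow_two])
  have key := congrArg Subtype.val (RingHom.congr_fun hσid (⟨ψ c0, Subring.subset_closure ⟨c0, hc0, rfl⟩⟩ : A))
  have key' : ψ t * ψ c0 * ψ t⁻¹ = ψ c0 := key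
  rw [← hψmul, ← hψmul] at key'
  exact mul_inv_eq_iff_eq_mul.1 (hψinj key')

/-- Main theorem. -/
theorem commutative_of_fpf [Nontrivial V] (hφ : Frobenius.IsFPF φ)
    (htr : ∀ u v : V, u ≠ 1 → v ≠ 1 → ∃ h, φ h u = v)
    {p f : ℕ} (hp : p.Prime) (hp2 : p ≠ 2) (hf : Odd f) (hV : Nat.card V = p ^ f)
    (σ : H ≃* H) (hσ2 : ∀ x, σ (σ x) = x) (hfix : Nat.card {x : H // σ x = x} ≤ 2) :
    ∀ a b : H, a * b = b * a := by
  classical
  have : Fact (Nat.Prime 2) := ⟨Nat.prime_two⟩
  have hoddV : Odd (Nat.card V) := hV ▸ (hp.odd_of_ne_two hp2).pow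
  have h2H : 2 ∣ Nat.card H := by
    have := card_add_one hφ htr
    obtain ⟨m, hm⟩ := hoddV
    exact ⟨m, by omega⟩
  let P : Sylow 2 H := default
  have hPc := sylow_two_cyclic hφ htr hoddV hp hf hV P
  have hmin : (Nat.card H).minFac = 2 := (Nat.minFac_eq_two_iff _).2 h2H
  have hnp : HasNormalPComplement 2 H :=
    Fusion.hasNormalPComplement_of_normalizer_le_centralizer P (IsCyclic.normalizer_le_centralizer hmin hPc)
  obtain ⟨P', O, hOn, hOc⟩ := hnp
  have := hOn
  have hO2 := Fusion.not_dvd_card_of_isComplement' P' hOc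
  have hOq := Fusion.isPGroup_quotient_of_isComplement' P' hOc
  have hmemO : ∀ {x : H}, x ∈ O ↔ Nat.Coprime (orderOf x) 2 := fun {x} =>
    Fusion.mem_iff_coprime_orderOf hO2 hOq
  -- `σ` inverts `O`
  have hσO : ∀ x ∈ O, σ x ∈ O := fun x hx => hmemO.2 (by rw [MulEquiv.orderOf_eq]; exact hmemO.1 hx)
  let s : O →* O :=
    { toFun := fun x => ⟨σ x, hσO x x.2⟩
      map_one' := Subtype.ext (map_one σ)
      map_mul' := fun x y => Subtype.ext (map_mul σ (x : H) (y : H)) }
  let Fix : Subgroup H := MonoidHom.eqLocus σ.toMonoidHom (MonoidHom.id H)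
  have hFix : Nat.card Fix ≤ 2 := hfix
  have hsfree : MonoidHom.FixedPointFree s := by
    intro x hx
    have h1 : σ (x : H) = x := congrArg Subtype.val hx
    have h2 : orderOf (x : H) ≤ 2 := by
      refine le_trans ?_ hFix
      have := Fix.orderOf_dvd_natCard (show (x : H) ∈ Fix from h1)
      exact Nat.le_of_dvd Nat.card_pos this
    have h3 : orderOf (x : H) = 1 := by
      have h4 := Nat.coprime_two_right.1 (hmemO.1 x.2)
      obtain ⟨m, hm⟩ := h4
      omega
    exact Subtype.ext (orderOf_eq_one_iff.1 h3)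
  have hsinv : Function.Involutive s := fun x => Subtype.ext (hσ2 x)
  have hOinv : ∀ x ∈ O, σ x = x⁻¹ := fun x hx =>
    congrArg Subtype.val (congrFun (hsfree.coe_eq_inv_of_involutive hsinv) ⟨x, hx⟩)
  have hOcomm : ∀ x ∈ O, ∀ y ∈ O, x * y = y * x := fun x hx y hy =>
    congrArg Subtype.val (hsfree.commute_all_of_involutive hsinv ⟨x, hx⟩ ⟨y, hy⟩).eq
  -- the centraliser of `O` has index at most two
  let ψ : H →* MulAut O := MulAut.conjNormal
  have hψσ : ∀ h, ψ (σ h) = ψ h := by
    intro h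
    refine MulEquiv.ext fun o => Subtype.ext ?_
    show σ h * (o : H) * (σ h)⁻¹ = h * o * h⁻¹
    have h1 := hOinv _ (hOn.conj_mem _ (inv_mem o.2) h)
    rw [map_mul, map_mul, map_inv, map_inv, hOinv o o.2, inv_inv] at h1
    rw [h1]; group
  let m : H → ψ.ker := fun h => ⟨σ h * h⁻¹, by
    rw [MonoidHom.mem_ker, map_mul, map_inv, hψσ, mul_inv_cancel]⟩
  have hcount : Nat.card H ≤ Nat.card ψ.ker * 2 := by
    let r : ψ.ker → H := Function.invFun m
    have hr : ∀ h, σ ((r (m h))⁻¹ * h) = (r (m h))⁻¹ * h := by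
      intro h
      have h1 : m (r (m h)) = m h := Function.invFun_eq ⟨h, rfl⟩
      have h2 : σ (r (m h)) * (r (m h))⁻¹ = σ h * h⁻¹ := congrArg Subtype.val h1
      rw [map_mul, map_inv]
      rw [mul_inv_eq_iff_eq_mul] at h2
      rw [h2]
      group
    have : Function.Injective (fun h => (m h, (⟨(r (m h))⁻¹ * h, hr h⟩ : {x : H // σ x = x}))) := by
      intro h h' e
      have e1 : m h = m h' := congrArg Prod.fst e
      have e2 : (r (m h))⁻¹ * h = (r (m h'))⁻¹ * h' := congrArg Subtype.val (congrArg Prod.snd e)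
      rw [e1] at e2
      exact mul_left_cancel e2
    refine (Nat.card_le_card_of_injective _ this).trans ?_
    rw [Nat.card_prod]
    exact Nat.mul_le_mul_left _ hfix
  have hidx : ψ.ker.index ≤ 2 := by
    have := ψ.ker.card_mul_index
    exact Nat.le_of_mul_le_mul_left (by omega) (Nat.card_pos (α := ψ.ker))
  have hOle : O ≤ ψ.ker := fun x hx => MonoidHom.mem_ker.2 (MulEquiv.ext fun o => Subtype.ext (by
    show x * (o : H) * x⁻¹ = o
    rw [hOcomm x hx o o.2, mul_inv_cancel_right]))
  -- it is abelian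
  have hP'c : IsCyclic (H ⧸ O) := by
    have := sylow_two_cyclic hφ htr hoddV hp hf hV P'
    exact isCyclic_of_surjective ((QuotientGroup.mk' O).comp (P' : Subgroup H).subtype) (fun x => by
      obtain ⟨h, rfl⟩ := QuotientGroup.mk'_surjective O x
      obtain ⟨⟨o, y⟩, hoy⟩ := hOc.2 h
      refine ⟨y, ?_⟩
      have hoy' : (o : H) * (y : H) = h := hoy
      show QuotientGroup.mk' O (y : H) = _
      rw [← hoy', map_mul, (QuotientGroup.eq_one_iff (o : H)).2 o.2 |> (fun e => (e : QuotientGroup.mk' O (o : H) = 1)),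
        one_mul])
  have hCcomm : IsMulCommutative ψ.ker := by
    refine ⟨⟨fun x y => commutative_of_cyclic_center_quotient ((QuotientGroup.mk' O).comp ψ.ker.subtype) ?_ x y⟩⟩
    intro z hz
    rw [MonoidHom.mem_ker, MonoidHom.comp_apply, QuotientGroup.mk'_apply, QuotientGroup.eq_one_iff] at hz
    rw [Subgroup.mem_center_iff]
    intro g
    have hg : ψ (g : H) = 1 := g.2
    have := congrArg Subtype.val (DFunLike.congr_fun hg ⟨(z : H), hz⟩)
    exact Subtype.ext (mul_inv_eq_iff_eq_mul.1 this)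
  have hcen : ψ.ker ≤ center H := le_center_of_index_le_two hφ htr hp hp2 hf hV ψ.ker hCcomm hidx
  have hcyc2 : IsCyclic (H ⧸ ψ.ker) := by
    have hle : Nat.card (H ⧸ ψ.ker) ≤ 2 := hidx
    have hpos : 0 < Nat.card (H ⧸ ψ.ker) := Nat.card_pos
    rcases (show Nat.card (H ⧸ ψ.ker) = 1 ∨ Nat.card (H ⧸ ψ.ker) = 2 by omega) with h | h
    · have := (Nat.card_eq_one_iff_unique.1 h).1
      exact isCyclic_of_subsingleton
    · exact isCyclic_of_prime_card h
  exact commutative_of_cyclic_center_quotient (QuotientGroup.mk' ψ.ker) (by rw [QuotientGroup.ker_mk']; exact hcen)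

end Cfsg.Agent.H33.Nearfield
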