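import Mathlib
import Cfsg.Agent.H27.ProjLine

/-!
Sharply triply transitive groups of odd degree are projective general linear groups.
-/

set_option autoImplicit false
set_option linter.unusedSectionVars false

namespace Cfsg.Agent.H33.SharpOdd

open scoped LinearAlgebra.Projectivization
open Cfsg.Agent.H27

section Line

variable {F : Type} [Field F]

theorem finite_ne (x : F) : ![x, 1] ≠ (0 : Fin 2 → F) := fun h => by simpa using congrFun h 1

theorem inf_ne : ![(1 : F), 0] ≠ (0 : Fin 2 → F) := fun h => by simpa using congrFun h 0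

theorem pt_eq_iff {v w : Fin 2 → F} (hv : v ≠ 0) (hw : w ≠ 0) :
    Projectivization.mk F v hv = Projectivization.mk F w hw ↔ GLTwo.wedge v w = 0 := by
  refine ⟨fun h => ?_, fun h => (GLTwo.mk_eq_mk_of_wedge hv hw h).symm⟩
  obtain ⟨c, hc⟩ := (Projectivization.mk_eq_mk_iff' F _ _ _ _).1 h
  rw [← hc]; simp [GLTwo.wedge]; ring

theorem mk_mulVec (k : GL (Fin 2) F) (v : Fin 2 → F) (hv : v ≠ 0) (w : Fin 2 → F) (hw : w ≠ 0)
    (h : GLTwo.wedge ((k : Matrix (Fin 2) (Fin 2) F).mulVec v) w = 0) :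
    Matrix.ProjGenLinGroup.mk k • Projectivization.mk F v hv = Projectivization.mk F w hw := by
  change Projectivization.mk F (k • v) _ = _
  exact (pt_eq_iff _ hw).2 h

end Line

/-- A sharply triply transitive group of odd degree with three marked points. -/
structure Data (G α : Type*) [Group G] [MulAction G α] [Fintype α] where
  /-- infinity -/
  a : α
  /-- zero -/
  b : α
  /-- one -/
  c : α
  hab : a ≠ b
  hac : a ≠ c
  hbc : b ≠ c
  odd : Odd (Fintype.card α)
  fix3 : ∀ (g : G) (x y z : α), x ≠ y → x ≠ z → y ≠ z → g • x = x → g • y = y → g • z = z → g = 1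
  trans3 : ∀ x y z x' y' z' : α, x ≠ y → x ≠ z → y ≠ z → x' ≠ y' → x' ≠ z' → y' ≠ z' →
    ∃ g : G, g • x = x' ∧ g • y = y' ∧ g • z = z'

variable {G α : Type*} [Group G] [Finite G] [MulAction G α] [Fintype α] [DecidableEq α] (D : Data G α)
include D

theorem Data.ext3 {g g' : G} {x y z : α} (hxy : x ≠ y) (hxz : x ≠ z) (hyz : y ≠ z)
    (hx : g • x = g' • x) (hy : g • y = g' • y) (hz : g • z = g' • z) : g = g' := by
  have h : g'⁻¹ * g = 1 := D.fix3 _ x y z hxy hxz hyz (by rw [mul_smul, hx, inv_smul_smul])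
    (by rw [mul_smul, hy, inv_smul_smul]) (by rw [mul_smul, hz, inv_smul_smul])
  exact (inv_mul_eq_one.1 h).symm

/-- An involution fixes at most one point (odd degree). -/
theorem Data.invol_fix {g : G} (hg : g * g = 1) (hg1 : g ≠ 1) {x y : α} (hx : g • x = x)
    (hy : g • y = y) : x = y := by
  classical
  by_contra hxy
  have hsq : (MulAction.toPerm g : Equiv.Perm α) ^ 2 = 1 := by
    ext z
    simp [pow_two, ← mul_smul, hg]
  have hm := Equiv.Perm.card_compl_support_modEq (p := 2) (n := 1)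
    (σ := (MulAction.toPerm g : Equiv.Perm α)) (by rwa [pow_one])
  have hsub : (MulAction.toPerm g : Equiv.Perm α).supportᶜ = {x, y} := by
    ext z
    simp only [Finset.mem_compl, Equiv.Perm.mem_support, MulAction.toPerm_apply, ne_eq, not_not,
      Finset.mem_insert, Finset.mem_singleton]
    constructor
    · intro hz
      by_contra h
      push Not at h
      exact hg1 (D.fix3 g x y z hxy (Ne.symm h.1) (Ne.symm h.2) hx hy hz)
    · rintro (rfl | rfl) <;> assumption
  rw [hsub, Finset.card_pair hxy] at hm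
  obtain ⟨m, hm'⟩ := D.odd
  unfold Nat.ModEq at hm
  omega

/-- In the group of translations: fixes `a` and squares to one. -/
def Data.InN (g : G) : Prop := g • D.a = D.a ∧ g * g = 1

theorem Data.inN_ext {g g' : G} (hg : D.InN g) (hg' : D.InN g') (h : g • D.b = g' • D.b) : g = g' := by
  by_cases hx : g • D.b = D.b
  · have h1 : g = 1 := by
      by_contra hne
      exact D.hab (D.invol_fix hg.2 hne hg.1 hx)
    have h2 : g' = 1 := by
      by_contra hne
      exact D.hab (D.invol_fix hg'.2 hne hg'.1 (h ▸ hx))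
    rw [h1, h2]
  · refine D.ext3 D.hab (z := g • D.b) ?_ (Ne.symm hx) (hg.1.trans hg'.1.symm) h ?_
    · intro e
      exact D.hab (smul_left_cancel g (hg.1.trans e))
    · rw [← mul_smul, hg.2, one_smul, h, ← mul_smul, hg'.2, one_smul]

theorem Data.exists_trans (x : α) : ∃ g : G, D.InN g ∧ (x ≠ D.a → g • D.b = x) := by
  by_cases hx : x = D.a
  · exact ⟨1, ⟨one_smul _ _, one_mul 1⟩, fun h => absurd hx h⟩
  by_cases hxb : x = D.b
  · exact ⟨1, ⟨one_smul _ _, one_mul 1⟩, fun _ => by rw [hxb, one_smul]⟩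
  obtain ⟨g, g1, g2, g3⟩ := D.trans3 D.a D.b x D.a x D.b D.hab (Ne.symm hx) (Ne.symm hxb) (Ne.symm hx)
    D.hab hxb
  refine ⟨g, ⟨g1, ?_⟩, fun _ => g2⟩
  exact D.fix3 _ D.a D.b x D.hab (Ne.symm hx) (Ne.symm hxb) (by rw [mul_smul, g1, g1])
    (by rw [mul_smul, g2, g3]) (by rw [mul_smul, g3, g2])

/-- The translation taking `b` to `x`. -/
noncomputable def Data.tau (x : α) : G := (D.exists_trans x).choose

theorem Data.tau_inN (x : α) : D.InN (D.tau x) := (D.exists_trans x).choose_spec.1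

theorem Data.tau_a (x : α) : D.tau x • D.a = D.a := (D.tau_inN x).1

theorem Data.tau_sq (x : α) : D.tau x * D.tau x = 1 := (D.tau_inN x).2

theorem Data.tau_b {x : α} (hx : x ≠ D.a) : D.tau x • D.b = x := (D.exists_trans x).choose_spec.2 hx

theorem Data.tau_self_b : D.tau D.b = 1 :=
  D.inN_ext (D.tau_inN _) ⟨one_smul _ _, one_mul 1⟩ (by rw [D.tau_b D.hab.symm, one_smul])

theorem Data.smul_ne_a {g : G} (hg : g • D.a = D.a) {x : α} (hx : x ≠ D.a) : g • x ≠ D.a :=
  fun h => hx (smul_left_cancel g (h.trans hg.symm))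

theorem Data.tau_self {x : α} (hx : x ≠ D.a) : D.tau x • x = D.b := by
  conv_lhs => arg 2; rw [← D.tau_b hx]
  rw [← mul_smul, D.tau_sq, one_smul]

theorem Data.eq_tau {g : G} (hg : D.InN g) : g = D.tau (g • D.b) :=
  D.inN_ext hg (D.tau_inN _) (D.tau_b (D.smul_ne_a hg.1 D.hab.symm)).symm

/-- An element of the stabiliser of `a` without further fixed point is a translation. -/
theorem Data.inN_of_free {g : G} (hga : g • D.a = D.a) (hfree : ∀ y, y ≠ D.a → g • y ≠ y) : D.InN g := by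
  classical
  set x := g • D.b with hx
  have hxa : x ≠ D.a := D.smul_ne_a hga D.hab.symm
  have hxb : x ≠ D.b := hfree D.b D.hab.symm
  set t := D.tau x with ht
  set h := t * g with hh
  have hha : h • D.a = D.a := by rw [hh, mul_smul, hga, D.tau_a]
  have hhb : h • D.b = D.b := by rw [hh, mul_smul, ← hx, D.tau_self hxa]
  by_cases hh1 : h = 1
  · rw [hh, mul_eq_one_iff_eq_inv] at hh1
    have : g = t := by rw [← inv_inv g, ← hh1]; exact inv_eq_of_mul_eq_one_right (D.tau_sq x)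
    rw [this]; exact D.tau_inN x
  exfalso
  -- every non-identity element of the two-point stabiliser agrees with `t` somewhere
  let S : Finset α := Finset.univ.filter fun y => y ≠ D.a ∧ y ≠ D.b ∧ y ≠ x
  let T : Finset α := Finset.univ.filter fun z => z ≠ D.a ∧ z ≠ D.b ∧ z ≠ D.c
  have hex : ∀ y ∈ S, ∃ k : G, k • D.a = D.a ∧ k • D.b = D.b ∧ k • y = t • y := by
    intro y hy
    simp only [S, Finset.mem_filter, Finset.mem_univ, true_and] at hy
    refine D.trans3 D.a D.b y D.a D.b (t • y) D.hab (Ne.symm hy.1) (Ne.symm hy.2.1) D.hab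
      (Ne.symm (D.smul_ne_a (D.tau_a x) hy.1)) ?_
    intro e
    apply hy.2.2
    have : t • (t • y) = t • D.b := congrArg (t • ·) e.symm
    rw [← mul_smul, D.tau_sq, one_smul, D.tau_b hxa] at this
    exact this
  choose! k hka hkb hky using hex
  have hST : S.card = T.card := by
    have hS : S = Finset.univ \ {D.a, D.b, x} := by ext; simp [S]
    have hT : T = Finset.univ \ {D.a, D.b, D.c} := by ext; simp [T]
    have e3 : ∀ {u : α}, u ≠ D.a → u ≠ D.b → ({D.a, D.b, u} : Finset α).card = 3 := fun h1 h2 => by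
      rw [Finset.card_insert_of_notMem (by simp [D.hab, Ne.symm h1]), Finset.card_pair (Ne.symm h2)]
    rw [hS, hT, Finset.card_sdiff_of_subset (Finset.subset_univ _),
      Finset.card_sdiff_of_subset (Finset.subset_univ _), e3 hxa hxb, e3 D.hac.symm D.hbc.symm]
  have hmaps : ∀ y ∈ S, k y • D.c ∈ T := by
    intro y hy
    have hy' := hy
    simp only [S, Finset.mem_filter, Finset.mem_univ, true_and] at hy'
    simp only [T, Finset.mem_filter, Finset.mem_univ, true_and]
    refine ⟨D.smul_ne_a (hka y hy) D.hac.symm,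
      fun e => D.hbc (smul_left_cancel (k y) ((hkb y hy).trans e.symm)), fun e => ?_⟩
    have hk1 : k y = 1 := D.fix3 _ D.a D.b D.c D.hab D.hac D.hbc (hka y hy) (hkb y hy) e
    have := hky y hy
    rw [hk1, one_smul] at this
    have ht1 : t ≠ 1 := fun ht1 => hxb (by rw [← D.tau_b hxa, ← ht, ht1, one_smul])
    exact hy'.1 (D.invol_fix (D.tau_sq x) ht1 this.symm (D.tau_a x))
  have hinj : Set.InjOn (fun y => k y • D.c) S := by
    intro y hy y' hy' e
    have hy0 : y ≠ D.a := (Finset.mem_filter.1 hy).2.1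
    have hy0' : y' ≠ D.a := (Finset.mem_filter.1 hy').2.1
    have hk : k y = k y' := D.ext3 D.hab D.hac D.hbc ((hka y hy).trans (hka y' hy').symm)
      ((hkb y hy).trans (hkb y' hy').symm) e
    by_contra hne
    have hte : k y = t := D.ext3 (Ne.symm hy0) (Ne.symm hy0') hne ((hka y hy).trans (D.tau_a x).symm)
      (hky y hy) (by rw [hk, hky y' hy'])
    exact hxb (by rw [← D.tau_b hxa, ← ht, ← hte, hkb y hy])
  have hsurj := Finset.surj_on_of_inj_on_of_card_le (fun y _ => k y • D.c) hmaps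
    (fun y y' hy hy' e => hinj hy hy' e) hST.ge
  have hcT : h • D.c ∈ T := by
    simp only [T, Finset.mem_filter, Finset.mem_univ, true_and]
    exact ⟨D.smul_ne_a hha D.hac.symm, fun e => D.hbc (smul_left_cancel h (hhb.trans e.symm)),
      fun e => hh1 (D.fix3 _ D.a D.b D.c D.hab D.hac D.hbc hha hhb e)⟩
  obtain ⟨y, hy, hyc⟩ := hsurj _ hcT
  have hkh : h = k y := D.ext3 D.hab D.hac D.hbc (hha.trans (hka y hy).symm)
    (hhb.trans (hkb y hy).symm) hyc
  refine hfree y (Finset.mem_filter.1 hy).2.1 ?_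
  have h3 := hky y hy
  rw [← hkh, hh, mul_smul] at h3
  exact smul_left_cancel t h3

theorem Data.inN_mul {g g' : G} (hg : D.InN g) (hg' : D.InN g') : D.InN (g * g') := by
  by_cases hgg : g = g'
  · subst hgg; rw [hg.2]; exact ⟨one_smul _ _, one_mul 1⟩
  by_cases h1 : g = 1
  · rw [h1, one_mul]; exact hg'
  by_cases h1' : g' = 1
  · rw [h1', mul_one]; exact hg
  refine D.inN_of_free (by rw [mul_smul, hg'.1, hg.1]) fun y hy e => hgg ?_
  rw [mul_smul] at e
  have e' : g • y = g' • y := by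
    have : g • (g • (g' • y)) = g • y := congrArg (g • ·) e
    rw [← mul_smul, hg.2, one_smul] at this
    exact this.symm
  have hne : g • y ≠ y := fun h => hy (D.invol_fix hg.2 h1 h hg.1)
  refine D.ext3 (Ne.symm hy) (Ne.symm (D.smul_ne_a hg.1 hy)) (Ne.symm hne) (hg.1.trans hg'.1.symm) e' ?_
  rw [← mul_smul, hg.2, one_smul, e', ← mul_smul, hg'.2, one_smul]

theorem Data.tau_mul {x y : α} (hy : y ≠ D.a) : D.tau x * D.tau y = D.tau (D.tau x • y) := by
  have h := D.eq_tau (D.inN_mul (D.tau_inN x) (D.tau_inN y))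
  rwa [mul_smul, D.tau_b hy] at h

theorem Data.inN_comm {g g' : G} (hg : D.InN g) (hg' : D.InN g') : g * g' = g' * g := by
  have h := (D.inN_mul hg hg').2
  calc g * g' = g * (g * g' * (g * g')) * g' := by rw [h]; group
    _ = (g * g) * g' * g * (g' * g') := by group
    _ = g' * g := by rw [hg.2, hg'.2]; group

theorem Data.tau_comm {x y : α} (hx : x ≠ D.a) (hy : y ≠ D.a) : D.tau x • y = D.tau y • x := by
  conv_lhs => arg 2; rw [← D.tau_b hy]
  conv_rhs => arg 2; rw [← D.tau_b hx]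
  rw [← mul_smul, ← mul_smul, D.inN_comm (D.tau_inN x) (D.tau_inN y)]

theorem Data.conj_tau {g : G} (hga : g • D.a = D.a) (hgb : g • D.b = D.b) {x : α} (hx : x ≠ D.a) :
    g * D.tau x * g⁻¹ = D.tau (g • x) := by
  have hia : g⁻¹ • D.a = D.a := by rw [inv_smul_eq_iff, hga]
  have hib : g⁻¹ • D.b = D.b := by rw [inv_smul_eq_iff, hgb]
  have h := D.eq_tau (g := g * D.tau x * g⁻¹) ⟨by rw [mul_smul, mul_smul, hia, D.tau_a, hga], by
    calc g * D.tau x * g⁻¹ * (g * D.tau x * g⁻¹) = g * (D.tau x * D.tau x) * g⁻¹ := by group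
      _ = 1 := by rw [D.tau_sq]; group⟩
  rwa [mul_smul, mul_smul, hib, D.tau_b hx] at h

theorem Data.exists_mult (x : α) : ∃ g : G, g • D.a = D.a ∧ g • D.b = D.b ∧
    (x ≠ D.a → x ≠ D.b → g • D.c = x) := by
  by_cases hx : x ≠ D.a ∧ x ≠ D.b
  · obtain ⟨g, g1, g2, g3⟩ := D.trans3 D.a D.b D.c D.a D.b x D.hab D.hac D.hbc D.hab hx.1.symm hx.2.symm
    exact ⟨g, g1, g2, fun _ _ => g3⟩
  · exact ⟨1, one_smul _ _, one_smul _ _, fun h1 h2 => absurd ⟨h1, h2⟩ hx⟩

/-- The multiplication taking `c` to `x`. -/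
noncomputable def Data.mu (x : α) : G := (D.exists_mult x).choose

theorem Data.mu_a (x : α) : D.mu x • D.a = D.a := (D.exists_mult x).choose_spec.1

theorem Data.mu_b (x : α) : D.mu x • D.b = D.b := (D.exists_mult x).choose_spec.2.1

theorem Data.mu_c {x : α} (ha : x ≠ D.a) (hb : x ≠ D.b) : D.mu x • D.c = x :=
  (D.exists_mult x).choose_spec.2.2 ha hb

theorem Data.exists_swap : ∃ s : G, s • D.a = D.b ∧ s • D.b = D.a ∧ s • D.c = D.c :=
  D.trans3 _ _ _ _ _ _ D.hab D.hac D.hbc D.hab.symm D.hbc D.hac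

/-- The involution swapping `a` and `b` and fixing `c`. -/
noncomputable def Data.swap : G := D.exists_swap.choose

theorem Data.swap_a : D.swap • D.a = D.b := D.exists_swap.choose_spec.1
theorem Data.swap_b : D.swap • D.b = D.a := D.exists_swap.choose_spec.2.1
theorem Data.swap_c : D.swap • D.c = D.c := D.exists_swap.choose_spec.2.2

theorem Data.swap_sq : D.swap * D.swap = 1 :=
  D.fix3 _ D.a D.b D.c D.hab D.hac D.hbc (by rw [mul_smul, D.swap_a, D.swap_b])
    (by rw [mul_smul, D.swap_b, D.swap_a]) (by rw [mul_smul, D.swap_c, D.swap_c])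

/-- The two-point stabiliser. -/
abbrev Data.two : Subgroup G := MulAction.stabilizer G D.a ⊓ MulAction.stabilizer G D.b

theorem Data.conj_swap_mem {g : G} (hg : g ∈ D.two) : D.swap * g * D.swap ∈ D.two :=
  ⟨show _ • D.a = D.a by rw [mul_smul, mul_smul, D.swap_a, show g • D.b = D.b from hg.2, D.swap_b],
    show _ • D.b = D.b by rw [mul_smul, mul_smul, D.swap_b, show g • D.a = D.a from hg.1, D.swap_a]⟩

/-- Conjugation by the swap on the two-point stabiliser. -/
noncomputable def Data.inv2 : D.two →* D.two where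
  toFun g := ⟨D.swap * g * D.swap, D.conj_swap_mem g.2⟩
  map_one' := Subtype.ext (by simp [D.swap_sq])
  map_mul' g g' := Subtype.ext (by
    show D.swap * (g * g') * D.swap = D.swap * g * D.swap * (D.swap * g' * D.swap)
    simp only [mul_assoc, ← mul_assoc D.swap D.swap, D.swap_sq, one_mul])

theorem Data.inv2_free : MonoidHom.FixedPointFree D.inv2 := by
  intro g hg
  have h1 : D.swap * g * D.swap = (g : G) := congrArg Subtype.val hg
  have h2 : D.swap • ((g : G) • D.c) = (g : G) • D.c := by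
    conv_rhs => rw [← h1, mul_smul, mul_smul, D.swap_c]
  have hs : D.swap ≠ 1 := fun e => D.hab (by rw [← D.swap_a, e, one_smul])
  exact Subtype.ext (D.fix3 _ D.a D.b D.c D.hab D.hac D.hbc g.2.1 g.2.2
    (D.invol_fix D.swap_sq hs h2 D.swap_c))

theorem Data.inv2_invol : Function.Involutive D.inv2 := fun g => Subtype.ext (by
  show D.swap * (D.swap * g * D.swap) * D.swap = (g : G)
  simp only [mul_assoc, D.swap_sq, mul_one]
  rw [← mul_assoc, D.swap_sq, one_mul])

theorem Data.two_comm {g g' : G} (hg : g ∈ D.two) (hg' : g' ∈ D.two) : g * g' = g' * g :=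
  congrArg Subtype.val (D.inv2_free.commute_all_of_involutive D.inv2_invol ⟨g, hg⟩ ⟨g', hg'⟩).eq

theorem Data.swap_conj {g : G} (hg : g ∈ D.two) : D.swap * g * D.swap = g⁻¹ :=
  congrArg Subtype.val (congrFun (D.inv2_free.coe_eq_inv_of_involutive D.inv2_invol) ⟨g, hg⟩)

/-- The field on the points different from `a`. -/
@[ext] structure Data.K where
  /-- the point -/
  pt : α
  ne : pt ≠ D.a

noncomputable instance : Add D.K := ⟨fun x y => ⟨D.tau x.pt • y.pt, D.smul_ne_a (D.tau_a _) y.ne⟩⟩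
noncomputable instance : Mul D.K := ⟨fun x y =>
  if x.pt = D.b then ⟨D.b, D.hab.symm⟩ else ⟨D.mu x.pt • y.pt, D.smul_ne_a (D.mu_a _) y.ne⟩⟩
instance : Neg D.K := ⟨id⟩
instance : Zero D.K := ⟨⟨D.b, D.hab.symm⟩⟩
instance : One D.K := ⟨⟨D.c, D.hac.symm⟩⟩
noncomputable instance : Inv D.K := ⟨fun x => if x.pt = D.b then x else
  ⟨(D.mu x.pt)⁻¹ • D.c, D.smul_ne_a (by rw [inv_smul_eq_iff, D.mu_a]) D.hac.symm⟩⟩

theorem Data.add_pt (x y : D.K) : (x + y).pt = D.tau x.pt • y.pt := rfl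

theorem Data.mul_pt (x y : D.K) :
    (x * y).pt = if x.pt = D.b then D.b else D.mu x.pt • y.pt := by
  show (if _ then _ else _ : D.K).pt = _
  split_ifs <;> rfl

theorem Data.mul_comm' (x y : D.K) : x * y = y * x := by
  apply Data.K.ext
  rw [D.mul_pt, D.mul_pt]
  by_cases hx : x.pt = D.b <;> by_cases hy : y.pt = D.b
  · simp [hx, hy]
  · simp [hx, hy, D.mu_b]
  · simp [hx, hy, D.mu_b]
  · rw [if_neg hx, if_neg hy]
    conv_lhs => arg 2; rw [← D.mu_c y.ne hy]
    conv_rhs => arg 2; rw [← D.mu_c x.ne hx]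
    rw [← mul_smul, ← mul_smul, D.two_comm ⟨D.mu_a _, D.mu_b _⟩ ⟨D.mu_a _, D.mu_b _⟩]

theorem Data.mu_comp {x y : α} (hya : y ≠ D.a) (hyb : y ≠ D.b) :
    D.mu x * D.mu y = D.mu (D.mu x • y) := by
  have ha : D.mu x • y ≠ D.a := D.smul_ne_a (D.mu_a x) hya
  have hb : D.mu x • y ≠ D.b := fun e => hyb (smul_left_cancel (D.mu x) (e.trans (D.mu_b x).symm))
  refine D.ext3 D.hab D.hac D.hbc ?_ ?_ ?_
  · rw [mul_smul, D.mu_a, D.mu_a, D.mu_a]
  · rw [mul_smul, D.mu_b, D.mu_b, D.mu_b]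
  · rw [mul_smul, D.mu_c hya hyb, D.mu_c ha hb]

noncomputable instance : Field D.K := Field.ofMinimalAxioms D.K
  (fun x y z => Data.K.ext (by
    show D.tau (D.tau x.pt • y.pt) • z.pt = D.tau x.pt • D.tau y.pt • z.pt
    rw [← mul_smul, D.tau_mul y.ne]))
  (fun x => Data.K.ext (by
    show D.tau D.b • x.pt = x.pt
    rw [D.tau_self_b, one_smul]))
  (fun x => Data.K.ext (by
    show D.tau x.pt • x.pt = D.b
    exact D.tau_self x.ne))
  (fun x y z => Data.K.ext (by
    rw [D.mul_pt, D.mul_pt, D.mul_pt, D.mul_pt]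
    by_cases hx : x.pt = D.b
    · simp [hx]
    by_cases hy : y.pt = D.b
    · simp [hx, hy, D.mu_b]
    have hxy : D.mu x.pt • y.pt ≠ D.b := fun e =>
      hy (smul_left_cancel (D.mu x.pt) (e.trans (D.mu_b _).symm))
    rw [if_neg hx, if_neg hx, if_neg hy, if_neg hxy, ← mul_smul, D.mu_comp y.ne hy]))
  (fun x y => D.mul_comm' x y)
  (fun x => Data.K.ext (by
    rw [D.mul_pt, if_neg (show (1 : D.K).pt ≠ D.b from D.hbc.symm)]
    have : D.mu D.c = 1 := D.fix3 _ D.a D.b D.c D.hab D.hac D.hbc (D.mu_a _) (D.mu_b _)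
      (D.mu_c D.hac.symm D.hbc.symm)
    show D.mu D.c • x.pt = x.pt
    rw [this, one_smul]))
  (fun x hx => Data.K.ext (by
    have hxb : x.pt ≠ D.b := fun e => hx (Data.K.ext e)
    rw [D.mul_pt, if_neg hxb]
    show D.mu x.pt • (if _ then _ else _ : D.K).pt = D.c
    rw [if_neg hxb, smul_inv_smul]))
  (by
    show (if _ then _ else _ : D.K) = _
    exact if_pos rfl)
  (fun x y z => Data.K.ext (by
    rw [D.mul_pt, D.add_pt, D.add_pt, D.mul_pt, D.mul_pt]
    by_cases hx : x.pt = D.b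
    · simp [hx, D.tau_self_b]
    · rw [if_neg hx, if_neg hx, if_neg hx, ← mul_smul, ← D.conj_tau (D.mu_a _) (D.mu_b _) y.ne,
        ← mul_smul, inv_mul_cancel_right]))
  ⟨0, 1, fun h => D.hbc (congrArg Data.K.pt h)⟩

theorem Data.add_self (x : D.K) : x + x = 0 := Data.K.ext (D.tau_self x.ne)

theorem Data.swap_pt (x : D.K) (hx : x ≠ 0) : D.swap • x.pt = (x⁻¹).pt := by
  have hxb : x.pt ≠ D.b := fun e => hx (Data.K.ext e)
  show _ = (if _ then _ else _ : D.K).pt
  rw [if_neg hxb]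
  show _ = (D.mu x.pt)⁻¹ • D.c
  rw [← D.swap_conj ⟨D.mu_a _, D.mu_b _⟩, mul_smul, mul_smul, D.swap_c,
    D.mu_c x.ne hxb]

section Iso

variable {F : Type} [Field F] (r : F ≃+* D.K)
include r

/-- The identification with the projective line. -/
noncomputable def Data.toLine (y : α) : ℙ F (Fin 2 → F) :=
  if h : y = D.a then Projectivization.mk F ![1, 0] inf_ne
  else Projectivization.mk F ![r.symm ⟨y, h⟩, 1] (finite_ne _)

theorem Data.toLine_a : D.toLine r D.a = Projectivization.mk F ![1, 0] inf_ne := dif_pos rfl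

theorem Data.toLine_pt (x : D.K) :
    D.toLine r x.pt = Projectivization.mk F ![r.symm x, 1] (finite_ne _) := dif_neg x.ne

theorem Data.toLine_bijective : Function.Bijective (D.toLine r) := by
  constructor
  · intro y z h
    by_cases hy : y = D.a <;> by_cases hz : z = D.a
    · rw [hy, hz]
    · rw [hy, D.toLine_a, D.toLine_pt r ⟨z, hz⟩, pt_eq_iff] at h
      simp [GLTwo.wedge] at h
    · rw [hz, D.toLine_a, D.toLine_pt r ⟨y, hy⟩, pt_eq_iff] at h
      simp [GLTwo.wedge] at h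
    · rw [D.toLine_pt r ⟨y, hy⟩, D.toLine_pt r ⟨z, hz⟩, pt_eq_iff] at h
      simp [GLTwo.wedge, sub_eq_zero] at h
      exact h
  · intro p
    induction p using Projectivization.ind with
    | h v hv =>
      by_cases h1 : v 1 = 0
      · refine ⟨D.a, ?_⟩
        rw [D.toLine_a, pt_eq_iff]
        simp [GLTwo.wedge, h1]
      · refine ⟨(r (v 0 / v 1)).pt, ?_⟩
        rw [D.toLine_pt, pt_eq_iff]
        simp only [GLTwo.wedge, RingEquiv.symm_apply_apply, Matrix.cons_val_zero, Matrix.cons_val_one]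
        field_simp
        ring

/-- `g` acts as `γ`. -/
def Data.Acts (g : G) (γ : Matrix.ProjGenLinGroup (Fin 2) F) : Prop :=
  ∀ y, D.toLine r (g • y) = γ • D.toLine r y

theorem Data.acts_mul {g g' : G} {γ γ' : Matrix.ProjGenLinGroup (Fin 2) F} (h : D.Acts r g γ)
    (h' : D.Acts r g' γ') : D.Acts r (g * g') (γ * γ') := fun y => by
  rw [mul_smul, mul_smul, h, h']

theorem Data.exists_acts_tau (x : D.K) : ∃ γ, D.Acts r (D.tau x.pt) γ := by
  obtain ⟨k, hk0, hk1⟩ := GLTwo.exists_gl (v := ![(1 : F), 0]) (w := ![r.symm x, 1])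
    (by simp [GLTwo.wedge])
  refine ⟨Matrix.ProjGenLinGroup.mk k, fun y => ?_⟩
  symm
  by_cases hy : y = D.a
  · subst hy
    rw [D.tau_a, D.toLine_a]
    refine mk_mulVec k _ inf_ne _ inf_ne ?_
    rw [← GLTwo.gl_smul_eq, show (![1, 0] : Fin 2 → F) = GLTwo.e0 by
      funext i; fin_cases i <;> simp [GLTwo.e0], hk0]
    simp [GLTwo.wedge, GLTwo.e0]
  · rw [show D.tau x.pt • y = (x + ⟨y, hy⟩ : D.K).pt from rfl, D.toLine_pt r ⟨y, hy⟩, D.toLine_pt]
    refine mk_mulVec k _ (finite_ne _) _ (finite_ne _) ?_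
    rw [← GLTwo.gl_smul_eq, GLTwo.pair_ext ![r.symm ⟨y, hy⟩, 1], GLTwo.gl_smul_lin, hk0, hk1, map_add]
    simp [GLTwo.wedge]
    ring

theorem Data.exists_acts_mu (g : G) (hg : g ∈ D.two) : ∃ γ, D.Acts r g γ := by
  have hgc : g • D.c ≠ D.a := D.smul_ne_a hg.1 D.hac.symm
  let x : D.K := ⟨g • D.c, hgc⟩
  have hxb : x.pt ≠ D.b := fun e => D.hbc (smul_left_cancel g ((show g • D.b = D.b from hg.2).trans e.symm))
  have hx : x ≠ 0 := fun e => hxb (congrArg Data.K.pt e)
  have hgm : g = D.mu x.pt := D.ext3 D.hab D.hac D.hbc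
    ((show g • D.a = D.a from hg.1).trans (D.mu_a _).symm)
    ((show g • D.b = D.b from hg.2).trans (D.mu_b _).symm) (D.mu_c x.ne hxb).symm
  have hx' : r.symm x ≠ 0 := by simpa using hx
  obtain ⟨k, hk0, hk1⟩ := GLTwo.exists_gl (v := ![r.symm x, 0]) (w := ![(0 : F), 1])
    (by simpa [GLTwo.wedge] using hx')
  refine ⟨Matrix.ProjGenLinGroup.mk k, fun y => ?_⟩
  symm
  by_cases hy : y = D.a
  · subst hy
    rw [show g • D.a = D.a from hg.1, D.toLine_a]
    refine mk_mulVec k _ inf_ne _ inf_ne ?_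
    rw [← GLTwo.gl_smul_eq, show (![1, 0] : Fin 2 → F) = GLTwo.e0 by
      funext i; fin_cases i <;> simp [GLTwo.e0], hk0]
    simp [GLTwo.wedge, GLTwo.e0]
  · have : g • y = (x * ⟨y, hy⟩ : D.K).pt := by rw [D.mul_pt, if_neg hxb, ← hgm]
    rw [this, D.toLine_pt r ⟨y, hy⟩, D.toLine_pt]
    refine mk_mulVec k _ (finite_ne _) _ (finite_ne _) ?_
    rw [← GLTwo.gl_smul_eq, GLTwo.pair_ext ![r.symm ⟨y, hy⟩, 1], GLTwo.gl_smul_lin, hk0, hk1, map_mul]
    simp [GLTwo.wedge]
    ring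

theorem Data.exists_acts_swap : ∃ γ, D.Acts r D.swap γ := by
  obtain ⟨k, hk0, hk1⟩ := GLTwo.exists_gl (v := ![(0 : F), 1]) (w := ![(1 : F), 0])
    (by simp [GLTwo.wedge])
  refine ⟨Matrix.ProjGenLinGroup.mk k, fun y => ?_⟩
  symm
  by_cases hy : y = D.a
  · subst hy
    rw [D.swap_a, D.toLine_a, show D.b = (0 : D.K).pt from rfl, D.toLine_pt]
    refine mk_mulVec k _ inf_ne _ (finite_ne _) ?_
    rw [← GLTwo.gl_smul_eq, show (![1, 0] : Fin 2 → F) = GLTwo.e0 by
      funext i; fin_cases i <;> simp [GLTwo.e0], hk0]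
    simp [GLTwo.wedge]
  · obtain ⟨z, rfl⟩ : ∃ z : D.K, z.pt = y := ⟨⟨y, hy⟩, rfl⟩
    rw [D.toLine_pt]
    by_cases hz : z = 0
    · subst hz
      rw [show D.swap • (0 : D.K).pt = D.a from D.swap_b, D.toLine_a]
      refine mk_mulVec k _ (finite_ne _) _ inf_ne ?_
      rw [← GLTwo.gl_smul_eq, GLTwo.pair_ext ![r.symm 0, 1], GLTwo.gl_smul_lin, hk0, hk1]
      simp [GLTwo.wedge]
    · rw [D.swap_pt z hz, D.toLine_pt]
      refine mk_mulVec k _ (finite_ne _) _ (finite_ne _) ?_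
      rw [← GLTwo.gl_smul_eq, GLTwo.pair_ext ![r.symm z, 1], GLTwo.gl_smul_lin, hk0, hk1, map_inv₀]
      have : r.symm z ≠ 0 := by simpa using hz
      simp [GLTwo.wedge]
      field_simp
      ring

theorem Data.exists_acts (g : G) : ∃ γ, D.Acts r g γ := by
  have key : ∀ g : G, g • D.a = D.a → ∃ γ, D.Acts r g γ := by
    intro g hg
    have hx : g • D.b ≠ D.a := D.smul_ne_a hg D.hab.symm
    obtain ⟨γ1, h1⟩ := D.exists_acts_tau r ⟨g • D.b, hx⟩
    have hmem : D.tau (g • D.b) * g ∈ D.two :=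
      ⟨show _ • D.a = D.a by rw [mul_smul, hg, D.tau_a],
        show _ • D.b = D.b by rw [mul_smul, D.tau_self hx]⟩
    obtain ⟨γ2, h2⟩ := D.exists_acts_mu r _ hmem
    have : g = D.tau (g • D.b) * (D.tau (g • D.b) * g) := by rw [← mul_assoc, D.tau_sq, one_mul]
    rw [this]
    exact ⟨_, D.acts_mul r h1 h2⟩
  by_cases hg : g • D.a = D.a
  · exact key g hg
  obtain ⟨γ1, h1⟩ := D.exists_acts_tau r ⟨g • D.a, hg⟩
  obtain ⟨γ2, h2⟩ := D.exists_acts_swap r
  obtain ⟨γ3, h3⟩ := key (D.swap * (D.tau (g • D.a) * g))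
    (by rw [mul_smul, mul_smul, D.tau_self hg, D.swap_b])
  have : g = D.tau (g • D.a) * (D.swap * (D.swap * (D.tau (g • D.a) * g))) := by
    rw [← mul_assoc D.swap, D.swap_sq, one_mul, ← mul_assoc, D.tau_sq, one_mul]
  rw [this]
  exact ⟨_, D.acts_mul r h1 (D.acts_mul r h2 h3)⟩

theorem Data.nonempty_equiv (hfaith : ∀ g : G, (∀ y : α, g • y = y) → g = 1) :
    Nonempty (G ≃* Matrix.ProjGenLinGroup (Fin 2) F) := by
  choose φ hφ using D.exists_acts r
  have hbij := D.toLine_bijective r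
  have huniq : ∀ (γ γ' : Matrix.ProjGenLinGroup (Fin 2) F),
      γ • D.toLine r D.a = γ' • D.toLine r D.a → γ • D.toLine r D.b = γ' • D.toLine r D.b →
      γ • D.toLine r D.c = γ' • D.toLine r D.c → γ = γ' := by
    intro γ γ' e1 e2 e3
    have h : γ'⁻¹ * γ = 1 := ProjLine.eq_one_of_fix_three _ (hbij.1.ne D.hab) (hbij.1.ne D.hac)
      (hbij.1.ne D.hbc) (by rw [mul_smul, e1, inv_smul_smul]) (by rw [mul_smul, e2, inv_smul_smul])
      (by rw [mul_smul, e3, inv_smul_smul])
    exact (inv_mul_eq_one.1 h).symm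
  have hmul : ∀ g g', φ (g * g') = φ g * φ g' := fun g g' =>
    huniq _ _ (by rw [← hφ, D.acts_mul r (hφ g) (hφ g')]) (by rw [← hφ, D.acts_mul r (hφ g) (hφ g')])
      (by rw [← hφ, D.acts_mul r (hφ g) (hφ g')])
  let Φ : G →* Matrix.ProjGenLinGroup (Fin 2) F := MonoidHom.mk' φ hmul
  refine ⟨MulEquiv.ofBijective Φ ⟨?_, fun γ => ?_⟩⟩
  · rw [injective_iff_map_eq_one]
    intro g hg
    refine hfaith g fun y => hbij.1 ?_
    rw [hφ g y, show φ g = 1 from hg, one_smul]
  · obtain ⟨u, hu⟩ := hbij.2 (γ • D.toLine r D.a)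
    obtain ⟨v, hv⟩ := hbij.2 (γ • D.toLine r D.b)
    obtain ⟨w, hw⟩ := hbij.2 (γ • D.toLine r D.c)
    have ne : ∀ {p p' z z' : α}, p ≠ p' → D.toLine r z = γ • D.toLine r p →
        D.toLine r z' = γ • D.toLine r p' → z ≠ z' := fun hp e e' h =>
      hp (hbij.1 (smul_left_cancel γ (by rw [← e, ← e', h])))
    obtain ⟨g, g1, g2, g3⟩ := D.trans3 D.a D.b D.c u v w D.hab D.hac D.hbc (ne D.hab hu hv)
      (ne D.hac hu hw) (ne D.hbc hv hw)
    exact ⟨g, huniq _ _ (by show φ g • _ = _; rw [← hφ, g1, hu])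
      (by show φ g • _ = _; rw [← hφ, g2, hv]) (by show φ g • _ = _; rw [← hφ, g3, hw])⟩

end Iso

/-- A copy of `Fin q`, to carry a transported field structure. -/
def Carrier (q : ℕ) : Type := Fin q

instance (q : ℕ) : Fintype (Carrier q) := inferInstanceAs (Fintype (Fin q))

/-- Sharply triply transitive groups of odd degree `q + 1` are `PGL₂(q)`. -/
theorem Data.exists_field {q : ℕ} (hq : Fintype.card α = q + 1)
    (hfaith : ∀ g : G, (∀ y : α, g • y = y) → g = 1) :
    ∃ (F : Type) (_ : Field F) (_ : Fintype F), Fintype.card F = q ∧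
      Nonempty (G ≃* Matrix.ProjGenLinGroup (Fin 2) F) := by
  classical
  let e0 : D.K ≃ {y : α // y ≠ D.a} := ⟨fun x => ⟨x.pt, x.ne⟩, fun y => ⟨y.1, y.2⟩, fun _ => rfl, fun _ => rfl⟩
  haveI : Fintype D.K := Fintype.ofEquiv _ e0.symm
  have hcard : Fintype.card D.K = q := by
    rw [Fintype.card_congr e0, Fintype.card_subtype_compl, Fintype.card_subtype_eq, hq, Nat.add_sub_cancel]
  let e : Carrier q ≃ D.K := (Fintype.equivFinOfCardEq hcard).symm
  letI : Field (Carrier q) := e.field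
  exact ⟨Carrier q, inferInstance, inferInstance, Fintype.card_fin q, D.nonempty_equiv e.ringEquiv hfaith⟩

end Cfsg.Agent.H33.SharpOdd
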