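import Mathlib
import Cfsg.Agent.H27.ProjLine

/-!
Sharply triply transitive groups with commutative two-point stabiliser and odd-order regular normal
subgroup in a point stabiliser are projective general linear groups.
-/

set_option autoImplicit false
set_option linter.unusedSectionVars false

namespace Cfsg.Agent.H33.SharpField

open scoped LinearAlgebra.Projectivization
open Cfsg.Agent.H27

section Line

variable {F : Type} [Field F]

theorem finite_ne (x : F) : ![x, 1] ≠ (0 : Fin 2 → F) := fun h => by simpa using congrFun h 1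

theorem inf_ne : ![(1 : F), 0] ≠ (0 : Fin 2 → F) := fun h => by simpa using congrFun h 0

theorem pt_eq_iff {v w : Fin 2 → F} (hv : v ≠ 0) (hw : w ≠ 0) :
    Projectivization.mk F v hv = Projectivization.mk F w hw ↔ GLTwo.wedge v w = 0 := by
  refine ⟨fun h => ?_, fun h => (GLTwo.mk_eq_mk_of_wedge hv hw h).symm⟩
  obtain ⟨c, hc⟩ := (Projectivization.mk_eq_mk_iff' F _ _ _ _).1 h
  rw [← hc]; simp [GLTwo.wedge]; ring

theorem mk_mulVec (k : GL (Fin 2) F) (v : Fin 2 → F) (hv : v ≠ 0) (w : Fin 2 → F) (hw : w ≠ 0)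
    (h : GLTwo.wedge ((k : Matrix (Fin 2) (Fin 2) F).mulVec v) w = 0) :
    Matrix.ProjGenLinGroup.mk k • Projectivization.mk F v hv = Projectivization.mk F w hw := by
  change Projectivization.mk F (k • v) _ = _
  exact (pt_eq_iff _ hw).2 h

end Line

/-- The marked data. -/
structure Data (G α : Type*) [Group G] [MulAction G α] where
  /-- infinity -/
  a : α
  /-- zero -/
  b : α
  /-- one -/
  c : α
  hab : a ≠ b
  hac : a ≠ c
  hbc : b ≠ c
  fix3 : ∀ (g : G) (x y z : α), x ≠ y → x ≠ z → y ≠ z → g • x = x → g • y = y → g • z = z → g = 1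
  trans3 : ∀ x y z x' y' z' : α, x ≠ y → x ≠ z → y ≠ z → x' ≠ y' → x' ≠ z' → y' ≠ z' →
    ∃ g : G, g • x = x' ∧ g • y = y' ∧ g • z = z'
  /-- translations -/
  T : Subgroup G
  T_a : ∀ k ∈ T, k • a = a
  T_b : ∀ x : α, x ≠ a → ∃ k ∈ T, k • b = x
  T_free : ∀ k ∈ T, k • b = b → k = 1
  T_conj : ∀ g : G, g • a = a → ∀ k ∈ T, g * k * g⁻¹ ∈ T
  T_odd : ∀ k ∈ T, k * k = 1 → k = 1
  H_comm : ∀ g g' : G, g • a = a → g • b = b → g' • a = a → g' • b = b → g * g' = g' * g

variable {G α : Type*} [Group G] [MulAction G α] [DecidableEq α] (D : Data G α)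
include D

theorem Data.ext3 {g g' : G} {x y z : α} (hxy : x ≠ y) (hxz : x ≠ z) (hyz : y ≠ z)
    (hx : g • x = g' • x) (hy : g • y = g' • y) (hz : g • z = g' • z) : g = g' := by
  have h : g'⁻¹ * g = 1 := D.fix3 _ x y z hxy hxz hyz (by rw [mul_smul, hx, inv_smul_smul])
    (by rw [mul_smul, hy, inv_smul_smul]) (by rw [mul_smul, hz, inv_smul_smul])
  exact (inv_mul_eq_one.1 h).symm

theorem Data.exists_trans (x : α) : ∃ g : G, g ∈ D.T ∧ (x ≠ D.a → g • D.b = x) := by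
  by_cases hx : x = D.a
  · exact ⟨1, one_mem _, fun h => absurd hx h⟩
  · obtain ⟨g, hg, hgx⟩ := D.T_b x hx
    exact ⟨g, hg, fun _ => hgx⟩

/-- The translation taking `b` to `x`. -/
noncomputable def Data.tau (x : α) : G := (D.exists_trans x).choose

theorem Data.tau_mem (x : α) : D.tau x ∈ D.T := (D.exists_trans x).choose_spec.1

theorem Data.tau_a (x : α) : D.tau x • D.a = D.a := D.T_a _ (D.tau_mem x)

theorem Data.tau_b {x : α} (hx : x ≠ D.a) : D.tau x • D.b = x := (D.exists_trans x).choose_spec.2 hx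

theorem Data.tau_inv_self {x : α} (hx : x ≠ D.a) : (D.tau x)⁻¹ • x = D.b := by
  rw [inv_smul_eq_iff, D.tau_b hx]

theorem Data.smul_ne_a {g : G} (hg : g • D.a = D.a) {x : α} (hx : x ≠ D.a) : g • x ≠ D.a :=
  fun h => hx (smul_left_cancel g (h.trans hg.symm))

theorem Data.inv_a {g : G} (hg : g • D.a = D.a) : g⁻¹ • D.a = D.a := by rw [inv_smul_eq_iff, hg]

theorem Data.eq_tau {g : G} (hg : g ∈ D.T) : g = D.tau (g • D.b) := by
  have h := D.T_free _ (mul_mem (inv_mem (D.tau_mem (g • D.b))) hg)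
    (by rw [mul_smul, D.tau_inv_self (D.smul_ne_a (D.T_a g hg) D.hab.symm)])
  exact (inv_mul_eq_one.1 h).symm

theorem Data.tau_self_b : D.tau D.b = 1 := by
  have h := D.eq_tau (one_mem D.T)
  rwa [one_smul, eq_comm] at h

theorem Data.tau_mul {x y : α} (hy : y ≠ D.a) : D.tau x * D.tau y = D.tau (D.tau x • y) := by
  have h := D.eq_tau (mul_mem (D.tau_mem x) (D.tau_mem y))
  rwa [mul_smul, D.tau_b hy] at h

theorem Data.conj_tau {g : G} (hga : g • D.a = D.a) (hgb : g • D.b = D.b) {x : α} (hx : x ≠ D.a) :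
    g * D.tau x * g⁻¹ = D.tau (g • x) := by
  have hib : g⁻¹ • D.b = D.b := by rw [inv_smul_eq_iff, hgb]
  have h := D.eq_tau (D.T_conj g hga _ (D.tau_mem x))
  rwa [mul_smul, mul_smul, hib, D.tau_b hx] at h

theorem Data.exists_mult (x : α) : ∃ g : G, g • D.a = D.a ∧ g • D.b = D.b ∧
    (x ≠ D.a → x ≠ D.b → g • D.c = x) := by
  by_cases hx : x ≠ D.a ∧ x ≠ D.b
  · obtain ⟨g, g1, g2, g3⟩ := D.trans3 D.a D.b D.c D.a D.b x D.hab D.hac D.hbc D.hab hx.1.symm hx.2.symm
    exact ⟨g, g1, g2, fun _ _ => g3⟩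
  · exact ⟨1, one_smul _ _, one_smul _ _, fun h1 h2 => absurd ⟨h1, h2⟩ hx⟩

/-- The multiplication taking `c` to `x`. -/
noncomputable def Data.mu (x : α) : G := (D.exists_mult x).choose

theorem Data.mu_a (x : α) : D.mu x • D.a = D.a := (D.exists_mult x).choose_spec.1

theorem Data.mu_b (x : α) : D.mu x • D.b = D.b := (D.exists_mult x).choose_spec.2.1

theorem Data.mu_c {x : α} (ha : x ≠ D.a) (hb : x ≠ D.b) : D.mu x • D.c = x :=
  (D.exists_mult x).choose_spec.2.2 ha hb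

theorem Data.exists_swap : ∃ s : G, s • D.a = D.b ∧ s • D.b = D.a ∧ s • D.c = D.c :=
  D.trans3 _ _ _ _ _ _ D.hab D.hac D.hbc D.hab.symm D.hbc D.hac

/-- The involution swapping `a` and `b` and fixing `c`. -/
noncomputable def Data.swap : G := D.exists_swap.choose

theorem Data.swap_a : D.swap • D.a = D.b := D.exists_swap.choose_spec.1
theorem Data.swap_b : D.swap • D.b = D.a := D.exists_swap.choose_spec.2.1
theorem Data.swap_c : D.swap • D.c = D.c := D.exists_swap.choose_spec.2.2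

theorem Data.swap_sq : D.swap * D.swap = 1 :=
  D.fix3 _ D.a D.b D.c D.hab D.hac D.hbc (by rw [mul_smul, D.swap_a, D.swap_b])
    (by rw [mul_smul, D.swap_b, D.swap_a]) (by rw [mul_smul, D.swap_c, D.swap_c])

/-- The two-point stabiliser. -/
abbrev Data.two : Subgroup G := MulAction.stabilizer G D.a ⊓ MulAction.stabilizer G D.b

theorem Data.conj_swap_mem {g : G} (hg : g ∈ D.two) : D.swap * g * D.swap ∈ D.two :=
  ⟨show _ • D.a = D.a by rw [mul_smul, mul_smul, D.swap_a, show g • D.b = D.b from hg.2, D.swap_b],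
    show _ • D.b = D.b by rw [mul_smul, mul_smul, D.swap_b, show g • D.a = D.a from hg.1, D.swap_a]⟩

theorem Data.two_comm {g g' : G} (hg : g ∈ D.two) (hg' : g' ∈ D.two) : g * g' = g' * g :=
  D.H_comm g g' hg.1 hg.2 hg'.1 hg'.2

/-- The field on the points different from `a`. -/
@[ext] structure Data.K where
  /-- the point -/
  pt : α
  ne : pt ≠ D.a

noncomputable instance : Add D.K := ⟨fun x y => ⟨D.tau x.pt • y.pt, D.smul_ne_a (D.tau_a _) y.ne⟩⟩
noncomputable instance : Mul D.K := ⟨fun x y =>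
  if x.pt = D.b then ⟨D.b, D.hab.symm⟩ else ⟨D.mu x.pt • y.pt, D.smul_ne_a (D.mu_a _) y.ne⟩⟩
noncomputable instance : Neg D.K := ⟨fun x => ⟨(D.tau x.pt)⁻¹ • D.b, D.smul_ne_a (D.inv_a (D.tau_a _)) D.hab.symm⟩⟩
instance : Zero D.K := ⟨⟨D.b, D.hab.symm⟩⟩
instance : One D.K := ⟨⟨D.c, D.hac.symm⟩⟩
noncomputable instance : Inv D.K := ⟨fun x => if x.pt = D.b then x else
  ⟨(D.mu x.pt)⁻¹ • D.c, D.smul_ne_a (by rw [inv_smul_eq_iff, D.mu_a]) D.hac.symm⟩⟩

theorem Data.add_pt (x y : D.K) : (x + y).pt = D.tau x.pt • y.pt := rfl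

theorem Data.mul_pt (x y : D.K) :
    (x * y).pt = if x.pt = D.b then D.b else D.mu x.pt • y.pt := by
  show (if _ then _ else _ : D.K).pt = _
  split_ifs <;> rfl

theorem Data.mul_comm' (x y : D.K) : x * y = y * x := by
  apply Data.K.ext
  rw [D.mul_pt, D.mul_pt]
  by_cases hx : x.pt = D.b <;> by_cases hy : y.pt = D.b
  · simp [hx, hy]
  · simp [hx, hy, D.mu_b]
  · simp [hx, hy, D.mu_b]
  · rw [if_neg hx, if_neg hy]
    conv_lhs => arg 2; rw [← D.mu_c y.ne hy]
    conv_rhs => arg 2; rw [← D.mu_c x.ne hx]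
    rw [← mul_smul, ← mul_smul, D.two_comm ⟨D.mu_a _, D.mu_b _⟩ ⟨D.mu_a _, D.mu_b _⟩]

theorem Data.mu_comp {x y : α} (hya : y ≠ D.a) (hyb : y ≠ D.b) :
    D.mu x * D.mu y = D.mu (D.mu x • y) := by
  have ha : D.mu x • y ≠ D.a := D.smul_ne_a (D.mu_a x) hya
  have hb : D.mu x • y ≠ D.b := fun e => hyb (smul_left_cancel (D.mu x) (e.trans (D.mu_b x).symm))
  refine D.ext3 D.hab D.hac D.hbc ?_ ?_ ?_
  · rw [mul_smul, D.mu_a, D.mu_a, D.mu_a]
  · rw [mul_smul, D.mu_b, D.mu_b, D.mu_b]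
  · rw [mul_smul, D.mu_c hya hyb, D.mu_c ha hb]

noncomputable instance : Field D.K := Field.ofMinimalAxioms D.K
  (fun x y z => Data.K.ext (by
    show D.tau (D.tau x.pt • y.pt) • z.pt = D.tau x.pt • D.tau y.pt • z.pt
    rw [← mul_smul, D.tau_mul y.ne]))
  (fun x => Data.K.ext (by
    show D.tau D.b • x.pt = x.pt
    rw [D.tau_self_b, one_smul]))
  (fun x => Data.K.ext (by
    show D.tau ((D.tau x.pt)⁻¹ • D.b) • x.pt = D.b
    rw [← D.eq_tau (inv_mem (D.tau_mem x.pt)), D.tau_inv_self x.ne]))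
  (fun x y z => Data.K.ext (by
    rw [D.mul_pt, D.mul_pt, D.mul_pt, D.mul_pt]
    by_cases hx : x.pt = D.b
    · simp [hx]
    by_cases hy : y.pt = D.b
    · simp [hx, hy, D.mu_b]
    have hxy : D.mu x.pt • y.pt ≠ D.b := fun e =>
      hy (smul_left_cancel (D.mu x.pt) (e.trans (D.mu_b _).symm))
    rw [if_neg hx, if_neg hx, if_neg hy, if_neg hxy, ← mul_smul, D.mu_comp y.ne hy]))
  (fun x y => D.mul_comm' x y)
  (fun x => Data.K.ext (by
    rw [D.mul_pt, if_neg (show (1 : D.K).pt ≠ D.b from D.hbc.symm)]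
    have : D.mu D.c = 1 := D.fix3 _ D.a D.b D.c D.hab D.hac D.hbc (D.mu_a _) (D.mu_b _)
      (D.mu_c D.hac.symm D.hbc.symm)
    show D.mu D.c • x.pt = x.pt
    rw [this, one_smul]))
  (fun x hx => Data.K.ext (by
    have hxb : x.pt ≠ D.b := fun e => hx (Data.K.ext e)
    rw [D.mul_pt, if_neg hxb]
    show D.mu x.pt • (if _ then _ else _ : D.K).pt = D.c
    rw [if_neg hxb, smul_inv_smul]))
  (by
    show (if _ then _ else _ : D.K) = _
    exact if_pos rfl)
  (fun x y z => Data.K.ext (by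
    rw [D.mul_pt, D.add_pt, D.add_pt, D.mul_pt, D.mul_pt]
    by_cases hx : x.pt = D.b
    · simp [hx, D.tau_self_b]
    · rw [if_neg hx, if_neg hx, if_neg hx, ← mul_smul, ← D.conj_tau (D.mu_a _) (D.mu_b _) y.ne,
        ← mul_smul, inv_mul_cancel_right]))
  ⟨0, 1, fun h => D.hbc (congrArg Data.K.pt h)⟩

theorem Data.two_ne_zero' : (2 : D.K) ≠ 0 := by
  intro h
  rw [← one_add_one_eq_two] at h
  have h1 : D.tau D.c * D.tau D.c = 1 := by
    rw [D.tau_mul D.hac.symm, show D.tau D.c • D.c = D.b from congrArg Data.K.pt h, D.tau_self_b]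
  have h2 := D.T_odd _ (D.tau_mem D.c) h1
  have h3 := D.tau_b D.hac.symm
  rw [h2, one_smul] at h3
  exact D.hbc h3

theorem Data.pt_ne_b {x : D.K} (hx : x ≠ 0) : x.pt ≠ D.b := fun e => hx (Data.K.ext e)

theorem Data.swap_ne_a {x : D.K} (hx : x ≠ 0) : D.swap • x.pt ≠ D.a := fun e =>
  D.pt_ne_b hx (smul_left_cancel D.swap (e.trans D.swap_b.symm))

open Classical in
/-- The map induced by the swap. -/
noncomputable def Data.sig (x : D.K) : D.K :=
  if hx : x = 0 then 0 else ⟨D.swap • x.pt, D.swap_ne_a hx⟩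

theorem Data.sig_pt {x : D.K} (hx : x ≠ 0) : (D.sig x).pt = D.swap • x.pt := by
  rw [Data.sig, dif_neg hx]

theorem Data.sig_ne {x : D.K} (hx : x ≠ 0) : D.sig x ≠ 0 := fun e => x.ne
  (smul_left_cancel D.swap ((D.sig_pt hx).symm.trans ((congrArg Data.K.pt e).trans D.swap_a.symm)))

theorem Data.sig_sig {x : D.K} (hx : x ≠ 0) : D.sig (D.sig x) = x := Data.K.ext (by
  rw [D.sig_pt (D.sig_ne hx), D.sig_pt hx, ← mul_smul, D.swap_sq, one_smul])

theorem Data.sig_one : D.sig 1 = 1 := Data.K.ext (by rw [D.sig_pt one_ne_zero]; exact D.swap_c)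

theorem Data.sig_mul {x y : D.K} (hx : x ≠ 0) (hy : y ≠ 0) : D.sig (x * y) = D.sig x * D.sig y := by
  apply Data.K.ext
  have h1 : D.swap * D.mu x.pt * D.swap = D.mu (D.swap • x.pt) := by
    have hm := D.conj_swap_mem (g := D.mu x.pt) ⟨D.mu_a _, D.mu_b _⟩
    refine D.ext3 D.hab D.hac D.hbc ((show _ • D.a = D.a from hm.1).trans (D.mu_a _).symm)
      ((show _ • D.b = D.b from hm.2).trans (D.mu_b _).symm) ?_
    have hb : D.swap • x.pt ≠ D.b := fun e => x.ne (smul_left_cancel D.swap (e.trans D.swap_a.symm))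
    rw [D.mu_c (D.swap_ne_a hx) hb, mul_smul, mul_smul, D.swap_c, D.mu_c x.ne (D.pt_ne_b hx)]
  rw [D.sig_pt (mul_ne_zero hx hy), D.mul_pt, if_neg (D.pt_ne_b hx), D.mul_pt,
    if_neg (D.pt_ne_b (D.sig_ne hx)), D.sig_pt hx, D.sig_pt hy, ← h1, ← mul_smul, ← mul_smul]
  simp only [mul_assoc]
  rw [D.swap_sq, mul_one]

theorem Data.sig_neg_one : D.sig (-1) = -1 := by
  have h : D.sig (-1) * D.sig (-1) = 1 := by
    rw [← D.sig_mul (neg_ne_zero.2 one_ne_zero) (neg_ne_zero.2 one_ne_zero), neg_one_mul, neg_neg,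
      D.sig_one]
  rcases mul_self_eq_one_iff.1 h with h1 | h1
  · exfalso
    have h2 := congrArg D.sig h1
    rw [D.sig_sig (neg_ne_zero.2 one_ne_zero), D.sig_one] at h2
    exact D.two_ne_zero' (by linear_combination -h2)
  · exact h1

theorem Data.eq_of_sig_fixed {x : D.K} (hx : x ≠ 0) (h : D.sig x = x) : x = 1 ∨ x = -1 := by
  by_contra hcon
  push Not at hcon
  have hne : (1 : D.K) ≠ -1 := fun e => D.two_ne_zero' (by linear_combination e)
  have hs : D.swap = 1 := D.fix3 _ D.c (-1 : D.K).pt x.pt (fun e => hne (Data.K.ext e))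
    (fun e => hcon.1 (Data.K.ext e).symm) (fun e => hcon.2 (Data.K.ext e).symm) D.swap_c
    (by rw [← D.sig_pt (neg_ne_zero.2 one_ne_zero), D.sig_neg_one])
    (by rw [← D.sig_pt hx, h])
  exact D.hab (by rw [← D.swap_a, hs, one_smul])

theorem Data.eta_cases {x : D.K} (hx : x ≠ 0) : x * D.sig x = 1 ∨ x * D.sig x = -1 :=
  D.eq_of_sig_fixed (mul_ne_zero hx (D.sig_ne hx))
    (by rw [D.sig_mul hx (D.sig_ne hx), D.sig_sig hx, mul_comm])

/-- Elements on which the swap is the inversion. -/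
def Data.Good (x : D.K) : Prop := x * D.sig x = 1

theorem Data.good_neg_one : D.Good (-1) := by
  show -1 * D.sig (-1) = 1
  rw [D.sig_neg_one, neg_one_mul, neg_neg]

theorem Data.good_mul {x y : D.K} (hx : x ≠ 0) (hy : y ≠ 0) (h : D.Good x) (h' : D.Good y) :
    D.Good (x * y) := by
  show x * y * D.sig (x * y) = 1
  rw [D.sig_mul hx hy]
  calc x * y * (D.sig x * D.sig y) = (x * D.sig x) * (y * D.sig y) := by ring
    _ = 1 := by rw [h, h', one_mul]

theorem Data.sig_identity {y : D.K} (hy : y ≠ 0) (hy1 : y ≠ 1) :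
    D.sig (1 - D.sig y) = 1 - D.sig (1 - y) := by
  set w : G := D.swap * (D.tau D.c * D.mu (-1 : D.K).pt) with hw
  have hm : (-1 : D.K).pt ≠ D.b := D.pt_ne_b (neg_ne_zero.2 one_ne_zero)
  have hpt : ∀ z : D.K, (D.tau D.c * D.mu (-1 : D.K).pt) • z.pt = (1 - z).pt := by
    intro z
    rw [show (1 : D.K) - z = 1 + (-1) * z by ring, D.add_pt, D.mul_pt, if_neg hm, mul_smul]
    rfl
  have hta : (D.tau D.c * D.mu (-1 : D.K).pt) • D.a = D.a := by rw [mul_smul, D.mu_a, D.tau_a]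
  have hwa : w • D.a = D.b := by rw [hw, mul_smul, hta, D.swap_a]
  have hwb : w • D.b = D.c := by
    rw [hw, mul_smul, show D.b = (0 : D.K).pt from rfl, hpt, sub_zero]; exact D.swap_c
  have hwc : w • D.c = D.a := by
    show w • (1 : D.K).pt = D.a
    rw [hw, mul_smul, hpt, sub_self]; exact D.swap_b
  have hw3 : w * w * w = 1 := D.fix3 _ D.a D.b D.c D.hab D.hac D.hbc
    (by rw [mul_smul, mul_smul, hwa, hwb, hwc]) (by rw [mul_smul, mul_smul, hwb, hwc, hwa])
    (by rw [mul_smul, mul_smul, hwc, hwa, hwb])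
  have hstep : ∀ z : D.K, z ≠ 0 → z ≠ 1 →
      w • z.pt = (D.sig (1 - z)).pt ∧ D.sig (1 - z) ≠ 0 ∧ D.sig (1 - z) ≠ 1 := by
    intro z hz hz1
    have h1z : 1 - z ≠ 0 := sub_ne_zero.2 (Ne.symm hz1)
    refine ⟨by rw [hw, mul_smul, hpt, D.sig_pt h1z], D.sig_ne h1z, fun e => hz ?_⟩
    have := congrArg D.sig e
    rw [D.sig_sig h1z, D.sig_one] at this
    linear_combination -this
  have hx0 : 1 - y ≠ 0 := sub_ne_zero.2 (Ne.symm hy1)
  have hx1 : 1 - y ≠ 1 := fun e => hy (by linear_combination -e)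
  obtain ⟨e1, a1, b1⟩ := hstep (1 - y) hx0 hx1
  obtain ⟨e2, a2, b2⟩ := hstep _ a1 b1
  obtain ⟨e3, -, -⟩ := hstep _ a2 b2
  rw [sub_sub_cancel] at e1 e2 e3 a2 b2
  have hfix : (D.sig (1 - D.sig (1 - D.sig y))).pt = (1 - y).pt := by
    rw [← e3, ← e2, ← e1, ← mul_smul, ← mul_smul, hw3, one_smul]
  have hfix' := congrArg D.sig (Data.K.ext hfix)
  rw [D.sig_sig (sub_ne_zero.2 (Ne.symm b2))] at hfix'
  linear_combination -hfix'

theorem Data.good_sub {y : D.K} (hy : y ≠ 0) (hy1 : y ≠ 1) (h : D.Good y) : D.Good (1 - y) := by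
  have hd : 1 - y ≠ 0 := sub_ne_zero.2 (Ne.symm hy1)
  refine (D.eta_cases hd).resolve_right fun hbad => ?_
  have hsy : D.sig y ≠ 1 := fun e => hy1 (by
    have := congrArg D.sig e
    rwa [D.sig_sig hy, D.sig_one] at this)
  have hu := D.eta_cases (sub_ne_zero.2 (Ne.symm hsy))
  rw [D.sig_identity hy hy1] at hu
  have h' : y * D.sig y = 1 := h
  have key : ∀ u : D.K, (1 - D.sig y) * (1 - D.sig (1 - y)) = u →
      (y - 1) * (2 - y) = u * y * (1 - y) := by
    intro u hu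
    have e : (1 - y) * (1 - D.sig (1 - y)) = 2 - y := by linear_combination -hbad
    have e' : y * (1 - D.sig y) = y - 1 := by linear_combination -h'
    rw [← e, ← e', ← hu]; ring
  rcases hu with hu | hu
  · exact D.two_ne_zero' (mul_left_cancel₀ (sub_ne_zero.2 hy1)
      (show (y - 1) * 2 = (y - 1) * 0 by linear_combination key 1 hu))
  · exact mul_ne_zero D.two_ne_zero' (mul_ne_zero (sub_ne_zero.2 hy1) (sub_ne_zero.2 hy1))
      (by linear_combination -(key (-1) hu))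

theorem Data.good_all {t : D.K} (ht : t ≠ 0) : D.Good t := by
  by_contra hbad
  have hbad' : t * D.sig t = -1 := (D.eta_cases ht).resolve_left hbad
  have hpred : ∀ z : D.K, z ≠ 0 → z ≠ 1 → D.Good z → D.Good (z - 1) := fun z hz hz1 hg => by
    rw [show z - 1 = (-1) * (1 - z) by ring]
    exact D.good_mul (neg_ne_zero.2 one_ne_zero) (sub_ne_zero.2 (Ne.symm hz1)) D.good_neg_one
      (D.good_sub hz hz1 hg)
  have ht1 : t + 1 ≠ 0 := fun e => hbad (by
    rw [show t = -1 by linear_combination e]; exact D.good_neg_one)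
  have hb1 : (t + 1) * D.sig (t + 1) = -1 := (D.eta_cases ht1).resolve_left fun hg =>
    hbad (by
      have := hpred (t + 1) ht1 (fun e => ht (by linear_combination e)) hg
      rwa [add_sub_cancel_right] at this)
  have hti : t⁻¹ ≠ 0 := inv_ne_zero ht
  have hbi : t⁻¹ * D.sig t⁻¹ = -1 := (D.eta_cases hti).resolve_left fun hg => by
    have h1 : (t * t⁻¹) * D.sig (t * t⁻¹) = 1 := by rw [mul_inv_cancel₀ ht, one_mul, D.sig_one]
    rw [D.sig_mul ht hti] at h1
    exact D.two_ne_zero' (by linear_combination -h1 + (t⁻¹ * D.sig t⁻¹) * hbad' - hg)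
  have hga : D.Good ((t + 1) * t⁻¹) := by
    show _ * D.sig _ = 1
    rw [D.sig_mul ht1 hti]
    linear_combination (t⁻¹ * D.sig t⁻¹) * hb1 - hbi
  have hz : (t + 1) * t⁻¹ - 1 = t⁻¹ := by rw [add_mul, mul_inv_cancel₀ ht]; ring
  have := hpred _ (mul_ne_zero ht1 hti) (fun e => hti (by rw [← hz, e, sub_self])) hga
  rw [hz] at this
  have e : t⁻¹ * D.sig t⁻¹ = 1 := this
  exact D.two_ne_zero' (by linear_combination hbi - e)

theorem Data.swap_pt (x : D.K) (hx : x ≠ 0) : D.swap • x.pt = (x⁻¹).pt := by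
  rw [← D.sig_pt hx, eq_inv_of_mul_eq_one_right (D.good_all hx)]

section Iso

variable {F : Type} [Field F] (r : F ≃+* D.K)
include r

/-- The identification with the projective line. -/
noncomputable def Data.toLine (y : α) : ℙ F (Fin 2 → F) :=
  if h : y = D.a then Projectivization.mk F ![1, 0] inf_ne
  else Projectivization.mk F ![r.symm ⟨y, h⟩, 1] (finite_ne _)

theorem Data.toLine_a : D.toLine r D.a = Projectivization.mk F ![1, 0] inf_ne := dif_pos rfl

theorem Data.toLine_pt (x : D.K) :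
    D.toLine r x.pt = Projectivization.mk F ![r.symm x, 1] (finite_ne _) := dif_neg x.ne

theorem Data.toLine_bijective : Function.Bijective (D.toLine r) := by
  constructor
  · intro y z h
    by_cases hy : y = D.a <;> by_cases hz : z = D.a
    · rw [hy, hz]
    · rw [hy, D.toLine_a, D.toLine_pt r ⟨z, hz⟩, pt_eq_iff] at h
      simp [GLTwo.wedge] at h
    · rw [hz, D.toLine_a, D.toLine_pt r ⟨y, hy⟩, pt_eq_iff] at h
      simp [GLTwo.wedge] at h
    · rw [D.toLine_pt r ⟨y, hy⟩, D.toLine_pt r ⟨z, hz⟩, pt_eq_iff] at h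
      simp [GLTwo.wedge, sub_eq_zero] at h
      exact h
  · intro p
    induction p using Projectivization.ind with
    | h v hv =>
      by_cases h1 : v 1 = 0
      · refine ⟨D.a, ?_⟩
        rw [D.toLine_a, pt_eq_iff]
        simp [GLTwo.wedge, h1]
      · refine ⟨(r (v 0 / v 1)).pt, ?_⟩
        rw [D.toLine_pt, pt_eq_iff]
        simp only [GLTwo.wedge, RingEquiv.symm_apply_apply, Matrix.cons_val_zero, Matrix.cons_val_one]
        field_simp
        ring

/-- `g` acts as `γ`. -/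
def Data.Acts (g : G) (γ : Matrix.ProjGenLinGroup (Fin 2) F) : Prop :=
  ∀ y, D.toLine r (g • y) = γ • D.toLine r y

theorem Data.acts_mul {g g' : G} {γ γ' : Matrix.ProjGenLinGroup (Fin 2) F} (h : D.Acts r g γ)
    (h' : D.Acts r g' γ') : D.Acts r (g * g') (γ * γ') := fun y => by
  rw [mul_smul, mul_smul, h, h']

theorem Data.exists_acts_tau (x : D.K) : ∃ γ, D.Acts r (D.tau x.pt) γ := by
  obtain ⟨k, hk0, hk1⟩ := GLTwo.exists_gl (v := ![(1 : F), 0]) (w := ![r.symm x, 1])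
    (by simp [GLTwo.wedge])
  refine ⟨Matrix.ProjGenLinGroup.mk k, fun y => ?_⟩
  symm
  by_cases hy : y = D.a
  · subst hy
    rw [D.tau_a, D.toLine_a]
    refine mk_mulVec k _ inf_ne _ inf_ne ?_
    rw [← GLTwo.gl_smul_eq, show (![1, 0] : Fin 2 → F) = GLTwo.e0 by
      funext i; fin_cases i <;> simp [GLTwo.e0], hk0]
    simp [GLTwo.wedge, GLTwo.e0]
  · rw [show D.tau x.pt • y = (x + ⟨y, hy⟩ : D.K).pt from rfl, D.toLine_pt r ⟨y, hy⟩, D.toLine_pt]
    refine mk_mulVec k _ (finite_ne _) _ (finite_ne _) ?_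
    rw [← GLTwo.gl_smul_eq, GLTwo.pair_ext ![r.symm ⟨y, hy⟩, 1], GLTwo.gl_smul_lin, hk0, hk1, map_add]
    simp [GLTwo.wedge]
    ring

theorem Data.exists_acts_mu (g : G) (hg : g ∈ D.two) : ∃ γ, D.Acts r g γ := by
  have hgc : g • D.c ≠ D.a := D.smul_ne_a hg.1 D.hac.symm
  let x : D.K := ⟨g • D.c, hgc⟩
  have hxb : x.pt ≠ D.b := fun e => D.hbc (smul_left_cancel g ((show g • D.b = D.b from hg.2).trans e.symm))
  have hx : x ≠ 0 := fun e => hxb (congrArg Data.K.pt e)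
  have hgm : g = D.mu x.pt := D.ext3 D.hab D.hac D.hbc
    ((show g • D.a = D.a from hg.1).trans (D.mu_a _).symm)
    ((show g • D.b = D.b from hg.2).trans (D.mu_b _).symm) (D.mu_c x.ne hxb).symm
  have hx' : r.symm x ≠ 0 := by simpa using hx
  obtain ⟨k, hk0, hk1⟩ := GLTwo.exists_gl (v := ![r.symm x, 0]) (w := ![(0 : F), 1])
    (by simpa [GLTwo.wedge] using hx')
  refine ⟨Matrix.ProjGenLinGroup.mk k, fun y => ?_⟩
  symm
  by_cases hy : y = D.a
  · subst hy
    rw [show g • D.a = D.a from hg.1, D.toLine_a]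
    refine mk_mulVec k _ inf_ne _ inf_ne ?_
    rw [← GLTwo.gl_smul_eq, show (![1, 0] : Fin 2 → F) = GLTwo.e0 by
      funext i; fin_cases i <;> simp [GLTwo.e0], hk0]
    simp [GLTwo.wedge, GLTwo.e0]
  · have : g • y = (x * ⟨y, hy⟩ : D.K).pt := by rw [D.mul_pt, if_neg hxb, ← hgm]
    rw [this, D.toLine_pt r ⟨y, hy⟩, D.toLine_pt]
    refine mk_mulVec k _ (finite_ne _) _ (finite_ne _) ?_
    rw [← GLTwo.gl_smul_eq, GLTwo.pair_ext ![r.symm ⟨y, hy⟩, 1], GLTwo.gl_smul_lin, hk0, hk1, map_mul]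
    simp [GLTwo.wedge]
    ring

theorem Data.exists_acts_swap : ∃ γ, D.Acts r D.swap γ := by
  obtain ⟨k, hk0, hk1⟩ := GLTwo.exists_gl (v := ![(0 : F), 1]) (w := ![(1 : F), 0])
    (by simp [GLTwo.wedge])
  refine ⟨Matrix.ProjGenLinGroup.mk k, fun y => ?_⟩
  symm
  by_cases hy : y = D.a
  · subst hy
    rw [D.swap_a, D.toLine_a, show D.b = (0 : D.K).pt from rfl, D.toLine_pt]
    refine mk_mulVec k _ inf_ne _ (finite_ne _) ?_
    rw [← GLTwo.gl_smul_eq, show (![1, 0] : Fin 2 → F) = GLTwo.e0 by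
      funext i; fin_cases i <;> simp [GLTwo.e0], hk0]
    simp [GLTwo.wedge]
  · obtain ⟨z, rfl⟩ : ∃ z : D.K, z.pt = y := ⟨⟨y, hy⟩, rfl⟩
    rw [D.toLine_pt]
    by_cases hz : z = 0
    · subst hz
      rw [show D.swap • (0 : D.K).pt = D.a from D.swap_b, D.toLine_a]
      refine mk_mulVec k _ (finite_ne _) _ inf_ne ?_
      rw [← GLTwo.gl_smul_eq, GLTwo.pair_ext ![r.symm 0, 1], GLTwo.gl_smul_lin, hk0, hk1]
      simp [GLTwo.wedge]
    · rw [D.swap_pt z hz, D.toLine_pt]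
      refine mk_mulVec k _ (finite_ne _) _ (finite_ne _) ?_
      rw [← GLTwo.gl_smul_eq, GLTwo.pair_ext ![r.symm z, 1], GLTwo.gl_smul_lin, hk0, hk1, map_inv₀]
      have : r.symm z ≠ 0 := by simpa using hz
      simp [GLTwo.wedge]
      field_simp
      ring

theorem Data.exists_acts (g : G) : ∃ γ, D.Acts r g γ := by
  have key : ∀ g : G, g • D.a = D.a → ∃ γ, D.Acts r g γ := by
    intro g hg
    have hx : g • D.b ≠ D.a := D.smul_ne_a hg D.hab.symm
    obtain ⟨γ1, h1⟩ := D.exists_acts_tau r ⟨g • D.b, hx⟩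
    have hmem : (D.tau (g • D.b))⁻¹ * g ∈ D.two :=
      ⟨show _ • D.a = D.a by rw [mul_smul, hg, D.inv_a (D.tau_a _)],
        show _ • D.b = D.b by rw [mul_smul, D.tau_inv_self hx]⟩
    obtain ⟨γ2, h2⟩ := D.exists_acts_mu r _ hmem
    have : g = D.tau (g • D.b) * ((D.tau (g • D.b))⁻¹ * g) := by rw [mul_inv_cancel_left]
    rw [this]
    exact ⟨_, D.acts_mul r h1 h2⟩
  by_cases hg : g • D.a = D.a
  · exact key g hg
  obtain ⟨γ1, h1⟩ := D.exists_acts_tau r ⟨g • D.a, hg⟩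
  obtain ⟨γ2, h2⟩ := D.exists_acts_swap r
  obtain ⟨γ3, h3⟩ := key (D.swap * ((D.tau (g • D.a))⁻¹ * g))
    (by rw [mul_smul, mul_smul, D.tau_inv_self hg, D.swap_b])
  have : g = D.tau (g • D.a) * (D.swap * (D.swap * ((D.tau (g • D.a))⁻¹ * g))) := by
    rw [← mul_assoc D.swap, D.swap_sq, one_mul, mul_inv_cancel_left]
  rw [this]
  exact ⟨_, D.acts_mul r h1 (D.acts_mul r h2 h3)⟩

theorem Data.nonempty_equiv (hfaith : ∀ g : G, (∀ y : α, g • y = y) → g = 1) :
    Nonempty (G ≃* Matrix.ProjGenLinGroup (Fin 2) F) := by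
  choose φ hφ using D.exists_acts r
  have hbij := D.toLine_bijective r
  have huniq : ∀ (γ γ' : Matrix.ProjGenLinGroup (Fin 2) F),
      γ • D.toLine r D.a = γ' • D.toLine r D.a → γ • D.toLine r D.b = γ' • D.toLine r D.b →
      γ • D.toLine r D.c = γ' • D.toLine r D.c → γ = γ' := by
    intro γ γ' e1 e2 e3
    have h : γ'⁻¹ * γ = 1 := ProjLine.eq_one_of_fix_three _ (hbij.1.ne D.hab) (hbij.1.ne D.hac)
      (hbij.1.ne D.hbc) (by rw [mul_smul, e1, inv_smul_smul]) (by rw [mul_smul, e2, inv_smul_smul])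
      (by rw [mul_smul, e3, inv_smul_smul])
    exact (inv_mul_eq_one.1 h).symm
  have hmul : ∀ g g', φ (g * g') = φ g * φ g' := fun g g' =>
    huniq _ _ (by rw [← hφ, D.acts_mul r (hφ g) (hφ g')]) (by rw [← hφ, D.acts_mul r (hφ g) (hφ g')])
      (by rw [← hφ, D.acts_mul r (hφ g) (hφ g')])
  let Φ : G →* Matrix.ProjGenLinGroup (Fin 2) F := MonoidHom.mk' φ hmul
  refine ⟨MulEquiv.ofBijective Φ ⟨?_, fun γ => ?_⟩⟩
  · rw [injective_iff_map_eq_one]
    intro g hg
    refine hfaith g fun y => hbij.1 ?_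
    rw [hφ g y, show φ g = 1 from hg, one_smul]
  · obtain ⟨u, hu⟩ := hbij.2 (γ • D.toLine r D.a)
    obtain ⟨v, hv⟩ := hbij.2 (γ • D.toLine r D.b)
    obtain ⟨w, hw⟩ := hbij.2 (γ • D.toLine r D.c)
    have ne : ∀ {p p' z z' : α}, p ≠ p' → D.toLine r z = γ • D.toLine r p →
        D.toLine r z' = γ • D.toLine r p' → z ≠ z' := fun hp e e' h =>
      hp (hbij.1 (smul_left_cancel γ (by rw [← e, ← e', h])))
    obtain ⟨g, g1, g2, g3⟩ := D.trans3 D.a D.b D.c u v w D.hab D.hac D.hbc (ne D.hab hu hv)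
      (ne D.hac hu hw) (ne D.hbc hv hw)
    exact ⟨g, huniq _ _ (by show φ g • _ = _; rw [← hφ, g1, hu])
      (by show φ g • _ = _; rw [← hφ, g2, hv]) (by show φ g • _ = _; rw [← hφ, g3, hw])⟩

end Iso

/-- A copy of `Fin q`, to carry a transported field structure. -/
def Carrier (q : ℕ) : Type := Fin q

instance (q : ℕ) : Fintype (Carrier q) := inferInstanceAs (Fintype (Fin q))

/-- The group is `PGL₂(q)` when the degree is `q + 1`. -/
theorem Data.exists_field [Fintype α] {q : ℕ} (hq : Fintype.card α = q + 1)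
    (hfaith : ∀ g : G, (∀ y : α, g • y = y) → g = 1) :
    ∃ (F : Type) (_ : Field F) (_ : Fintype F), Fintype.card F = q ∧
      Nonempty (G ≃* Matrix.ProjGenLinGroup (Fin 2) F) := by
  classical
  let e0 : D.K ≃ {y : α // y ≠ D.a} := ⟨fun x => ⟨x.pt, x.ne⟩, fun y => ⟨y.1, y.2⟩, fun _ => rfl, fun _ => rfl⟩
  haveI : Fintype D.K := Fintype.ofEquiv _ e0.symm
  have hcard : Fintype.card D.K = q := by
    rw [Fintype.card_congr e0, Fintype.card_subtype_compl, Fintype.card_subtype_eq, hq, Nat.add_sub_cancel]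
  let e : Carrier q ≃ D.K := (Fintype.equivFinOfCardEq hcard).symm
  letI : Field (Carrier q) := e.field
  exact ⟨Carrier q, inferInstance, inferInstance, Fintype.card_fin q, D.nonempty_equiv e.ringEquiv hfaith⟩

end Cfsg.Agent.H33.SharpField
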