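import Cfsg.Agent.H33.PermCharacter
import Mathlib.LinearAlgebra.Eigenspace.Zero
import Mathlib.LinearAlgebra.Matrix.Charpoly.Eigs
import Mathlib.LinearAlgebra.Trace
import Mathlib.RingTheory.Int.Basic
import Mathlib.RingTheory.Polynomial.RationalRoot

set_option autoImplicit false

/-!
Orbital matrices and divisibility of subdegrees.
-/

namespace Cfsg.Agent.H33

open Module MulAction

universe u v

variable {G : Type u} [Group G] {Ω : Type v} [MulAction G Ω]

open scoped Classical in
/-- The adjacency kernel of the orbital of `(a, b)`. -/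
noncomputable def orbMat (R : Type*) [Zero R] [One R] (a b : Ω) (G : Type u) [Group G]
    [MulAction G Ω] : Matrix Ω Ω R :=
  Matrix.of fun x y => if ∃ g : G, g • a = x ∧ g • b = y then 1 else 0

theorem orbMat_inv (R : Type*) [Zero R] [One R] (a b : Ω) (g : G) (x y : Ω) :
    orbMat R a b G (g • x) (g • y) = orbMat R a b G x y := by
  classical
  refine if_congr ⟨?_, ?_⟩ rfl rfl
  · rintro ⟨k, h1, h2⟩
    exact ⟨g⁻¹ * k, by rw [mul_smul, h1, inv_smul_smul], by rw [mul_smul, h2, inv_smul_smul]⟩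
  · rintro ⟨k, h1, h2⟩
    exact ⟨g * k, by rw [mul_smul, h1], by rw [mul_smul, h2]⟩

variable [Fintype Ω]

theorem orbMat_row (R : Type*) [CommRing R] [IsPretransitive G Ω] (a b x : Ω) :
    ∑ y, orbMat R a b G x y = (Nat.card (orbit (stabilizer G a) b) : R) := by
  classical
  obtain ⟨g, rfl⟩ := exists_smul_eq G a x
  rw [← Fintype.sum_equiv (MulAction.toPerm g) (fun y => orbMat R a b G a y) _
    (fun y => by rw [MulAction.toPerm_apply, orbMat_inv])]
  simp only [orbMat, Matrix.of_apply]
  rw [Finset.sum_boole, Nat.card_eq_fintype_card, Fintype.card_subtype]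
  congr 2
  ext y
  simp only [Finset.mem_filter, Finset.mem_univ, true_and, mem_orbit_iff]
  constructor
  · rintro ⟨k, h1, h2⟩
    exact ⟨⟨k, h1⟩, h2⟩
  · rintro ⟨⟨k, h1⟩, h2⟩
    exact ⟨k, h1, h2⟩

theorem orbMat_col [IsPretransitive G Ω] (a b y : Ω) :
    ∑ x, orbMat ℂ a b G x y = (Nat.card (orbit (stabilizer G a) b) : ℂ) := by
  have hconst : ∀ z, ∑ x, orbMat ℂ a b G x z = ∑ x, orbMat ℂ a b G x y := by
    intro z
    obtain ⟨g, rfl⟩ := exists_smul_eq G y z
    exact (Fintype.sum_equiv (MulAction.toPerm g) _ _ fun x => by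
      rw [MulAction.toPerm_apply, orbMat_inv]).symm
  have h : ∑ z : Ω, ∑ x, orbMat ℂ a b G x z
      = ∑ x : Ω, (Nat.card (orbit (stabilizer G a) b) : ℂ) := by
    rw [Finset.sum_comm]
    exact Finset.sum_congr rfl fun x _ => orbMat_row ℂ a b x
  rw [Finset.sum_congr rfl (fun z _ => hconst z), Finset.sum_const, Finset.sum_const,
    Finset.card_univ, nsmul_eq_mul, nsmul_eq_mul] at h
  exact mul_left_cancel₀ (by exact_mod_cast (Fintype.card_pos_iff.mpr ⟨a⟩).ne') h

theorem orbMat_diag (R : Type*) [Zero R] [One R] {a b : Ω} (hab : b ≠ a) (x : Ω) :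
    orbMat R a b G x x = 0 := by
  classical
  refine if_neg ?_
  rintro ⟨g, h1, h2⟩
  exact hab (MulAction.injective g (h2.trans h1.symm))

/-- Eigenvalues of integral matrices are algebraic integers. -/
theorem isIntegral_of_eigen [DecidableEq Ω] (M : Matrix Ω Ω ℤ) {μ : ℂ} {v : Ω → ℂ} (hv : v ≠ 0)
    (h : Matrix.toLin' (M.map (Int.castRingHom ℂ)) v = μ • v) : IsIntegral ℤ μ := by
  have hev : End.HasEigenvalue (Matrix.toLin' (M.map (Int.castRingHom ℂ))) μ :=
    End.hasEigenvalue_of_hasEigenvector ⟨End.mem_eigenspace_iff.mpr h, hv⟩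
  have hroot := (End.hasEigenvalue_iff_isRoot_charpoly _ _).mp hev
  rw [Matrix.charpoly_toLin', Matrix.charpoly_map, Polynomial.IsRoot.def, Polynomial.eval_map] at hroot
  exact ⟨M.charpoly, M.charpoly_monic, by rw [algebraMap_int_eq]; exact hroot⟩

theorem orbMat_map (a b : Ω) :
    (orbMat ℤ a b G).map (Int.castRingHom ℂ) = orbMat ℂ a b G := by
  ext x y
  simp only [orbMat, Matrix.map_apply, Matrix.of_apply]
  split_ifs <;> simp

variable [Fintype G]

/-- Every fixed-point-free submodule of the permutation module has degree divisible by `f`. -/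
theorem dvd_finrank_of_no_fixed {f : ℕ}
    (hf : ∀ χ : G → ℂ, Cfsg.IsIrrCharacter G χ → χ ≠ (fun _ => 1) →
      Cfsg.classInner (permChar G Ω) χ ≠ 0 → ∃ m : ℕ, χ 1 = (f : ℂ) * m)
    (V : Type v) [AddCommGroup V] [Module ℂ V] [FiniteDimensional ℂ V]
    (σ : Representation ℂ G V) (u : V →ₗ[ℂ] (Ω → ℂ)) (hu : Eqv σ (Cfsg.permRep ℂ G Ω) u)
    (hinj : Function.Injective u) (hfix : ∀ x, (∀ g, σ g x = x) → x = 0) :
    f ∣ finrank ℂ V := by
  refine CharBasic.rep_induction (G := G)
    (motive := fun V _ _ _ σ => ∀ u : V →ₗ[ℂ] (Ω → ℂ), Eqv σ (Cfsg.permRep ℂ G Ω) u →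
      Function.Injective u → (∀ x, (∀ g, σ g x = x) → x = 0) → f ∣ finrank ℂ V)
    ?_ ?_ ?_ V σ u hu hinj hfix
  · intro V _ _ _ σ hs _ _ _ _
    rw [Module.finrank_zero_of_subsingleton]
    exact dvd_zero f
  · intro V _ _ _ σ hσ u hu hinj hfix
    have := CharBasic.nontrivial_of_isIrreducible σ
    obtain ⟨x, hx⟩ := exists_ne (0 : V)
    have hu0 : u ≠ 0 := fun h => hx (hinj (by rw [h]; rfl))
    have hne := classInner_ne_zero hu hu0
    rw [permRep_character] at hne
    have h1 : σ.character ≠ fun _ => 1 := by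
      intro h
      have hd : finrank ℂ V = 1 := by
        have := congrFun h 1
        rw [Representation.char_one] at this
        exact_mod_cast this
      refine hx (hfix x fun g => ?_)
      obtain ⟨c, hc⟩ := (finrank_eq_one_iff_of_nonzero' x hx).mp hd (σ g x)
      have hlin : σ g = c • LinearMap.id := LinearMap.ext fun y => by
        obtain ⟨d, rfl⟩ := (finrank_eq_one_iff_of_nonzero' x hx).mp hd y
        rw [map_smul, ← hc, smul_comm]; rfl
      have := congrFun h g
      rw [Representation.character, hlin, map_smul, LinearMap.trace_id, hd, Nat.cast_one,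
        smul_eq_mul, mul_one] at this
      rw [← hc, this, one_smul]
    obtain ⟨m, hm⟩ := hf _ (CharBasic.isIrrCharacter_character σ) h1 hne
    rw [Representation.char_one] at hm
    exact ⟨m, by exact_mod_cast hm⟩
  · intro V _ _ _ σ S T hc hS hT u hu hinj hfix
    rw [← CharBasic.finrank_add_of_isCompl σ hc]
    refine dvd_add (hS _ (hu.comp (eqv_subtype S)) (hinj.comp Subtype.val_injective) ?_)
      (hT _ (hu.comp (eqv_subtype T)) (hinj.comp Subtype.val_injective) ?_) <;>
    · intro x hx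
      exact Subtype.ext (hfix _ fun g => congrArg Subtype.val (hx g))

theorem subdegree_dvd [IsPretransitive G Ω] {f : ℕ}
    (hf : ∀ χ : G → ℂ, Cfsg.IsIrrCharacter G χ → χ ≠ (fun _ => 1) →
      Cfsg.classInner (permChar G Ω) χ ≠ 0 → ∃ m : ℕ, χ 1 = (f : ℂ) * m)
    {a b : Ω} (hab : b ≠ a) : f ∣ Nat.card (orbit (stabilizer G a) b) := by
  classical
  set ρ := Cfsg.permRep ℂ G Ω with hρ
  set k := Nat.card (orbit (stabilizer G a) b) with hk
  set n : ℂ := (Fintype.card Ω : ℂ) with hn
  have hn0 : n ≠ 0 := by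
    rw [hn]; exact_mod_cast (Fintype.card_pos_iff.mpr ⟨a⟩).ne'
  let S : (Ω → ℂ) →ₗ[ℂ] ℂ := ∑ x, LinearMap.proj x
  have hS : ∀ v, S v = ∑ x, v x := fun v => by simp [S]
  set T : (Ω → ℂ) →ₗ[ℂ] (Ω → ℂ) := Matrix.toLin' (orbMat ℂ a b G) with hT
  have hSρ : ∀ g v, S (ρ g v) = S v := by
    intro g v
    rw [hS, hS]
    exact Fintype.sum_equiv (MulAction.toPerm g⁻¹) _ _ fun x => rfl
  have hTe : Eqv ρ ρ T := eqv_toLin' _ fun g x y => orbMat_inv ℂ a b g x y
  set T0 : Module.End ℂ (Ω → ℂ) := T - ((k : ℂ) / n) • S.smulRight (fun _ => (1 : ℂ)) with hT0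
  have hT0e : Eqv ρ ρ T0 := by
    refine hTe.sub (Eqv.smul ?_ _)
    intro g v
    rw [LinearMap.smulRight_apply, LinearMap.smulRight_apply, hSρ, map_smul]
    rfl
  have hST0 : ∀ v, S (T0 v) = 0 := by
    intro v
    have h1 : S (T v) = (k : ℂ) * S v := by
      rw [hS, hS, hT]
      simp only [Matrix.toLin'_apply, Matrix.mulVec, dotProduct]
      rw [Finset.sum_comm, Finset.mul_sum]
      refine Finset.sum_congr rfl fun y _ => ?_
      rw [← Finset.sum_mul, orbMat_col]
    have h2 : S (fun _ => (1 : ℂ)) = n := by rw [hS]; simp [hn]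
    rw [hT0, LinearMap.sub_apply, map_sub, LinearMap.smul_apply, map_smul,
      LinearMap.smulRight_apply, map_smul, h1, h2]
    field_simp
    simp only [smul_eq_mul]
    field_simp
    ring
  have htr : LinearMap.trace ℂ (Ω → ℂ) T0 = -(k : ℂ) := by
    rw [hT0, map_sub, map_smul, LinearMap.trace_smulRight, hS, hT, Matrix.trace_toLin'_eq]
    simp only [Matrix.trace, Matrix.diag, orbMat_diag ℂ hab, Finset.sum_const_zero, Finset.sum_const,
      Finset.card_univ, nsmul_eq_mul, mul_one, zero_sub, smul_eq_mul]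
    rw [← hn, div_mul_cancel₀ _ hn0]
  -- each eigenvalue contributes `f` times an algebraic integer
  have hterm : ∀ μ ∈ T0.charpoly.roots, ∃ z : ℂ, IsIntegral ℤ z ∧
      (T0.charpoly.roots.count μ : ℂ) * μ = (f : ℂ) * z := by
    intro μ hμ
    rcases eq_or_ne μ 0 with rfl | hμ0
    · exact ⟨0, isIntegral_zero, by simp⟩
    rw [Polynomial.count_roots, ← LinearMap.finrank_maxGenEigenspace_eq]
    have hin : ∀ x ∈ T0.maxGenEigenspace μ, S x = 0 := by
      intro x hx
      obtain ⟨j, hj⟩ := (End.mem_maxGenEigenspace T0 μ x).mp hx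
      have key : ∀ j : ℕ, S (((T0 - μ • 1) ^ j) x) = (-μ) ^ j * S x := by
        intro j
        induction j with
        | zero => simp
        | succ j ih =>
          rw [pow_succ', Module.End.mul_apply, LinearMap.sub_apply, map_sub, hST0,
            LinearMap.smul_apply, Module.End.one_apply, map_smul, ih, smul_eq_mul]
          ring
      have := key j
      rw [hj, map_zero] at this
      exact (mul_eq_zero.mp this.symm).resolve_left (pow_ne_zero _ (neg_ne_zero.mpr hμ0))
    let U : Subrepresentation ρ := ⟨T0.maxGenEigenspace μ, fun g x hx => by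
      obtain ⟨j, hj⟩ := (End.mem_maxGenEigenspace T0 μ x).mp hx
      refine (End.mem_maxGenEigenspace T0 μ _).mpr ⟨j, ?_⟩
      have hc : Commute (T0 - μ • 1) (ρ g) := by
        refine LinearMap.ext fun y => ?_
        simp only [Module.End.mul_apply, LinearMap.sub_apply, LinearMap.smul_apply,
          Module.End.one_apply, hT0e g y, map_sub, map_smul]
      rw [← Module.End.mul_apply, (hc.pow_left j).eq, Module.End.mul_apply, hj, map_zero]⟩
    have hfU : f ∣ finrank ℂ U.toSubmodule := by
      refine dvd_finrank_of_no_fixed hf _ U.toRepresentation U.toSubmodule.subtype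
        (eqv_subtype U) Subtype.val_injective fun x hx => ?_
      have hconst : ∀ y, (x : Ω → ℂ) y = (x : Ω → ℂ) a := by
        intro y
        obtain ⟨g, rfl⟩ := exists_smul_eq G a y
        have := congrFun (congrArg Subtype.val (hx g)) (g • a)
        rw [show ((U.toRepresentation g x : U.toSubmodule) : Ω → ℂ) (g • a)
            = (x : Ω → ℂ) (g⁻¹ • g • a) from rfl, inv_smul_smul] at this
        exact this.symm
      have h0 := hin x x.2
      rw [hS, Finset.sum_congr rfl (fun y _ => hconst y), Finset.sum_const, Finset.card_univ,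
        nsmul_eq_mul] at h0
      exact Subtype.ext (funext fun y => by
        rw [hconst y]; exact (mul_eq_zero.mp h0).resolve_left hn0)
    obtain ⟨c, hc⟩ := hfU
    refine ⟨(c : ℂ) * μ, (isIntegral_natCast c).mul ?_, ?_⟩
    · have hev : End.HasEigenvalue T0 μ := (End.hasEigenvalue_iff_isRoot_charpoly _ _).mpr
        (Polynomial.isRoot_of_mem_roots hμ)
      obtain ⟨v, hv, hv0⟩ := hev.exists_hasEigenvector
      rw [End.mem_eigenspace_iff] at hv
      have hSv : S v = 0 := by
        have := hST0 v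
        rw [hv, map_smul, smul_eq_mul] at this
        exact (mul_eq_zero.mp this).resolve_left hμ0
      refine isIntegral_of_eigen (orbMat ℤ a b G) hv0 ?_
      rw [orbMat_map, ← hT]
      rw [hT0, LinearMap.sub_apply, LinearMap.smul_apply, LinearMap.smulRight_apply, hSv,
        zero_smul, smul_zero, sub_zero] at hv
      exact hv
    · rw [show finrank ℂ (T0.maxGenEigenspace μ) = f * c from hc]
      push_cast
      ring
  have hsum : T0.charpoly.roots.sum = -(k : ℂ) := by
    rw [← htr, ← LinearMap.charpoly_toMatrix T0 (Pi.basisFun ℂ Ω),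
      LinearMap.trace_eq_matrix_trace ℂ (Pi.basisFun ℂ Ω), Matrix.trace_eq_sum_roots_charpoly]
  choose! z hz using hterm
  rw [Finset.sum_multiset_count, Finset.sum_congr rfl (fun μ hμ => by
    rw [nsmul_eq_mul, (hz μ (Multiset.mem_toFinset.mp hμ)).2]), ← Finset.mul_sum] at hsum
  set Z := ∑ μ ∈ T0.charpoly.roots.toFinset, z μ with hZ
  have hZi : IsIntegral ℤ Z := IsIntegral.sum _ fun μ hμ => (hz μ (Multiset.mem_toFinset.mp hμ)).1
  rcases Nat.eq_zero_or_pos f with rfl | hfpos
  · rw [Nat.cast_zero, zero_mul, eq_comm, neg_eq_zero] at hsum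
    rw [Nat.cast_eq_zero.mp hsum]
  · have hq : ((-(k : ℚ) / f : ℚ) : ℂ) = Z := by
      push_cast
      rw [← hsum, mul_div_cancel_left₀ _ (by exact_mod_cast hfpos.ne')]
    have hqi : IsIntegral ℤ (-(k : ℚ) / f) := by
      rw [← hq] at hZi
      exact (isIntegral_algHom_iff ((Algebra.ofId ℚ ℂ).restrictScalars ℤ)
        (algebraMap ℚ ℂ).injective).mp (by simpa using hZi)
    obtain ⟨w, hw⟩ := IsIntegrallyClosed.isIntegral_iff.mp hqi
    rw [algebraMap_int_eq, eq_intCast, eq_div_iff (by exact_mod_cast hfpos.ne')] at hw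
    have hint : w * (f : ℤ) = -(k : ℤ) := by exact_mod_cast hw
    exact Int.natCast_dvd_natCast.mp ⟨-w, by linarith⟩

end Cfsg.Agent.H33
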