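import Mathlib.GroupTheory.Subgroup.Simple
import Mathlib.Algebra.Group.Pi.Basic
import Mathlib.Algebra.Group.Pi.Lemmas
import Mathlib.Data.Finset.NoncommProd
import Mathlib.Algebra.Group.Subgroup.Finite

set_option autoImplicit false

/-!
Homomorphisms out of direct powers of a non-abelian simple group, and subdirect products.
-/

namespace Cfsg.Agent.H33

variable {T : Type*} [Group T] [IsSimpleGroup T]

omit [IsSimpleGroup T] in
/-- Homomorphisms on a finite power agreeing on each factor are equal. -/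
theorem pi_hom_ext {ι : Type*} [Fintype ι] [DecidableEq ι] {M : Type*} [Group M]
    (f g : (ι → T) →* M) (h : ∀ i t, f (Pi.mulSingle i t) = g (Pi.mulSingle i t)) : f = g := by
  refine MonoidHom.ext fun x => ?_
  show x ∈ f.eqLocus g
  rw [← Finset.noncommProd_mulSingle x]
  exact Subgroup.noncommProd_mem _ _ fun i _ => h i (x i)

/-- A surjection from a finite power of a non-abelian simple group onto it is a coordinate
projection followed by an automorphism. -/
theorem pi_hom_factor (hT : ¬ IsMulCommutative T) {ι : Type*} [Fintype ι]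
    (f : (ι → T) →* T) (hf : Function.Surjective f) :
    ∃ (s : ι) (α : T ≃* T), ∀ x, f x = α (x s) := by
  classical
  let g : ι → (T →* T) := fun j => f.comp (MonoidHom.mulSingle (fun _ : ι => T) j)
  have hnorm : ∀ j, (g j).range.Normal := by
    intro j
    refine ⟨?_⟩
    rintro _ ⟨t, rfl⟩ y
    obtain ⟨x, rfl⟩ := hf y
    refine ⟨x j * t * (x j)⁻¹, ?_⟩
    show f (Pi.mulSingle j (x j * t * (x j)⁻¹)) = f x * f (Pi.mulSingle j t) * (f x)⁻¹
    rw [← map_inv, ← map_mul, ← map_mul]
    congr 1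
    funext k
    rcases eq_or_ne k j with rfl | hk
    · simp
    · simp [hk]
  have hex : ∃ s, (g s).range = ⊤ := by
    by_contra h
    push Not at h
    have hbot : ∀ s t, g s t = 1 := fun s t => by
      have := ((hnorm s).eq_bot_or_eq_top).resolve_right (h s)
      exact Subgroup.mem_bot.mp (this ▸ ⟨t, rfl⟩ : g s t ∈ (⊥ : Subgroup T))
    obtain ⟨y, hy⟩ := exists_ne (1 : T)
    obtain ⟨x, rfl⟩ := hf y
    apply hy
    have : f = 1 := pi_hom_ext f 1 fun i t => hbot i t
    rw [this]
    rfl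
  obtain ⟨s, hs⟩ := hex
  have hother : ∀ j, j ≠ s → ∀ t, g j t = 1 := by
    intro j hj t
    by_contra hne
    apply hT
    have htop : (g j).range = ⊤ := ((hnorm j).eq_bot_or_eq_top).resolve_left fun h =>
      hne (Subgroup.mem_bot.mp (h ▸ ⟨t, rfl⟩ : g j t ∈ (⊥ : Subgroup T)))
    refine ⟨⟨fun a b => ?_⟩⟩
    obtain ⟨a', rfl⟩ := (MonoidHom.range_eq_top.mp hs) a
    obtain ⟨b', rfl⟩ := (MonoidHom.range_eq_top.mp htop) b
    show f _ * f _ = f _ * f _
    rw [← map_mul, ← map_mul]
    exact congrArg f (Pi.mulSingle_commute (f := fun _ : ι => T) hj.symm a' b').eq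
  have hinj : Function.Injective (g s) := by
    rw [← MonoidHom.ker_eq_bot_iff]
    refine ((MonoidHom.normal_ker (g s)).eq_bot_or_eq_top).resolve_right fun h => ?_
    rw [MonoidHom.ker_eq_top_iff] at h
    rw [h, MonoidHom.range_one] at hs
    exact bot_ne_top hs
  refine ⟨s, MulEquiv.ofBijective (g s) ⟨hinj, MonoidHom.range_eq_top.mp hs⟩, fun x => ?_⟩
  show f x = g s (x s)
  have : f = (g s).comp (Pi.evalMonoidHom (fun _ : ι => T) s) := by
    refine pi_hom_ext _ _ fun i t => ?_
    rcases eq_or_ne i s with rfl | hi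
    · simp [g]
    · rw [MonoidHom.comp_apply, Pi.evalMonoidHom_apply, Pi.mulSingle_eq_of_ne hi.symm, map_one]
      exact hother i hi t
  exact congrArg (fun h : (ι → T) →* T => h x) this

/-- An automorphism of a power of a non-abelian simple group permutes the coordinates. -/
theorem pi_aut_factor (hT : ¬ IsMulCommutative T) {ι : Type*} [Fintype ι]
    (φ : (ι → T) ≃* (ι → T)) :
    ∃ (σ : ι ≃ ι) (α : ι → T ≃* T), ∀ x i, φ x i = α i (x (σ i)) := by
  classical
  have h : ∀ i, ∃ (s : ι) (α : T ≃* T), ∀ x, φ x i = α (x s) := fun i =>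
    pi_hom_factor hT ((Pi.evalMonoidHom (fun _ : ι => T) i).comp φ.toMonoidHom)
      (fun t => ⟨φ.symm (Pi.mulSingle i t), by simp⟩)
  choose s α hs using h
  refine ⟨Equiv.ofBijective s (Finite.injective_iff_bijective.mp ?_), α, fun x i => hs i x⟩
  intro i j hij
  by_contra hne
  obtain ⟨t, ht⟩ := exists_ne (1 : T)
  have h1 := hs i (φ.symm (Pi.mulSingle i t))
  have h2 := hs j (φ.symm (Pi.mulSingle i t))
  rw [MulEquiv.apply_symm_apply, Pi.mulSingle_eq_same] at h1
  rw [MulEquiv.apply_symm_apply, Pi.mulSingle_eq_of_ne (Ne.symm hne), eq_comm,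
    map_eq_one_iff _ (α j).injective, ← hij] at h2
  rw [h2, map_one] at h1
  exact ht h1

/-- A subdirect product whose coordinate kernels are distinct is everything. -/
theorem subdirect_surjective (hT : ¬ IsMulCommutative T) {ι : Type*} [DecidableEq ι]
    (D : Subgroup (ι → T)) (hsurj : ∀ i, ∀ t : T, ∃ d ∈ D, d i = t) (R : Finset ι)
    (hR : ∀ i ∈ R, ∀ j ∈ R, (∀ d ∈ D, d i = 1 ↔ d j = 1) → i = j) (v : ι → T) :
    ∃ d ∈ D, ∀ i ∈ R, d i = v i := by
  induction R using Finset.induction_on generalizing v with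
  | empty => exact ⟨1, D.one_mem, by simp⟩
  | @insert r R hr ih =>
    have hR' := fun i hi j hj => hR i (Finset.mem_insert_of_mem hi) j (Finset.mem_insert_of_mem hj)
    let B : Subgroup T :=
      { carrier := {t | ∃ d ∈ D, (∀ i ∈ R, d i = 1) ∧ d r = t}
        one_mem' := ⟨1, D.one_mem, fun i _ => rfl, rfl⟩
        mul_mem' := by
          rintro a b ⟨x, hx, hx1, rfl⟩ ⟨y, hy, hy1, rfl⟩
          exact ⟨x * y, D.mul_mem hx hy, fun i hi => by simp [hx1 i hi, hy1 i hi], rfl⟩
        inv_mem' := by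
          rintro a ⟨x, hx, hx1, rfl⟩
          exact ⟨x⁻¹, D.inv_mem hx, fun i hi => by simp [hx1 i hi], rfl⟩ }
    have hB : B.Normal := by
      refine ⟨?_⟩
      rintro _ ⟨x, hx, hx1, rfl⟩ t
      obtain ⟨y, hy, rfl⟩ := hsurj r t
      exact ⟨y * x * y⁻¹, D.mul_mem (D.mul_mem hy hx) (D.inv_mem hy),
        fun i hi => by simp [hx1 i hi], rfl⟩
    rcases hB.eq_bot_or_eq_top with hb | hb
    · exfalso
      have hlift : ∀ w : R → T, ∃ d ∈ D, ∀ i : R, d i = w i := by
        intro w
        obtain ⟨d, hd, hdw⟩ := ih hR' (fun i => if h : i ∈ R then w ⟨i, h⟩ else 1)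
        exact ⟨d, hd, fun i => by rw [hdw i i.2, dif_pos i.2]⟩
      choose L hLD hL using hlift
      have hdet : ∀ d ∈ D, ∀ e ∈ D, (∀ i ∈ R, d i = e i) → d r = e r := by
        intro d hd e he h
        have : d r * (e r)⁻¹ ∈ B :=
          ⟨d * e⁻¹, D.mul_mem hd (D.inv_mem he), fun i hi => by simp [h i hi], rfl⟩
        rw [hb, Subgroup.mem_bot, mul_inv_eq_one] at this
        exact this
      let f : (R → T) →* T :=
        { toFun := fun w => L w r
          map_one' := hdet _ (hLD 1) 1 D.one_mem fun i hi => hL 1 ⟨i, hi⟩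
          map_mul' := fun w w' => hdet _ (hLD _) (L w * L w') (D.mul_mem (hLD _) (hLD _))
            fun i hi => by
              show L (w * w') i = L w i * L w' i
              rw [hL _ ⟨i, hi⟩, hL w ⟨i, hi⟩, hL w' ⟨i, hi⟩]
              rfl }
      have hfd : ∀ d ∈ D, f (fun i => d i) = d r := fun d hd =>
        hdet _ (hLD _) d hd fun i hi => hL _ ⟨i, hi⟩
      obtain ⟨s, α, hα⟩ := pi_hom_factor hT f (fun t => by
        obtain ⟨d, hd, rfl⟩ := hsurj r t
        exact ⟨_, hfd d hd⟩)
      refine hr ?_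
      rw [hR r (Finset.mem_insert_self _ _) s (Finset.mem_insert_of_mem s.2) (fun d hd => ?_)]
      · exact s.2
      · rw [← hfd d hd, hα, map_eq_one_iff _ α.injective]
    · obtain ⟨d, hd, hdv⟩ := ih hR' v
      obtain ⟨e, he, he1, her⟩ : v r * (d r)⁻¹ ∈ B := hb ▸ Subgroup.mem_top _
      refine ⟨e * d, D.mul_mem he hd, fun i hi => ?_⟩
      rcases Finset.mem_insert.mp hi with rfl | hi
      · simp [her]
      · simp [he1 i hi, hdv i hi]

end Cfsg.Agent.H33
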