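import Mathlib
import Cfsg.Prelude.Def_ClassicalGeometry

/-!
# The stabiliser in `GL_n` of a coordinate subspace (maximal parabolic subgroup)

Membership as a vanishing lower left block, its order, maximality, duality, invariant subspaces.
-/

set_option autoImplicit false
set_option linter.unusedSectionVars false

namespace Cfsg.Agent.H33

open Matrix

variable {F : Type*} [Field F] {n : ℕ}

/-- The span of the first `k` coordinate vectors. -/
def coordSub (F : Type*) [Field F] (n k : ℕ) : Submodule F (Fin n → F) where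
  carrier := {v | ∀ i : Fin n, k ≤ (i : ℕ) → v i = 0}
  add_mem' {a b} ha hb i hi := by simp [ha i hi, hb i hi]
  zero_mem' i _ := rfl
  smul_mem' c a ha i hi := by simp [ha i hi]

/-- The stabiliser of the first `k` coordinates. -/
abbrev coordStab (F : Type*) [Field F] (n k : ℕ) : Subgroup (GL (Fin n) F) :=
  Cfsg.stabilizing (Cfsg.glToMat (Fin n) F) {v : Fin n → F | ∀ i : Fin n, k ≤ (i : ℕ) → v i = 0}

theorem mem_coordSub {k : ℕ} {v : Fin n → F} :
    v ∈ coordSub F n k ↔ ∀ i : Fin n, k ≤ (i : ℕ) → v i = 0 := Iff.rfl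

theorem finrank_coordSub {k : ℕ} (hk : k ≤ n) : Module.finrank F (coordSub F n k) = k := by
  let e : coordSub F n k ≃ₗ[F] (Fin k → F) :=
    { toFun := fun v j => (v : Fin n → F) (j.castLE hk)
      map_add' := fun _ _ => rfl
      map_smul' := fun _ _ => rfl
      invFun := fun x => ⟨fun i => if h : (i : ℕ) < k then x ⟨i, h⟩ else 0,
        fun i hi => dif_neg (not_lt.2 hi)⟩
      left_inv := fun v => Subtype.ext (funext fun i => by
        by_cases h : (i : ℕ) < k
        · simp [h]
        · simpa [h] using (v.2 i (not_lt.1 h)).symm)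
      right_inv := fun x => funext fun j => by simp }
  rw [e.finrank_eq, Module.finrank_fin_fun]

theorem single_mem_coordSub {k : ℕ} {j : Fin n} (hj : (j : ℕ) < k) :
    (Pi.single j (1 : F) : Fin n → F) ∈ coordSub F n k := by
  intro i hi
  exact Pi.single_eq_of_ne (fun h => by subst h; omega) 1

theorem mem_coordStab_iff {k : ℕ} {g : GL (Fin n) F} :
    g ∈ coordStab F n k ↔ ∀ i j : Fin n, k ≤ (i : ℕ) → (j : ℕ) < k →
      (g : Matrix (Fin n) (Fin n) F) i j = 0 := by
  constructor
  · intro h i j hi hj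
    have h1 := (h (Pi.single j 1)).1 (single_mem_coordSub hj) i hi
    change ((g : Matrix (Fin n) (Fin n) F) *ᵥ Pi.single j 1) i = 0 at h1
    simpa using h1
  · intro h
    let L := Matrix.mulVecLin (g : Matrix (Fin n) (Fin n) F)
    have hinj : Function.Injective L := Matrix.mulVec_injective_of_isUnit (Units.isUnit g)
    have hmaps : ∀ v ∈ coordSub F n k, L v ∈ coordSub F n k := by
      intro v hv i hi
      simp only [L, Matrix.mulVecLin_apply, Matrix.mulVec, dotProduct]
      refine Finset.sum_eq_zero fun j _ => ?_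
      by_cases hj : (j : ℕ) < k
      · rw [h i j hi hj, zero_mul]
      · rw [hv j (not_lt.1 hj), mul_zero]
    have heq : (coordSub F n k).map L = coordSub F n k := by
      refine Submodule.eq_of_le_of_finrank_eq (Submodule.map_le_iff_le_comap.2 hmaps) ?_
      exact (Submodule.equivMapOfInjective L hinj (coordSub F n k)).finrank_eq.symm
    intro v
    refine ⟨hmaps v, fun hv => ?_⟩
    have hv' : L v ∈ (coordSub F n k).map L := heq.symm ▸ hv
    obtain ⟨w, hw, hwv⟩ := hv'
    rw [← hinj hwv]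
    exact hw

/-- Transvection as an element of `GL`. -/
def trGL (i j : Fin n) (h : i ≠ j) (c : F) : GL (Fin n) F :=
  ⟨Matrix.transvection i j c, Matrix.transvection i j (-c),
    by rw [Matrix.transvection_mul_transvection_same _ _ h, add_neg_cancel, Matrix.transvection_zero],
    by rw [Matrix.transvection_mul_transvection_same _ _ h, neg_add_cancel, Matrix.transvection_zero]⟩

@[simp] theorem coe_trGL (i j : Fin n) (h : i ≠ j) (c : F) :
    (trGL i j h c : Matrix (Fin n) (Fin n) F) = Matrix.transvection i j c := rfl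

theorem transvection_apply_of_ne {i j a b : Fin n} {c : F} (hab : a ≠ b) :
    Matrix.transvection i j c a b = if a = i ∧ b = j then c else 0 := by
  rw [Matrix.transvection, Matrix.add_apply, Matrix.one_apply_ne hab, zero_add, Matrix.single_apply]
  exact if_congr ⟨fun h => ⟨h.1.symm, h.2.symm⟩, fun h => ⟨h.1.symm, h.2.symm⟩⟩ rfl rfl

theorem trGL_mem_coordStab {k : ℕ} {i j : Fin n} (h : i ≠ j) (c : F)
    (hij : ¬ (k ≤ (i : ℕ) ∧ (j : ℕ) < k)) : trGL i j h c ∈ coordStab F n k := by
  rw [mem_coordStab_iff]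
  intro a b ha hb
  rw [coe_trGL, transvection_apply_of_ne (fun hab => by subst hab; omega), if_neg]
  rintro ⟨rfl, rfl⟩
  exact hij ⟨ha, hb⟩

theorem trGL_not_mem_coordStab {k : ℕ} {i j : Fin n} (h : i ≠ j) (hi : k ≤ (i : ℕ)) (hj : (j : ℕ) < k) :
    trGL i j h (1 : F) ∉ coordStab F n k := by
  intro hm
  have := mem_coordStab_iff.1 hm i j hi hj
  rw [coe_trGL, transvection_apply_of_ne h, if_pos ⟨rfl, rfl⟩] at this
  exact one_ne_zero this

theorem trGL_mulVec (i j : Fin n) (h : i ≠ j) (c : F) (v : Fin n → F) :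
    (trGL i j h c : Matrix (Fin n) (Fin n) F) *ᵥ v = v + Pi.single i (c * v j) := by
  rw [coe_trGL, Matrix.transvection, Matrix.add_mulVec, Matrix.one_mulVec]
  congr 1
  funext a
  by_cases ha : a = i
  · subst ha; simp [Matrix.mulVec, dotProduct, Matrix.single_apply]
  · simp [Matrix.mulVec, dotProduct, Matrix.single_apply, ha, Ne.symm ha]

/-- The only subspaces invariant under the stabiliser of `coordSub k` are `⊥`, `coordSub k`, `⊤`. -/
theorem invariant_subspace {k : ℕ} {U : Submodule F (Fin n → F)}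
    (hU : ∀ g ∈ coordStab F n k, ∀ u ∈ U, (g : Matrix (Fin n) (Fin n) F) *ᵥ u ∈ U) :
    U = ⊥ ∨ U = coordSub F n k ∨ U = ⊤ := by
  have step : ∀ u ∈ U, ∀ i j : Fin n, j ≠ i → ¬ (k ≤ (j : ℕ) ∧ (i : ℕ) < k) → u i ≠ 0 →
      (Pi.single j (1 : F) : Fin n → F) ∈ U := by
    intro u hu i j hji hok hui
    have h1 := hU _ (trGL_mem_coordStab hji (u i)⁻¹ hok) u hu
    rw [trGL_mulVec, inv_mul_cancel₀ hui] at h1
    exact (U.add_mem_iff_right hu).1 h1
  have split : ∀ u : Fin n → F, ∀ i : Fin n,
      u = u i • Pi.single i 1 + ∑ j ∈ Finset.univ.erase i, u j • (Pi.single j 1 : Fin n → F) := by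
    intro u i
    rw [Finset.add_sum_erase Finset.univ (fun j => u j • (Pi.single j 1 : Fin n → F)) (Finset.mem_univ i)]
    exact pi_eq_sum_univ' u
  by_cases hle : U ≤ coordSub F n k
  · by_cases hbot : U = ⊥
    · exact Or.inl hbot
    refine Or.inr (Or.inl (le_antisymm hle ?_))
    obtain ⟨u, hu, hu0⟩ := U.exists_mem_ne_zero_of_ne_bot hbot
    obtain ⟨i, hi⟩ : ∃ i, u i ≠ 0 := Function.ne_iff.1 hu0
    have hik : (i : ℕ) < k := not_le.1 fun h => hi (hle hu i h)
    have hothers : ∀ j : Fin n, j ≠ i → (j : ℕ) < k → (Pi.single j (1 : F) : Fin n → F) ∈ U :=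
      fun j hji hj => step u hu i j hji (by omega) hi
    have hsum : ∀ w ∈ coordSub F n k,
        ∑ j ∈ Finset.univ.erase i, w j • (Pi.single j 1 : Fin n → F) ∈ U := by
      intro w hw
      refine U.sum_mem fun j hj => ?_
      by_cases hjk : (j : ℕ) < k
      · exact U.smul_mem _ (hothers j (Finset.ne_of_mem_erase hj) hjk)
      · rw [hw j (not_lt.1 hjk), zero_smul]; exact U.zero_mem
    have hei : (Pi.single i (1 : F) : Fin n → F) ∈ U := by
      have h2 := hu
      rw [split u i] at h2
      exact (U.smul_mem_iff hi).1 ((U.add_mem_iff_left (hsum u (hle hu))).1 h2)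
    intro w hw
    rw [split w i]
    exact U.add_mem (U.smul_mem _ hei) (hsum w hw)
  · refine Or.inr (Or.inr ?_)
    obtain ⟨u, hu, hu'⟩ := SetLike.not_le_iff_exists.1 hle
    rw [mem_coordSub] at hu'
    push Not at hu'
    obtain ⟨i, hik, hi⟩ := hu'
    have hothers : ∀ j : Fin n, j ≠ i → (Pi.single j (1 : F) : Fin n → F) ∈ U :=
      fun j hji => step u hu i j hji (by omega) hi
    have hsum : ∀ w : Fin n → F,
        ∑ j ∈ Finset.univ.erase i, w j • (Pi.single j 1 : Fin n → F) ∈ U := fun w =>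
      U.sum_mem fun j hj => U.smul_mem _ (hothers j (Finset.ne_of_mem_erase hj))
    have hei : (Pi.single i (1 : F) : Fin n → F) ∈ U := by
      have h2 := hu
      rw [split u i] at h2
      exact (U.smul_mem_iff hi).1 ((U.add_mem_iff_left (hsum u)).1 h2)
    rw [eq_top_iff]
    intro w _
    rw [split w i]
    exact U.add_mem (U.smul_mem _ hei) (hsum w)

/-- The order of the stabiliser. -/
theorem card_coordStab [Fintype F] {q : ℕ} (hF : Fintype.card F = q) (k r : ℕ) :
    Nat.card (coordStab F (k + r) k) =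
      q ^ (k * r) * (∏ i : Fin k, (q ^ k - q ^ (i : ℕ))) * ∏ i : Fin r, (q ^ r - q ^ (i : ℕ)) := by
  let e : Fin k ⊕ Fin r ≃ Fin (k + r) := finSumFinEquiv
  let R := Matrix.reindexAlgEquiv F F e
  have hlo : ∀ g : coordStab F (k + r) k,
      (R.symm ((g : GL (Fin (k + r)) F) : Matrix (Fin (k + r)) (Fin (k + r)) F)).toBlocks₂₁ = 0 := by
    intro g
    ext i j
    exact mem_coordStab_iff.1 g.2 (e (Sum.inr i)) (e (Sum.inl j)) (by simp [e]) (by simp [e])
  have hblk : ∀ g : coordStab F (k + r) k,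
      IsUnit (R.symm ((g : GL (Fin (k + r)) F) : Matrix (Fin (k + r)) (Fin (k + r)) F)).toBlocks₁₁ ∧
      IsUnit (R.symm ((g : GL (Fin (k + r)) F) : Matrix (Fin (k + r)) (Fin (k + r)) F)).toBlocks₂₂ := by
    intro g
    have hu := (Units.isUnit (g : GL (Fin (k + r)) F)).map R.symm
    rw [← Matrix.fromBlocks_toBlocks (R.symm _), hlo g, Matrix.isUnit_fromBlocks_zero₂₁] at hu
    exact hu
  have hun : ∀ p : GL (Fin k) F × Matrix (Fin k) (Fin r) F × GL (Fin r) F,
      IsUnit (R (Matrix.fromBlocks (p.1 : Matrix (Fin k) (Fin k) F) p.2.1 0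
        (p.2.2 : Matrix (Fin r) (Fin r) F))) := fun p =>
    (Matrix.isUnit_fromBlocks_zero₂₁.2 ⟨Units.isUnit _, Units.isUnit _⟩).map R
  have hmem : ∀ p, (hun p).unit ∈ coordStab F (k + r) k := by
    intro p
    rw [mem_coordStab_iff]
    intro i j hi hj
    rw [IsUnit.unit_spec]
    obtain ⟨i', rfl⟩ := e.surjective i
    obtain ⟨j', rfl⟩ := e.surjective j
    rcases i' with i' | i'
    · have := i'.isLt
      simp [e] at hi
      omega
    rcases j' with j' | j'
    · simp [R]
    · simp [e] at hj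
  let E : coordStab F (k + r) k ≃ GL (Fin k) F × Matrix (Fin k) (Fin r) F × GL (Fin r) F :=
    { toFun := fun g => ((hblk g).1.unit,
        (R.symm ((g : GL (Fin (k + r)) F) : Matrix (Fin (k + r)) (Fin (k + r)) F)).toBlocks₁₂,
        (hblk g).2.unit)
      invFun := fun p => ⟨(hun p).unit, hmem p⟩
      left_inv := fun g => by
        apply Subtype.ext
        apply Units.ext
        simp only [IsUnit.unit_spec]
        rw [← hlo g, Matrix.fromBlocks_toBlocks, AlgEquiv.apply_symm_apply]
      right_inv := fun p => by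
        refine Prod.ext ?_ (Prod.ext ?_ ?_)
        · apply Units.ext
          simp
        · simp
        · apply Units.ext
          simp }
  rw [Nat.card_congr E, Nat.card_prod, Nat.card_prod, Matrix.card_GL_field, Matrix.card_GL_field, hF,
    Nat.card_eq_fintype_card (α := Matrix (Fin k) (Fin r) F)]
  have : Fintype.card (Matrix (Fin k) (Fin r) F) = q ^ (k * r) := by
    rw [← Nat.card_eq_fintype_card, show Nat.card (Matrix (Fin k) (Fin r) F) = Nat.card (Fin k → Fin r → F) from rfl,
      Nat.card_fun, Nat.card_fun, Nat.card_eq_fintype_card (α := F), hF, Nat.card_fin, Nat.card_fin, ← pow_mul,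
      mul_comm]
  rw [this]
  ring

/-- `g ↦` reversed inverse transpose. -/
def dual (F : Type*) [Field F] (n : ℕ) : GL (Fin n) F ≃* GL (Fin n) F where
  toFun g := ⟨((↑g⁻¹ : Matrix (Fin n) (Fin n) F)ᵀ).submatrix Fin.rev Fin.rev,
    ((↑g : Matrix (Fin n) (Fin n) F)ᵀ).submatrix Fin.rev Fin.rev,
    by rw [← Matrix.submatrix_mul _ _ _ _ _ Fin.rev_bijective, ← Matrix.transpose_mul, Units.mul_inv,
      Matrix.transpose_one, Matrix.submatrix_one _ Fin.rev_injective],
    by rw [← Matrix.submatrix_mul _ _ _ _ _ Fin.rev_bijective, ← Matrix.transpose_mul, Units.inv_mul,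
      Matrix.transpose_one, Matrix.submatrix_one _ Fin.rev_injective]⟩
  invFun g := ⟨((↑g⁻¹ : Matrix (Fin n) (Fin n) F)ᵀ).submatrix Fin.rev Fin.rev,
    ((↑g : Matrix (Fin n) (Fin n) F)ᵀ).submatrix Fin.rev Fin.rev,
    by rw [← Matrix.submatrix_mul _ _ _ _ _ Fin.rev_bijective, ← Matrix.transpose_mul, Units.mul_inv,
      Matrix.transpose_one, Matrix.submatrix_one _ Fin.rev_injective],
    by rw [← Matrix.submatrix_mul _ _ _ _ _ Fin.rev_bijective, ← Matrix.transpose_mul, Units.inv_mul,
      Matrix.transpose_one, Matrix.submatrix_one _ Fin.rev_injective]⟩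
  left_inv g := Units.ext (by
    ext a b
    simp [Fin.rev_rev])
  right_inv g := Units.ext (by
    ext a b
    simp [Fin.rev_rev])
  map_mul' g h := Units.ext (by
    show (((g * h)⁻¹ : GL (Fin n) F) : Matrix (Fin n) (Fin n) F)ᵀ.submatrix Fin.rev Fin.rev = _
    rw [_root_.mul_inv_rev, Units.val_mul, Matrix.transpose_mul, Matrix.submatrix_mul _ _ _ _ _ Fin.rev_bijective]
    rfl)

theorem dual_mem {k : ℕ} {g : GL (Fin n) F} (hg : g ∈ coordStab F n k) (hk : k ≤ n) :
    dual F n g ∈ coordStab F n (n - k) := by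
  rw [mem_coordStab_iff]
  intro i j hi hj
  exact mem_coordStab_iff.1 (inv_mem hg) (Fin.rev j) (Fin.rev i)
    (by rw [Fin.val_rev]; have := j.isLt; omega) (by rw [Fin.val_rev]; have := i.isLt; omega)

theorem map_dual {k : ℕ} (hk : k ≤ n) :
    (coordStab F n k).map (dual F n).toMonoidHom = coordStab F n (n - k) := by
  apply le_antisymm
  · rintro _ ⟨g, hg, rfl⟩
    exact dual_mem hg hk
  · intro g hg
    refine ⟨(dual F n).symm g, ?_, (dual F n).apply_symm_apply g⟩
    have := dual_mem hg (Nat.sub_le n k)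
    rw [show n - (n - k) = k by omega] at this
    exact this

/-- `1 + eᵢ ψ`, row `i` operation. -/
def rowTr (i : Fin n) (ψ : Fin n → F) : Matrix (Fin n) (Fin n) F :=
  1 + Matrix.vecMulVec (Pi.single i 1) ψ

theorem rowTr_zero (i : Fin n) : rowTr i (0 : Fin n → F) = 1 := by
  simp [rowTr]

theorem rowTr_mul (i : Fin n) (a b : Fin n → F) (ha : a i = 0) :
    rowTr i a * rowTr i b = rowTr i (a + b) := by
  simp only [rowTr, Matrix.add_mul, Matrix.mul_add, Matrix.one_mul, Matrix.mul_one,
    Matrix.vecMulVec_mul_vecMulVec, Matrix.vecMulVec_add, dotProduct_single, ha, zero_mul, zero_smul,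
    Matrix.vecMulVec_zero, add_zero]
  abel

theorem rowTr_single (i j : Fin n) (c : F) : rowTr i (Pi.single j c) = Matrix.transvection i j c := by
  ext a b
  simp only [rowTr, Matrix.transvection, Matrix.add_apply, Matrix.vecMulVec_apply, Matrix.single_apply,
    Pi.single_apply]
  by_cases ha : a = i <;> by_cases hb : b = j <;> simp [ha, hb, @eq_comm _ i a, @eq_comm _ j b]

/-- A subgroup properly containing the stabiliser of a coordinate subspace contains a transvection
outside it. -/
theorem exists_low_mem {k : ℕ} {H : Subgroup (GL (Fin n) F)} (hle : coordStab F n k ≤ H)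
    {g : GL (Fin n) F} (hgH : g ∈ H) (hg : g ∉ coordStab F n k) :
    ∃ (i j : Fin n) (h : i ≠ j) (c : F), k ≤ (i : ℕ) ∧ (j : ℕ) < k ∧ c ≠ 0 ∧ trGL i j h c ∈ H := by
  have hg' : g⁻¹ ∉ coordStab F n k := fun h => hg (by simpa using inv_mem h)
  rw [mem_coordStab_iff] at hg hg'
  push Not at hg hg'
  obtain ⟨i0, j, hi0, hj, hne⟩ := hg
  obtain ⟨l, m, hl, hm, hne'⟩ := hg'
  have hjl : j ≠ l := fun h => by subst h; omega
  set G : Matrix (Fin n) (Fin n) F := (g : Matrix (Fin n) (Fin n) F) with hG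
  set G' : Matrix (Fin n) (Fin n) F := ((g⁻¹ : GL (Fin n) F) : Matrix (Fin n) (Fin n) F) with hG'
  let v : Fin n → F := G *ᵥ Pi.single j 1
  let ψ : Fin n → F := Pi.single l 1 ᵥ* G'
  have hT : ((g * trGL j l hjl 1 * g⁻¹ : GL (Fin n) F) : Matrix (Fin n) (Fin n) F)
      = 1 + Matrix.vecMulVec v ψ := by
    rw [Units.val_mul, Units.val_mul, coe_trGL, ← rowTr_single, rowTr, Matrix.mul_add, Matrix.add_mul,
      Matrix.mul_one, Matrix.mul_vecMulVec, Matrix.vecMulVec_mul, ← hG, ← hG', hG, hG', Units.mul_inv]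
  have hvi0 : v i0 = G i0 j := by simp [v]
  have hdot : ψ ⬝ᵥ v = 0 := by
    simp only [v, ψ]
    rw [← Matrix.dotProduct_mulVec, Matrix.mulVec_mulVec, hG, hG', Units.inv_mul, Matrix.one_mulVec,
      single_dotProduct, Pi.single_eq_of_ne hjl.symm, mul_zero]
  have hdet : IsUnit ((1 : Matrix (Fin n) (Fin n) F).updateCol i0 v) := by
    rw [Matrix.isUnit_iff_isUnit_det, ← Matrix.cramer_apply, Matrix.cramer_one]
    simpa [hvi0] using hne
  let P : GL (Fin n) F := hdet.unit
  have hPmem : P ∈ coordStab F n k := by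
    rw [mem_coordStab_iff]
    intro a b ha hb
    show ((hdet.unit : GL (Fin n) F) : Matrix (Fin n) (Fin n) F) a b = 0
    rw [IsUnit.unit_spec, Matrix.updateCol_ne (fun h => by subst h; omega),
      Matrix.one_apply_ne (fun h => by subst h; omega)]
  let ψ' : Fin n → F := ψ ᵥ* (P : Matrix (Fin n) (Fin n) F)
  have hPsingle : (P : Matrix (Fin n) (Fin n) F) *ᵥ Pi.single i0 1 = v := by
    funext a
    simp [P]
  have hconj : ((P⁻¹ * (g * trGL j l hjl 1 * g⁻¹) * P : GL (Fin n) F) : Matrix (Fin n) (Fin n) F)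
      = rowTr i0 ψ' := by
    rw [Units.val_mul, Units.val_mul, hT, Matrix.mul_add, Matrix.add_mul, Matrix.mul_one, Units.inv_mul,
      Matrix.mul_vecMulVec, Matrix.vecMulVec_mul]
    conv_lhs => rw [← hPsingle, Matrix.mulVec_mulVec, Units.inv_mul, Matrix.one_mulVec]
    rfl
  have hψ0 : ψ' i0 = 0 := by
    rw [show ψ' i0 = ψ' ⬝ᵥ Pi.single i0 1 by simp]
    simp only [ψ']
    rw [← Matrix.dotProduct_mulVec, hPsingle, hdot]
  have hψm : ψ' m ≠ 0 := by
    have : ψ' m = G' l m := by
      simp only [ψ', P, IsUnit.unit_spec, Matrix.vecMul, dotProduct]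
      rw [Finset.sum_eq_single m]
      · rw [Matrix.updateCol_ne (fun h => by subst h; omega), Matrix.one_apply_eq, mul_one]
        exact congrFun (Matrix.single_one_vecMul _ _) m
      · intro a _ ha
        rw [Matrix.updateCol_ne (fun h => by subst h; omega), Matrix.one_apply_ne ha, mul_zero]
      · simp
    rwa [this]
  let lo : Fin n → F := fun a => if (a : ℕ) < k then ψ' a else 0
  have hlo0 : lo i0 = 0 := if_neg (not_lt.2 hi0)
  have hA : ((P⁻¹ * (g * trGL j l hjl 1 * g⁻¹) * P) : GL (Fin n) F) ∈ H :=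
    H.mul_mem (H.mul_mem (H.inv_mem (hle hPmem))
      (H.mul_mem (H.mul_mem hgH (hle (trGL_mem_coordStab hjl 1 (by omega)))) (H.inv_mem hgH))) (hle hPmem)
  have hupinv : rowTr i0 (lo - ψ') * rowTr i0 (ψ' - lo) = 1 := by
    rw [rowTr_mul _ _ _ (by simp [hlo0, hψ0]), sub_add_sub_cancel, sub_self, rowTr_zero]
  have hupinv' : rowTr i0 (ψ' - lo) * rowTr i0 (lo - ψ') = 1 := by
    rw [rowTr_mul _ _ _ (by simp [hlo0, hψ0]), sub_add_sub_cancel, sub_self, rowTr_zero]
  let U : GL (Fin n) F := ⟨rowTr i0 (lo - ψ'), rowTr i0 (ψ' - lo), hupinv, hupinv'⟩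
  have hUmem : U ∈ coordStab F n k := by
    rw [mem_coordStab_iff]
    intro a b ha hb
    show rowTr i0 (lo - ψ') a b = 0
    simp [rowTr, Matrix.vecMulVec_apply, Matrix.one_apply_ne (show a ≠ b from fun h => by subst h; omega),
      lo, hb]
  let N : GL (Fin n) F := (P⁻¹ * (g * trGL j l hjl 1 * g⁻¹) * P) * U
  have hN : N ∈ H := H.mul_mem hA (hle hUmem)
  have hNval : (N : Matrix (Fin n) (Fin n) F) = rowTr i0 lo := by
    show ((_ * U : GL (Fin n) F) : Matrix (Fin n) (Fin n) F) = _
    rw [Units.val_mul, hconj]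
    show rowTr i0 ψ' * rowTr i0 (lo - ψ') = _
    rw [rowTr_mul _ _ _ hψ0, add_sub_cancel]
  have hlom : lo m = ψ' m := if_pos hm
  by_cases hsingle : ∀ a, a ≠ m → lo a = 0
  · have hi0m : i0 ≠ m := fun h => by subst h; omega
    refine ⟨i0, m, hi0m, ψ' m, hi0, hm, hψm, ?_⟩
    have : lo = Pi.single m (ψ' m) := by
      funext a
      by_cases ha : a = m
      · subst ha; simp [hlom]
      · simp [hsingle a ha, ha]
    rw [this, rowTr_single] at hNval
    rwa [show trGL i0 m hi0m (ψ' m) = N from Units.ext hNval.symm]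
  · push Not at hsingle
    obtain ⟨a, ham, hla⟩ := hsingle
    have hak : (a : ℕ) < k := by
      by_contra h
      exact hla (if_neg h)
    have hi0a : i0 ≠ a := fun h => by subst h; omega
    let p : GL (Fin n) F := trGL m a ham.symm 1
    have hp : p ∈ H := hle (trGL_mem_coordStab _ _ (by omega))
    refine ⟨i0, a, hi0a, ψ' m, hi0, hak, hψm, ?_⟩
    have hkey : (p⁻¹ * N * p : GL (Fin n) F) = trGL i0 a hi0a (ψ' m) * N := by
      rw [mul_assoc, inv_mul_eq_iff_eq_mul]
      apply Units.ext
      simp only [Units.val_mul, coe_trGL, p, hNval, ← rowTr_single]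
      rw [rowTr_mul _ _ _ (Pi.single_eq_of_ne hi0a _)]
      simp only [rowTr, Matrix.mul_add, Matrix.add_mul, Matrix.one_mul, Matrix.mul_one,
        Matrix.vecMulVec_mul_vecMulVec, Matrix.vecMulVec_add, dotProduct_single, mul_one, hlom,
        Pi.single_eq_of_ne (show i0 ≠ a from hi0a), zero_smul, smul_eq_mul]
      have hz : (Pi.single a (1 : F) : Fin n → F) i0 = 0 := Pi.single_eq_of_ne hi0a _
      simp only [hz, hlo0, Matrix.vecMulVec_smul, Matrix.smul_vecMulVec, zero_smul, Matrix.vecMulVec_zero,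
        zero_add, add_zero, ← Pi.single_smul, smul_eq_mul, mul_one]
      abel
    have : trGL i0 a hi0a (ψ' m) = (p⁻¹ * N * p) * N⁻¹ := by rw [hkey, mul_inv_cancel_right]
    rw [this]
    exact H.mul_mem (H.mul_mem (H.mul_mem (H.inv_mem hp) hN) hp) (H.inv_mem hN)

theorem diag_mem_coordStab {k : ℕ} {g : GL (Fin n) F} {d : Fin n → F}
    (h : (g : Matrix (Fin n) (Fin n) F) = Matrix.diagonal d) : g ∈ coordStab F n k := by
  rw [mem_coordStab_iff]
  intro i j hi hj
  rw [h, Matrix.diagonal_apply_ne _ (fun e => by subst e; omega)]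

/-- Maximal parabolic subgroups are maximal. -/
theorem isCoatom_coordStab {k : ℕ} (hk0 : 0 < k) (hkn : k < n) : IsCoatom (coordStab F n k) := by
  have hne : (⟨k, hkn⟩ : Fin n) ≠ ⟨0, by omega⟩ := fun h => by simp [Fin.ext_iff] at h; omega
  refine ⟨fun h => trGL_not_mem_coordStab hne le_rfl hk0 (h ▸ Subgroup.mem_top _), fun H hH => ?_⟩
  obtain ⟨hle, hnot⟩ := SetLike.lt_iff_le_and_exists.1 hH
  obtain ⟨g, hgH, hg⟩ := hnot
  obtain ⟨i0, j0, hij0, c, hi0, hj0, hc, hmem⟩ := exists_low_mem hle hgH hg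
  -- all scalars
  have hscal : ∀ t : F, trGL i0 j0 hij0 t ∈ H := by
    intro t
    by_cases ht : t = 0
    · have : trGL i0 j0 hij0 t = 1 := Units.ext (by simp [ht])
      rw [this]; exact H.one_mem
    let d : Fin n → F := Function.update 1 i0 (t / c)
    let d' : Fin n → F := Function.update 1 i0 (c / t)
    have hdd : ∀ a, d a * d' a = 1 := by
      intro a
      by_cases ha : a = i0
      · subst ha; simp [d, d']; field_simp
      · simp [d, d', ha]
    let D : GL (Fin n) F := ⟨Matrix.diagonal d, Matrix.diagonal d',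
      by rw [Matrix.diagonal_mul_diagonal]; simp [hdd],
      by rw [Matrix.diagonal_mul_diagonal]; simp [mul_comm (d' _), hdd]⟩
    have hD : D ∈ H := hle (diag_mem_coordStab rfl)
    have : trGL i0 j0 hij0 t = D * trGL i0 j0 hij0 c * D⁻¹ := by
      apply Units.ext
      ext a b
      show Matrix.transvection i0 j0 t a b =
        (Matrix.diagonal d * Matrix.transvection i0 j0 c * Matrix.diagonal d') a b
      rw [Matrix.mul_diagonal, Matrix.diagonal_mul]
      by_cases hab : a = b
      · subst hab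
        simp only [Matrix.transvection, Matrix.add_apply, Matrix.one_apply_eq, Matrix.single_apply]
        rw [if_neg (fun h => hij0 (h.1.trans h.2.symm)), if_neg (fun h => hij0 (h.1.trans h.2.symm))]
        simpa using (hdd a).symm
      · rw [transvection_apply_of_ne hab, transvection_apply_of_ne hab]
        split_ifs with h
        · obtain ⟨rfl, rfl⟩ := h
          simp [d, d', hij0.symm]
          field_simp
        · simp
    rw [this]
    exact H.mul_mem (H.mul_mem hD hmem) (H.inv_mem hD)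
  have hcol : ∀ (i : Fin n) (h : i ≠ j0) (t : F), k ≤ (i : ℕ) → trGL i j0 h t ∈ H := by
    intro i h t hi
    by_cases hii : i = i0
    · subst hii; exact hscal t
    let p : GL (Fin n) F := trGL i i0 hii 1
    have hp : p ∈ H := hle (trGL_mem_coordStab _ _ (by omega))
    have key : p * trGL i0 j0 hij0 t = trGL i j0 h t * trGL i0 j0 hij0 t * p := by
      apply Units.ext
      simp [p, Matrix.transvection, Matrix.mul_add, Matrix.add_mul, hij0.symm, h.symm, Ne.symm hii]
      abel
    have : trGL i j0 h t = p * trGL i0 j0 hij0 t * p⁻¹ * (trGL i0 j0 hij0 t)⁻¹ := by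
      rw [key]; simp [mul_assoc]
    rw [this]
    exact H.mul_mem (H.mul_mem (H.mul_mem hp (hscal t)) (H.inv_mem hp)) (H.inv_mem (hscal t))
  have hall : ∀ (i j : Fin n) (h : i ≠ j) (t : F), trGL i j h t ∈ H := by
    intro i j h t
    by_cases hup : k ≤ (i : ℕ) ∧ (j : ℕ) < k
    · obtain ⟨hi, hj⟩ := hup
      have hij : i ≠ j0 := fun e => by subst e; omega
      by_cases hjj : j = j0
      · subst hjj; exact hcol i _ t hi
      let p : GL (Fin n) F := trGL j0 j (Ne.symm hjj) 1
      have hp : p ∈ H := hle (trGL_mem_coordStab _ _ (by omega))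
      have key : trGL i j0 hij t * p = p * trGL i j0 hij t * trGL i j h t := by
        apply Units.ext
        simp [p, Matrix.transvection, Matrix.mul_add, Matrix.add_mul, hij.symm, h.symm, hjj]
        abel
      have : trGL i j h t = (trGL i j0 hij t)⁻¹ * p⁻¹ * (trGL i j0 hij t * p) := by
        rw [key]; simp [mul_assoc]
      rw [this]
      exact H.mul_mem (H.mul_mem (H.inv_mem (hcol i hij t hi)) (H.inv_mem hp))
        (H.mul_mem (hcol i hij t hi) hp)
    · exact hle (trGL_mem_coordStab h t hup)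
  rw [eq_top_iff]
  intro x _
  suffices hs : ∀ M : Matrix (Fin n) (Fin n) F, M.det ≠ 0 →
      ∀ y : GL (Fin n) F, (y : Matrix (Fin n) (Fin n) F) = M → y ∈ H from
    hs _ (Matrix.GeneralLinearGroup.det_ne_zero x) x rfl
  intro M hM
  refine Matrix.diagonal_transvection_induction_of_det_ne_zero
    (fun M => ∀ y : GL (Fin n) F, (y : Matrix (Fin n) (Fin n) F) = M → y ∈ H) M hM
    (fun D _ y hy => hle (diag_mem_coordStab hy)) (fun t y hy => ?_) (fun A B hA hB ihA ihB y hy => ?_)
  · have : y = trGL t.i t.j t.hij t.c := Units.ext hy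
    rw [this]; exact hall _ _ _ _
  · let a : GL (Fin n) F := Matrix.GeneralLinearGroup.mkOfDetNeZero A hA
    let b : GL (Fin n) F := Matrix.GeneralLinearGroup.mkOfDetNeZero B hB
    have : y = a * b := Units.ext hy
    rw [this]
    exact H.mul_mem (ihA a rfl) (ihB b rfl)

end Cfsg.Agent.H33
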