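import Mathlib
import Cfsg.Agent.H33.GroupRingPrime

/-!
Wielandt's theorem on primitive groups of degree twice a prime, by an elementary argument in the
group ring of a semiregular element of order `p`.
-/

set_option autoImplicit false
set_option linter.unusedSectionVars false

namespace Cfsg.Agent.H33.TwiceP

open Cfsg.Agent.H33 MulAction

/-- The final counting. -/
theorem combinatorics {ι Y : Type*} [Fintype ι] [Fintype Y] (θ k : ι → ℚ) (h : ι → Y → ℚ)
    (hint : ∀ i, ∃ z : ℤ, θ i = z) (hval : ∀ i y, h i y = 0 ∨ h i y = 1 ∨ h i y = 2)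
    (hsum : ∀ y, ∑ i, h i y = 2) (hk : ∀ i, 2 ≤ k i) (hkH : ∀ i, k i = (∑ y, h i y) - θ i)
    (hA : ∀ i, 2 * k i = 2 * θ i * θ i + ∑ y, h i y * h i y)
    (hB : ∀ i j, i ≠ j → 2 * θ i * θ j + ∑ y, h i y * h j y = 0)
    (hθ : ∑ i, θ i = -1) (hD : ∀ y, ∑ i, θ i / k i * h i y = 0)
    (heven : (∃ i, θ i = 0) → ∀ i y, h i y ≠ 1) :
    Fintype.card ι = 2 ∧ ∃ a : ℕ, 0 < a ∧ Fintype.card Y = 2 * a ^ 2 + 2 * a ∧
      ∀ i, k i = (a * (2 * a + 1) : ℕ) ∨ k i = ((a + 1) * (2 * a + 1) : ℕ) := by
  classical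
  have hnn : ∀ i y, 0 ≤ h i y := fun i y => by rcases hval i y with e | e | e <;> rw [e] <;> norm_num
  have hH : ∀ i, ¬ ∀ y, h i y = 0 := by
    intro i h0
    have h1 := hkH i
    have h2 := hA i
    simp only [h0, mul_zero, Finset.sum_const_zero, add_zero, zero_sub] at h1 h2
    have h3 : k i * (k i - 1) = 0 := by
      have : θ i = -k i := by linear_combination h1
      rw [this] at h2; linear_combination -(1 / 2 : ℚ) * h2
    rcases mul_eq_zero.1 h3 with e | e
    · have := hk i; linarith
    · have := hk i; linarith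
  by_cases hz : ∃ i, θ i = 0
  · exfalso
    have hsq : ∀ i, θ i ≤ 0 := by
      intro i
      have h2 := hA i
      have e : ∀ y, h i y * h i y = 2 * h i y := fun y => by
        rcases hval i y with e | e | e
        · rw [e]; ring
        · exact absurd e (heven hz i y)
        · rw [e]
      rw [Finset.sum_congr rfl (fun y _ => e y), ← Finset.mul_sum, hkH i] at h2
      by_contra hpos
      push Not at hpos
      nlinarith
    obtain ⟨i, hi⟩ : ∃ i, θ i ≠ 0 := by
      by_contra hall
      push Not at hall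
      rw [Finset.sum_eq_zero (fun i _ => hall i)] at hθ
      norm_num at hθ
    refine hH i fun y => ?_
    have hle : ∀ j, θ j / k j * h j y ≤ 0 := fun j =>
      mul_nonpos_of_nonpos_of_nonneg (div_nonpos_of_nonpos_of_nonneg (hsq j) (by linarith [hk j])) (hnn j y)
    have := (Finset.sum_eq_zero_iff_of_nonpos (fun j _ => hle j)).1 (hD y) i (Finset.mem_univ i)
    exact (mul_eq_zero.1 this).resolve_left (div_ne_zero hi (by linarith [hk i]))
  push Not at hz
  have hopp : ∀ i j, i ≠ j → θ i * θ j < 0 := by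
    intro i j hij
    have h0 : 0 ≤ ∑ y, h i y * h j y := Finset.sum_nonneg fun y _ => mul_nonneg (hnn i y) (hnn j y)
    have := mul_ne_zero (hz i) (hz j)
    rcases lt_or_gt_of_ne this with e | e
    · exact e
    · nlinarith [hB i j hij]
  obtain ⟨i, hi⟩ : ∃ i, θ i < 0 := by
    by_contra hall
    push Not at hall
    have := Finset.sum_nonneg (fun i (_ : i ∈ Finset.univ) => hall i)
    linarith
  obtain ⟨j, hji⟩ : ∃ j, j ≠ i := by
    by_contra hall
    push Not at hall
    refine hH i fun y => ?_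
    have := hD y
    rw [Fintype.sum_eq_single i (fun j hj => absurd (hall j) hj)] at this
    exact (mul_eq_zero.1 this).resolve_left (div_ne_zero (hz i) (by linarith [hk i]))
  have hj : 0 < θ j := by
    by_contra hh; push Not at hh; nlinarith [hopp j i hji]
  have hall : ∀ l, l = i ∨ l = j := by
    intro l
    by_contra hl
    push Not at hl
    have h1 := hopp l i hl.1
    have h2 := hopp l j hl.2
    nlinarith
  have huniv : (Finset.univ : Finset ι) = {i, j} := by
    ext l; simpa using hall l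
  have hcard : Fintype.card ι = 2 := by
    rw [← Finset.card_univ, huniv, Finset.card_pair hji.symm]
  rw [huniv, Finset.sum_pair hji.symm] at hθ
  have hone : ∀ y, h i y = 1 ∧ h j y = 1 := by
    intro y
    have h1 := hsum y
    have h2 := hD y
    rw [huniv, Finset.sum_pair hji.symm] at h1 h2
    rcases hval j y with e | e | e
    · rw [e, add_zero] at h1
      rw [e, h1, mul_zero, add_zero] at h2
      have : θ i / k i ≠ 0 := div_ne_zero (hz i) (by linarith [hk i])
      exact absurd h2 (mul_ne_zero this two_ne_zero)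
    · exact ⟨by linarith, e⟩
    · have e' : h i y = 0 := by linarith
      rw [e, e', mul_zero, zero_add] at h2
      have : θ j / k j ≠ 0 := div_ne_zero (hz j) (by linarith [hk j])
      exact absurd h2 (mul_ne_zero this two_ne_zero)
  obtain ⟨z, hzj⟩ := hint j
  have hzpos : 0 < z := by rw [hzj] at hj; exact_mod_cast hj
  obtain ⟨a, rfl⟩ := Int.eq_ofNat_of_zero_le hzpos.le
  have hja : θ j = (a : ℚ) := by rw [hzj]; simp
  have hsi : (∑ y, h i y) = Fintype.card Y := by simp [hone]
  have hsj : (∑ y, h j y) = Fintype.card Y := by simp [hone]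
  have hqj : (∑ y, h j y * h j y) = Fintype.card Y := by simp [hone]
  have hA' := hA j
  rw [hqj, hkH j, hsj, hja] at hA'
  have hY : (Fintype.card Y : ℚ) = 2 * (a : ℚ) ^ 2 + 2 * a := by linear_combination hA'
  refine ⟨hcard, a, by exact_mod_cast hzpos, by exact_mod_cast hY, fun l => ?_⟩
  rcases hall l with rfl | rfl
  · right
    rw [hkH l, hsi, hY]
    push_cast
    linear_combination (-1 : ℚ) * hθ + hja
  · left
    rw [hkH l, hsj, hY, hja]
    push_cast
    ring

variable {G α : Type*} [Group G] [MulAction G α] [Fintype α] [DecidableEq α]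

/-- Invariant matrices. -/
def Inv (G : Type*) [Group G] [MulAction G α] (M : Matrix α α ℚ) : Prop :=
  ∀ (h : G) x y, M (h • x) (h • y) = M x y

theorem Inv.row_sum [IsPretransitive G α] {M : Matrix α α ℚ} (hM : Inv G M) (x a : α) :
    ∑ y, M x y = ∑ y, M a y := by
  obtain ⟨h, rfl⟩ := exists_smul_eq G a x
  rw [← Equiv.sum_comp (MulAction.toPerm h)]
  exact Finset.sum_congr rfl fun y _ => hM h a y

theorem Inv.col_sum [IsPretransitive G α] {M : Matrix α α ℚ} (hM : Inv G M) (x a : α) :
    ∑ y, M y x = ∑ y, M a y := by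
  have h1 : ∀ z, ∑ y, M y z = ∑ y, M y x := fun z => by
    obtain ⟨h, rfl⟩ := exists_smul_eq G x z
    rw [← Equiv.sum_comp (MulAction.toPerm h)]
    exact Finset.sum_congr rfl fun y _ => hM h y x
  have h2 : ∑ z, ∑ y, M y z = ∑ z, ∑ y, M z y := Finset.sum_comm
  rw [Finset.sum_congr rfl (fun z _ => h1 z), Finset.sum_congr rfl (fun z _ => hM.row_sum z a),
    Finset.sum_const, Finset.sum_const, nsmul_eq_mul, nsmul_eq_mul] at h2
  exact mul_left_cancel₀ (Nat.cast_ne_zero.2 (Finset.card_pos.2 ⟨a, Finset.mem_univ a⟩).ne') h2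

theorem Inv.one : Inv G (1 : Matrix α α ℚ) := fun h x y => by
  simp [Matrix.one_apply]

theorem Inv.smul {M : Matrix α α ℚ} (hM : Inv G M) (c : ℚ) : Inv G (c • M) := fun h x y => by
  simp [hM h x y]

theorem Inv.transpose {M : Matrix α α ℚ} (hM : Inv G M) : Inv G M.transpose := fun h x y => hM h y x

theorem sym_idem_eq_zero {F : Matrix α α ℚ} (hs : ∀ x y, F x y = F y x) (hi : F * F = F)
    (ht : ∑ x, F x x = 0) : F = 0 := by
  have h1 : ∀ x, F x x = ∑ y, F x y * F x y := fun x => by
    conv_lhs => rw [← hi]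
    rw [Matrix.mul_apply]
    exact Finset.sum_congr rfl fun y _ => by rw [hs y x]
  rw [Finset.sum_congr rfl (fun x _ => h1 x)] at ht
  ext x y
  have h2 := (Finset.sum_eq_zero_iff_of_nonneg (fun x _ => Finset.sum_nonneg fun y _ =>
    mul_self_nonneg (F x y))).1 ht x (Finset.mem_univ x)
  have h3 := (Finset.sum_eq_zero_iff_of_nonneg (fun y _ => mul_self_nonneg (F x y))).1 h2 y (Finset.mem_univ y)
  exact mul_self_eq_zero.1 h3

/-- Coordinates adapted to a semiregular element of order `p` with two cycles. -/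
structure Coord (G α : Type*) [Group G] [MulAction G α] (p : ℕ) where
  /-- the element -/
  g : G
  /-- the coordinates -/
  e : Fin 2 × ZMod p ≃ α
  he : ∀ i y, g • e (i, y) = e (i, y + 1)

variable {p : ℕ} [NeZero p] (C : Coord G α p)
include C

theorem Coord.pow_smul_e (n : ℕ) (i : Fin 2) (y : ZMod p) : C.g ^ n • C.e (i, y) = C.e (i, y + n) := by
  induction n with
  | zero => simp
  | succ n ih => rw [pow_succ', mul_smul, ih, C.he, Nat.cast_succ, add_assoc]

theorem Coord.inv_shift {M : Matrix α α ℚ} (hM : Inv G M) (i k : Fin 2) (x y : ZMod p) :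
    M (C.e (i, x)) (C.e (k, y)) = M (C.e (i, 0)) (C.e (k, y - x)) := by
  rw [← hM (C.g ^ x.val) (C.e (i, 0)) (C.e (k, y - x)), C.pow_smul_e, C.pow_smul_e,
    ZMod.natCast_zmod_val, zero_add, sub_add_cancel]

/-- A block of a matrix as an element of the group ring. -/
noncomputable def Coord.blk (M : Matrix α α ℚ) (i k : Fin 2) : PrimeRing.R p :=
  PrimeRing.mk fun y => M (C.e (i, 0)) (C.e (k, y))

theorem Coord.blk_coeff (M : Matrix α α ℚ) (i k : Fin 2) (y : ZMod p) :
    (C.blk M i k).coeff y = M (C.e (i, 0)) (C.e (k, y)) := PrimeRing.mk_coeff _ y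

theorem Coord.blk_mul (M : Matrix α α ℚ) {N : Matrix α α ℚ} (hN : Inv G N) (i k : Fin 2) :
    C.blk (M * N) i k = C.blk M i 0 * C.blk N 0 k + C.blk M i 1 * C.blk N 1 k := by
  simp only [Coord.blk]
  rw [PrimeRing.mk_mul, PrimeRing.mk_mul, ← PrimeRing.mk_add]
  congr 1
  funext y
  rw [Matrix.mul_apply, ← C.e.sum_comp, Fintype.sum_prod_type, Fin.sum_univ_two]
  congr 1 <;> refine Finset.sum_congr rfl fun z _ => ?_ <;> rw [C.inv_shift hN _ k z y]

theorem Coord.blk_smul (c : ℚ) (M : Matrix α α ℚ) (i k : Fin 2) : C.blk (c • M) i k = c • C.blk M i k :=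
  PrimeRing.ext_coeff fun y => by
    rw [AddMonoidAlgebra.coeff_smul_apply, C.blk_coeff, C.blk_coeff]; rfl

/-- The sum over a block. -/
noncomputable def Coord.s (M : Matrix α α ℚ) (i k : Fin 2) : ℚ := ∑ y, M (C.e (i, 0)) (C.e (k, y))

theorem Coord.eps_blk (M : Matrix α α ℚ) (i k : Fin 2) : PrimeRing.eps (C.blk M i k) = C.s M i k :=
  PrimeRing.eps_mk _

theorem Coord.sum_row {M : Matrix α α ℚ} (hM : Inv G M) (f : α → ℚ) (c : Fin 2 → ℚ)
    (hf : ∀ k y, f (C.e (k, y)) = c k) (i : Fin 2) (x : ZMod p) :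
    ∑ y, M (C.e (i, x)) y * f y = C.s M i 0 * c 0 + C.s M i 1 * c 1 := by
  rw [← C.e.sum_comp, Fintype.sum_prod_type, Fin.sum_univ_two, Coord.s, Coord.s, Finset.sum_mul,
    Finset.sum_mul]
  congr 1 <;>
  · rw [← Equiv.sum_comp (Equiv.addRight x)]
    refine Finset.sum_congr rfl fun z _ => ?_
    rw [hf, Equiv.coe_addRight, C.inv_shift hM i _ x (z + x), add_sub_cancel_right]

theorem Coord.sum_col {M : Matrix α α ℚ} (hM : Inv G M) (f : α → ℚ) (c : Fin 2 → ℚ)
    (hf : ∀ k y, f (C.e (k, y)) = c k) (i : Fin 2) (x : ZMod p) :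
    ∑ y, f y * M y (C.e (i, x)) = c 0 * C.s M 0 i + c 1 * C.s M 1 i := by
  rw [← C.e.sum_comp, Fintype.sum_prod_type, Fin.sum_univ_two, Coord.s, Coord.s, Finset.mul_sum,
    Finset.mul_sum]
  congr 1 <;>
  · rw [← Equiv.sum_comp (Equiv.subLeft x)]
    refine Finset.sum_congr rfl fun z _ => ?_
    rw [hf, Equiv.subLeft_apply, C.inv_shift hM _ i (x - z) x, sub_sub_cancel]

/-- The function separating the two cycles. -/
def Coord.u (x : α) : ℚ := if (C.e.symm x).1 = 0 then 1 else -1

theorem Coord.u_e (i : Fin 2) (y : ZMod p) : C.u (C.e (i, y)) = if i = 0 then 1 else -1 := by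
  simp [Coord.u]

/-- The eigenvalue at `u`. -/
noncomputable def Coord.theta (M : Matrix α α ℚ) : ℚ := C.s M 0 0 - C.s M 0 1

theorem Coord.s_symm [IsPretransitive G α] {M : Matrix α α ℚ} (hM : Inv G M) :
    C.s M 0 0 = C.s M 1 1 ∧ C.s M 0 1 = C.s M 1 0 := by
  have hr : ∀ i : Fin 2, C.s M i 0 + C.s M i 1 = ∑ y, M (C.e (0, 0)) y := fun i => by
    have := C.sum_row hM (fun _ => 1) (fun _ => 1) (fun _ _ => rfl) i 0
    simp only [mul_one] at this
    rw [← this, hM.row_sum]
  have hc : C.s M 0 0 + C.s M 1 0 = ∑ y, M (C.e (0, 0)) y := by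
    have := C.sum_col hM (fun _ => 1) (fun _ => 1) (fun _ _ => rfl) 0 0
    simp only [one_mul] at this
    rw [← this, hM.col_sum]
  exact ⟨by linarith [hr 0, hr 1], by linarith [hr 0, hr 1]⟩

theorem Coord.mul_u [IsPretransitive G α] {M : Matrix α α ℚ} (hM : Inv G M) (x : α) :
    ∑ y, M x y * C.u y = C.theta M * C.u x := by
  obtain ⟨⟨i, z⟩, rfl⟩ := C.e.surjective x
  rw [C.sum_row hM C.u _ C.u_e i z, C.u_e, Coord.theta]
  obtain ⟨h1, h2⟩ := C.s_symm hM
  fin_cases i <;> simp <;> linarith

theorem Coord.u_mul [IsPretransitive G α] {M : Matrix α α ℚ} (hM : Inv G M) (x : α) :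
    ∑ y, C.u y * M y x = C.theta M * C.u x := by
  obtain ⟨⟨i, z⟩, rfl⟩ := C.e.surjective x
  rw [C.sum_col hM C.u _ C.u_e i z, C.u_e, Coord.theta]
  obtain ⟨h1, h2⟩ := C.s_symm hM
  fin_cases i <;> simp <;> linarith

variable [Fintype G]

/-- The positive operator built from the translates of `u`. -/
noncomputable def Coord.U : Matrix α α ℚ := Matrix.of fun x y => ∑ h : G, C.u (h • x) * C.u (h • y)

theorem Coord.U_inv : Inv G C.U := fun t x y => by
  simp only [Coord.U, Matrix.of_apply, ← mul_smul]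
  exact Equiv.sum_comp (Equiv.mulRight t) fun h => C.u (h • x) * C.u (h • y)

theorem Coord.mul_U [IsPretransitive G α] {M : Matrix α α ℚ} (hM : Inv G M) : M * C.U = C.theta M • C.U := by
  ext x y
  rw [Matrix.mul_apply, Matrix.smul_apply, smul_eq_mul]
  simp only [Coord.U, Matrix.of_apply, Finset.mul_sum]
  rw [Finset.sum_comm]
  refine Finset.sum_congr rfl fun h _ => ?_
  rw [← mul_assoc, ← C.mul_u hM (h • x), ← Equiv.sum_comp (MulAction.toPerm h) (fun y => M (h • x) y * C.u y),
    Finset.sum_mul]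
  refine Finset.sum_congr rfl fun w _ => ?_
  rw [MulAction.toPerm_apply, hM]; ring

theorem Coord.U_mul [IsPretransitive G α] {M : Matrix α α ℚ} (hM : Inv G M) : C.U * M = C.theta M • C.U := by
  ext x y
  rw [Matrix.mul_apply, Matrix.smul_apply, smul_eq_mul]
  simp only [Coord.U, Matrix.of_apply, Finset.mul_sum, Finset.sum_mul]
  rw [Finset.sum_comm]
  refine Finset.sum_congr rfl fun h _ => ?_
  rw [mul_left_comm, ← C.u_mul hM (h • y), ← Equiv.sum_comp (MulAction.toPerm h) (fun w => C.u w * M w (h • y)),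
    Finset.mul_sum]
  refine Finset.sum_congr rfl fun w _ => ?_
  rw [MulAction.toPerm_apply, hM]; ring

theorem Coord.thetaU_pos [IsPretransitive G α] : 0 < C.theta C.U := by
  have hx : ∀ x, C.u x * C.u x = 1 := fun x => by unfold Coord.u; split_ifs <;> norm_num
  have h1 : ∑ x, C.u x * ∑ y, C.U x y * C.u y = C.theta C.U * Fintype.card α := by
    rw [Finset.sum_congr rfl (fun x _ => by rw [C.mul_u C.U_inv x, mul_left_comm, hx, mul_one]),
      Finset.sum_const, Finset.card_univ, nsmul_eq_mul, mul_comm]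
  have h2 : ∑ x, C.u x * ∑ y, C.U x y * C.u y = ∑ h : G, (∑ x, C.u x * C.u (h • x)) ^ 2 := by
    simp only [Coord.U, Matrix.of_apply, Finset.sum_mul, Finset.mul_sum, pow_two]
    rw [Finset.sum_congr rfl (fun x _ => Finset.sum_comm), Finset.sum_comm]
    refine Finset.sum_congr rfl fun h _ => ?_
    rw [Finset.sum_comm]
    refine Finset.sum_congr rfl fun x _ => Finset.sum_congr rfl fun y _ => ?_
    ring
  have h3 : (0 : ℚ) < ∑ h : G, (∑ x, C.u x * C.u (h • x)) ^ 2 := by
    refine Finset.sum_pos' (fun h _ => sq_nonneg _) ⟨1, Finset.mem_univ _, ?_⟩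
    simp only [one_smul, hx, Finset.sum_const, Finset.card_univ, nsmul_eq_mul, mul_one]
    have : 0 < Fintype.card α := Fintype.card_pos_iff.2 ⟨C.e (0, 0)⟩
    positivity
  rw [← h2, h1] at h3
  exact pos_of_mul_pos_left h3 (Nat.cast_nonneg _)

/-- The invariant projection. -/
noncomputable def Coord.E : Matrix α α ℚ := (C.theta C.U)⁻¹ • C.U

theorem Coord.E_inv : Inv G C.E := C.U_inv.smul _

theorem Coord.E_symm (x y : α) : C.E x y = C.E y x := by
  simp only [Coord.E, Coord.U, Matrix.smul_apply, Matrix.of_apply]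
  congr 1
  exact Finset.sum_congr rfl fun h _ => mul_comm _ _

theorem Coord.mul_E [IsPretransitive G α] {M : Matrix α α ℚ} (hM : Inv G M) : M * C.E = C.theta M • C.E := by
  rw [Coord.E, Matrix.mul_smul, C.mul_U hM, smul_comm]

theorem Coord.E_mul [IsPretransitive G α] {M : Matrix α α ℚ} (hM : Inv G M) : C.E * M = C.theta M • C.E := by
  rw [Coord.E, Matrix.smul_mul, C.U_mul hM, smul_comm]

theorem Coord.E_idem [IsPretransitive G α] : C.E * C.E = C.E := by
  conv_lhs => arg 1; rw [Coord.E]
  rw [Matrix.smul_mul, C.U_mul C.E_inv, smul_smul]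
  have : C.theta C.E = 1 := by
    have h : C.theta C.E = (C.theta C.U)⁻¹ * C.theta C.U := by
      simp [Coord.theta, Coord.s, Coord.E, Finset.mul_sum, mul_sub]
    rw [h, inv_mul_cancel₀ C.thetaU_pos.ne']
  rw [this, mul_one]
  rfl

theorem Coord.E_theta [IsPretransitive G α] : C.theta C.E = 1 := by
  have h : C.theta C.E = (C.theta C.U)⁻¹ * C.theta C.U := by
    simp [Coord.theta, Coord.s, Coord.E, Finset.mul_sum, mul_sub]
  rw [h, inv_mul_cancel₀ C.thetaU_pos.ne']

theorem Coord.E_row [IsPretransitive G α] (x : α) : ∑ y, C.E x y = 0 := by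
  simp only [Coord.E, Coord.U, Matrix.smul_apply, Matrix.of_apply, smul_eq_mul, ← Finset.mul_sum]
  rw [Finset.sum_comm, Finset.sum_eq_zero, mul_zero]
  intro h _
  have h1 : ∑ y, C.u (h • y) = ∑ y, C.u y := Equiv.sum_comp (MulAction.toPerm h) C.u
  have h2 : ∑ y, C.u y = 0 := by
    rw [← C.e.sum_comp, Fintype.sum_prod_type, Fin.sum_univ_two]
    simp [C.u_e]
  rw [← Finset.mul_sum, h1, h2, mul_zero]

/-- The diagonal of the projection in the group ring. -/
theorem Coord.E_aug [IsPretransitive G α] :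
    C.s C.E 0 0 = 1 / 2 ∧ C.s C.E 1 1 = 1 / 2 := by
  have h1 := C.sum_row C.E_inv (fun _ => 1) (fun _ => 1) (fun _ _ => rfl) 0 0
  simp only [mul_one] at h1
  rw [C.E_row] at h1
  have h2 := C.E_theta
  rw [Coord.theta] at h2
  obtain ⟨h3, -⟩ := C.s_symm C.E_inv
  exact ⟨by linarith, by linarith⟩

theorem Coord.card_eq : Fintype.card α = 2 * p := by
  rw [← Fintype.card_congr C.e, Fintype.card_prod, Fintype.card_fin, ZMod.card]

theorem Coord.blk_one (i k : Fin 2) : C.blk 1 i k = if i = k then 1 else 0 := by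
  refine PrimeRing.ext_coeff fun y => ?_
  rw [C.blk_coeff, Matrix.one_apply]
  simp only [C.e.injective.eq_iff, Prod.mk.injEq]
  by_cases h : i = k
  · subst h
    simp [AddMonoidAlgebra.one_def, AddMonoidAlgebra.coeff_single, Finsupp.single_apply]
  · simp [h]

/-- The diagonal sum of the projection. -/
noncomputable def Coord.dsum : PrimeRing.R p := C.blk C.E 0 0 + C.blk C.E 1 1

theorem Coord.E_block [IsPretransitive G α] (i k : Fin 2) :
    C.blk C.E i 0 * C.blk C.E 0 k + C.blk C.E i 1 * C.blk C.E 1 k = C.blk C.E i k := by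
  rw [← C.blk_mul C.E C.E_inv, C.E_idem]

theorem Coord.dsum_cases [IsPretransitive G α] [hp : Fact p.Prime] :
    C.dsum = 1 ∨ C.dsum.coeff 0 = 1 / p ∨ C.dsum.coeff 0 = 2 - 1 / p := by
  have hp0 : (p : ℚ) ≠ 0 := Nat.cast_ne_zero.2 hp.out.ne_zero
  have heps : PrimeRing.eps C.dsum = 1 := by
    rw [Coord.dsum, map_add, C.eps_blk, C.eps_blk, C.E_aug.1, C.E_aug.2]; norm_num
  have key : ∀ τ : ℚ, PrimeRing.chi C.dsum = (τ : ℂ) →
      C.dsum.coeff 0 = τ + (1 - τ) / p ∧ (τ = 1 → C.dsum = 1) := by
    intro τ hτ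
    have hf : PrimeRing.chi (C.dsum - τ • 1) = 0 := by
      rw [map_sub, map_smul, map_one, hτ, Rat.smul_one_eq_cast, sub_self]
    refine ⟨?_, fun h1 => ?_⟩
    · have hc : PrimeRing.eps (C.dsum - τ • 1) = p * (C.dsum - τ • 1).coeff 0 := by
        conv_lhs => rw [← PrimeRing.mk_coeff_self (C.dsum - τ • 1), PrimeRing.eps_mk,
          Finset.sum_congr rfl (fun z _ => PrimeRing.coeff_const hf z), Finset.sum_const, Finset.card_univ,
          ZMod.card, nsmul_eq_mul]
      rw [map_sub, map_smul, map_one, heps, smul_eq_mul, mul_one] at hc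
      have h0 : (C.dsum - τ • 1).coeff 0 = C.dsum.coeff 0 - τ := by
        simp [AddMonoidAlgebra.one_def, AddMonoidAlgebra.coeff_single]
      rw [h0] at hc
      field_simp
      linear_combination -hc
    · have := PrimeRing.eq_zero_of_chi hf (by rw [map_sub, map_smul, map_one, heps, h1]; simp)
      rw [sub_eq_zero] at this
      rw [this, h1, one_smul]
  have h := fun i k => congrArg (PrimeRing.chi (p := p)) (C.E_block i k)
  simp only [map_add, map_mul] at h
  rcases PrimeRing.trace_cases (h 0 0) (h 0 1) (h 1 0) (h 1 1) with e | e | e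
  · obtain ⟨h1, -⟩ := key 0 (by rw [Coord.dsum, map_add, e, Rat.cast_zero])
    exact Or.inr (Or.inl (by rw [h1]; ring))
  · exact Or.inl ((key 1 (by rw [Coord.dsum, map_add, e, Rat.cast_one])).2 rfl)
  · obtain ⟨h1, -⟩ := key 2 (by rw [Coord.dsum, map_add, e]; norm_num)
    exact Or.inr (Or.inr (by rw [h1]; ring))

theorem Coord.diag [IsPretransitive G α] (x : α) : C.E x x = C.dsum.coeff 0 / 2 := by
  have h : ∀ z, C.E z z = C.E x x := fun z => by
    obtain ⟨g, rfl⟩ := exists_smul_eq G x z
    exact C.E_inv g x x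
  rw [Coord.dsum, AddMonoidAlgebra.coeff_add, Finsupp.add_apply, C.blk_coeff, C.blk_coeff, h (C.e (0, 0)), h (C.e (1, 0))]
  ring

theorem Coord.u_sq (x : α) : C.u x * C.u x = 1 := by unfold Coord.u; split_ifs <;> norm_num

/-- The case of a one-dimensional image contradicts primitivity. -/
theorem Coord.not_prim [hprim : IsPreprimitive G α] [hp : Fact p.Prime] (h0 : C.dsum.coeff 0 = 1 / p) :
    False := by
  have hp0 : (p : ℚ) ≠ 0 := Nat.cast_ne_zero.2 hp.out.ne_zero
  set c : ℚ := 1 / (2 * p) with hc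
  have hu2 : ∑ w, C.u w * C.u w = 2 * p := by
    simp [C.u_sq, C.card_eq]
  let F : Matrix α α ℚ := Matrix.of fun x y => C.E x y - c * (C.u x * C.u y)
  have hEu : ∀ x, ∑ w, C.E x w * C.u w = C.u x := fun x => by
    rw [C.mul_u C.E_inv, C.E_theta, one_mul]
  have hF : F = 0 := by
    refine sym_idem_eq_zero (fun x y => ?_) ?_ ?_
    · show C.E x y - _ = C.E y x - _
      rw [C.E_symm x y, mul_comm (C.u x)]
    · ext x y
      have hEE : ∑ w, C.E x w * C.E w y = C.E x y := by
        rw [← Matrix.mul_apply, C.E_idem]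
      rw [Matrix.mul_apply]
      show ∑ w, (C.E x w - c * (C.u x * C.u w)) * (C.E w y - c * (C.u w * C.u y)) = _
      have e : ∀ w, (C.E x w - c * (C.u x * C.u w)) * (C.E w y - c * (C.u w * C.u y)) =
          C.E x w * C.E w y - (c * C.u y) * (C.E x w * C.u w) - (c * C.u x) * (C.E y w * C.u w) +
            (c * C.u x * (c * C.u y)) * (C.u w * C.u w) := fun w => by rw [C.E_symm w y]; ring
      rw [Finset.sum_congr rfl (fun w _ => e w), Finset.sum_add_distrib, Finset.sum_sub_distrib,
        Finset.sum_sub_distrib, ← Finset.mul_sum, ← Finset.mul_sum, ← Finset.mul_sum, hEE, hEu, hEu, hu2]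
      show _ = C.E x y - c * (C.u x * C.u y)
      rw [hc]; field_simp; ring
    · refine Finset.sum_eq_zero fun x _ => ?_
      show C.E x x - c * (C.u x * C.u x) = 0
      rw [C.diag, h0, C.u_sq, hc]; ring
  have hE : ∀ x y, C.E x y = c * (C.u x * C.u y) := fun x y =>
    sub_eq_zero.1 (congrFun (congrFun hF x) y)
  have hc0 : c ≠ 0 := by rw [hc]; positivity
  let B : Set α := {x | C.u x = 1}
  have hB : IsBlock G B := by
    rw [isBlock_iff_smul_eq_of_nonempty]
    rintro g ⟨-, ⟨w, hw, rfl⟩, hgw⟩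
    have h1 : ∀ y, C.u (g • y) = C.u y := fun y => by
      have := C.E_inv g w y
      rw [hE, hE, show C.u (g • w) = 1 from hgw, show C.u w = 1 from hw, one_mul, one_mul] at this
      exact mul_left_cancel₀ hc0 this
    ext y
    constructor
    · rintro ⟨z, hz, rfl⟩
      exact (h1 z).trans hz
    · intro hy
      exact ⟨g⁻¹ • y, by show C.u _ = 1; rw [← h1, smul_inv_smul]; exact hy, smul_inv_smul g y⟩
  have := Fact.mk hp.out.one_lt
  rcases IsPreprimitive.isTrivialBlock_of_isBlock hB with h | h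
  · have := h (show C.e (0, 0) ∈ B by simp [B, C.u_e]) (show C.e (0, 1) ∈ B by simp [B, C.u_e])
    simp at this
  · have : C.e (1, 0) ∈ B := h ▸ Set.mem_univ _
    simp [B, C.u_e] at this
    norm_num at this

/-- In the case of the largest image all invariant matrices are constant off the diagonal. -/
theorem Coord.const_offdiag [IsPretransitive G α] [hp : Fact p.Prime] (h0 : C.dsum.coeff 0 = 2 - 1 / p)
    {M : Matrix α α ℚ} (hM : Inv G M) {x y z : α} (hy : y ≠ x) (hz : z ≠ x) : M x y = M x z := by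
  have hp0 : (p : ℚ) ≠ 0 := Nat.cast_ne_zero.2 hp.out.ne_zero
  set c : ℚ := 1 / (2 * p) with hc
  let F : Matrix α α ℚ := Matrix.of fun x y => (1 : Matrix α α ℚ) x y - c - C.E x y
  have hF : F = 0 := by
    refine sym_idem_eq_zero (fun x y => ?_) ?_ ?_
    · show _ - c - C.E x y = _ - c - C.E y x
      rw [C.E_symm x y]
      by_cases h : x = y
      · subst h; rfl
      · simp [h, Ne.symm h]
    · ext x y
      have hEE : ∑ w, C.E x w * C.E w y = C.E x y := by
        rw [← Matrix.mul_apply, C.E_idem]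
      rw [Matrix.mul_apply]
      show ∑ w, ((1 : Matrix α α ℚ) x w - c - C.E x w) * ((1 : Matrix α α ℚ) w y - c - C.E w y) = _
      have e : ∀ w, ((1 : Matrix α α ℚ) x w - c - C.E x w) * ((1 : Matrix α α ℚ) w y - c - C.E w y) =
          (1 : Matrix α α ℚ) x w * ((1 : Matrix α α ℚ) w y - c - C.E w y) -
            (c + C.E x w) * (1 : Matrix α α ℚ) w y + (c * c + c * C.E x w + c * C.E y w + C.E x w * C.E w y) :=
        fun w => by rw [C.E_symm y w]; ring
      rw [Finset.sum_congr rfl (fun w _ => e w), Finset.sum_add_distrib, Finset.sum_sub_distrib,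
        Finset.sum_add_distrib, Finset.sum_add_distrib, Finset.sum_add_distrib, ← Finset.mul_sum,
        ← Finset.mul_sum, ← Finset.mul_sum, hEE, C.E_row, C.E_row, Finset.sum_const, Finset.card_univ, C.card_eq,
        nsmul_eq_mul]
      simp only [Matrix.one_apply, ite_mul, one_mul, zero_mul, mul_ite, mul_one, mul_zero,
        Finset.sum_ite_eq, Finset.sum_ite_eq', Finset.mem_univ, if_true]
      show _ = (1 : Matrix α α ℚ) x y - c - C.E x y
      rw [Matrix.one_apply, hc]; push_cast; field_simp; ring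
    · refine Finset.sum_eq_zero fun x _ => ?_
      show (1 : Matrix α α ℚ) x x - c - C.E x x = 0
      rw [C.diag, h0, Matrix.one_apply_eq, hc]; ring
  have hE : ∀ x y, C.E x y = (1 : Matrix α α ℚ) x y - c := fun x y => by
    have := congrFun (congrFun hF x) y
    simp only [F, Matrix.of_apply, Matrix.zero_apply] at this
    linarith
  have key : ∀ w, w ≠ x → M x w = (∑ v, M x v) * c - C.theta M * c := by
    intro w hw
    have h1 := congrFun (congrFun (C.mul_E hM) x) w
    rw [Matrix.mul_apply, Matrix.smul_apply, smul_eq_mul, hE, Matrix.one_apply_ne hw.symm,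
      Finset.sum_congr rfl (fun v _ => by rw [hE, mul_sub]), Finset.sum_sub_distrib, ← Finset.sum_mul] at h1
    simp [Matrix.one_apply] at h1
    linarith
  rw [key y hy, key z hz]

omit C in
/-- The orbit of the stabiliser of `a` attached to a pair of points. -/
noncomputable def cls [IsPretransitive G α] (a x y : α) : orbitRel.Quotient (stabilizer G a) α :=
  Quotient.mk'' ((exists_smul_eq G x a).choose • y)

omit C [Fintype G] in
theorem cls_eq [IsPretransitive G α] {a x y : α} {h : G} (hh : h • x = a) :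
    (Quotient.mk'' (h • y) : orbitRel.Quotient (stabilizer G a) α) = cls a x y := by
  set h' := (exists_smul_eq G x a).choose
  have hh' : h' • x = a := (exists_smul_eq G x a).choose_spec
  apply Quotient.sound'
  rw [orbitRel_apply, mem_orbit_iff]
  refine ⟨⟨h * h'⁻¹, ?_⟩, ?_⟩
  · rw [mem_stabilizer_iff, mul_smul, show h'⁻¹ • a = x by rw [inv_smul_eq_iff, hh'], hh]
  · show (h * h'⁻¹) • h' • y = h • y
    rw [← mul_smul, inv_mul_cancel_right]

omit C [Fintype G] in
theorem mk_eq_base_iff {a y : α} :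
    (Quotient.mk'' y : orbitRel.Quotient (stabilizer G a) α) = Quotient.mk'' a ↔ y = a := by
  refine ⟨fun e => ?_, fun e => by rw [e]⟩
  have h := Quotient.exact' e
  rw [orbitRel_apply, mem_orbit_iff] at h
  obtain ⟨⟨g, hg⟩, hgy⟩ := h
  exact hgy.symm.trans hg

omit C in
/-- The matrix of an orbital. -/
noncomputable def orb [IsPretransitive G α] (a : α) (q : orbitRel.Quotient (stabilizer G a) α) :
    Matrix α α ℚ := Matrix.of fun x y => by classical exact if cls a x y = q then 1 else 0

omit C [Fintype G] in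
theorem orb_apply [IsPretransitive G α] (a : α) (q : orbitRel.Quotient (stabilizer G a) α) (x y : α)
    [Decidable (cls a x y = q)] : orb a q x y = if cls a x y = q then 1 else 0 := by
  simp [orb]

omit C [Fintype G] in
theorem orb_inv [IsPretransitive G α] (a : α) (q : orbitRel.Quotient (stabilizer G a) α) :
    Inv G (orb (G := G) a q) := by
  classical
  intro h x y
  have e : cls (G := G) a (h • x) (h • y) = cls a x y := by
    obtain ⟨t, ht⟩ := exists_smul_eq G x a
    rw [← cls_eq (h := t * h⁻¹) (by rw [mul_smul, inv_smul_smul, ht]), ← cls_eq ht, mul_smul, inv_smul_smul]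
  rw [orb_apply, orb_apply, e]

theorem Coord.theta_transpose [IsPretransitive G α] {M : Matrix α α ℚ} (hM : Inv G M) :
    C.theta M.transpose = C.theta M := by
  have h : ∀ i k, C.s M.transpose i k = C.s M k i := fun i k => by
    simp only [Coord.s, Matrix.transpose_apply]
    rw [← Equiv.sum_comp (Equiv.neg (ZMod p))]
    exact Finset.sum_congr rfl fun y _ => by rw [Equiv.neg_apply, C.inv_shift hM k i (-y) 0, sub_neg_eq_add, zero_add]
  rw [Coord.theta, Coord.theta, h, h, (C.s_symm hM).2]

/-- The diagonal sum of a matrix. -/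
def Coord.hfun (M : Matrix α α ℚ) (y : ZMod p) : ℚ :=
  M (C.e (0, 0)) (C.e (0, y)) + M (C.e (1, 0)) (C.e (1, y))

theorem Coord.hfun_coeff (M : Matrix α α ℚ) (y : ZMod p) :
    (C.blk M 0 0 + C.blk M 1 1).coeff y = C.hfun M y := by
  rw [AddMonoidAlgebra.coeff_add, Finsupp.add_apply, C.blk_coeff, C.blk_coeff]; rfl

theorem Coord.hfun_sum [IsPretransitive G α] {M : Matrix α α ℚ} (hM : Inv G M) (x : α) :
    ∑ y, C.hfun M y = (∑ z, M x z) + C.theta M := by
  have h1 := C.sum_row hM (fun _ => 1) (fun _ => 1) (fun _ _ => rfl) 0 0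
  simp only [mul_one] at h1
  rw [hM.row_sum x (C.e (0, 0)), h1]
  simp only [Coord.hfun, Finset.sum_add_distrib, Coord.theta]
  show C.s M 0 0 + C.s M 1 1 = _
  rw [← (C.s_symm hM).1]; ring

/-- The algebraic consequences of the middle case. -/
theorem Coord.shape [IsPretransitive G α] (hS : C.dsum = 1) {M : Matrix α α ℚ} (hM : Inv G M) :
    let T : PrimeRing.R p := C.theta M • 1
    let m := C.blk M 0 0 + C.blk M 1 1 - 2 * T
    C.blk M 0 0 - T = m * C.blk C.E 1 1 ∧ C.blk M 1 1 - T = m * C.blk C.E 0 0 ∧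
      C.blk M 0 1 = -(m * C.blk C.E 0 1) ∧ C.blk M 1 0 = -(m * C.blk C.E 1 0) := by
  intro T m
  have hr : ∀ i k, C.blk M i 0 * C.blk C.E 0 k + C.blk M i 1 * C.blk C.E 1 k = T * C.blk C.E i k := by
    intro i k
    rw [← C.blk_mul M C.E_inv, C.mul_E hM, C.blk_smul]
    simp [T]
  have hl : ∀ i k, C.blk C.E i 0 * C.blk M 0 k + C.blk C.E i 1 * C.blk M 1 k = T * C.blk C.E i k := by
    intro i k
    rw [← C.blk_mul C.E hM, C.E_mul hM, C.blk_smul]
    simp [T]
  obtain ⟨h1, h2, h3, h4⟩ := PrimeRing.shape_of_killed (e01 := C.blk C.E 0 1) (e10 := C.blk C.E 1 0)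
    (x00 := C.blk M 0 0 - T) (x01 := C.blk M 0 1) (x10 := C.blk M 1 0) (x11 := C.blk M 1 1 - T)
    (show C.blk C.E 0 0 + C.blk C.E 1 1 = 1 from hS) (by linear_combination hr 1 1)
    (by linear_combination hr 1 0) (by linear_combination hr 0 1) (by linear_combination hl 0 0)
    (by linear_combination hl 0 1) (by linear_combination hl 1 0)
  refine ⟨?_, ?_, ?_, ?_⟩
  · linear_combination h1
  · linear_combination h2
  · linear_combination h3
  · linear_combination h4

/-- Orthogonality of invariant matrices. -/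
theorem Coord.pairing [IsPretransitive G α] (hS : C.dsum = 1) {M N : Matrix α α ℚ} (hM : Inv G M)
    (hN : Inv G N) (hM0 : C.hfun M 0 = 0) (hN0 : C.hfun N 0 = 0) (a : α) :
    2 * ∑ y, M a y * N a y = 2 * C.theta M * C.theta N + ∑ y, C.hfun M y * C.hfun N y := by
  have hdet : C.blk C.E 0 0 * C.blk C.E 1 1 = C.blk C.E 0 1 * C.blk C.E 1 0 := by
    have h := C.E_block 0 0
    have hS' : C.blk C.E 0 0 + C.blk C.E 1 1 = 1 := hS
    linear_combination C.blk C.E 0 0 * hS' - h
  obtain ⟨a1, a2, a3, a4⟩ := C.shape hS hM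
  obtain ⟨b1, b2, b3, b4⟩ := C.shape hS hN.transpose
  have hS' : C.blk C.E 0 0 + C.blk C.E 1 1 = 1 := hS
  have key := PrimeRing.trace_product hS' hdet a1 a2 a3 a4 b1 b2 b3 b4
  rw [C.theta_transpose hN] at key
  have key0 := congrArg (fun z : PrimeRing.R p => z.coeff 0) key
  have hlhs : (C.blk M 0 0 * C.blk N.transpose 0 0 + C.blk M 0 1 * C.blk N.transpose 1 0 +
      C.blk M 1 0 * C.blk N.transpose 0 1 + C.blk M 1 1 * C.blk N.transpose 1 1).coeff 0 =
      2 * ∑ y, M a y * N a y := by
    have e : ∀ z, (M * N.transpose) z z = ∑ y, M a y * N a y := by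
      intro z
      obtain ⟨h, rfl⟩ := exists_smul_eq G a z
      rw [Matrix.mul_apply, ← Equiv.sum_comp (MulAction.toPerm h)]
      exact Finset.sum_congr rfl fun y _ => by
        rw [MulAction.toPerm_apply, Matrix.transpose_apply, hM, hN]
    rw [show ∀ w x y z : PrimeRing.R p, w + x + y + z = (w + x) + (y + z) from fun w x y z => by ring,
      ← C.blk_mul M hN.transpose, ← C.blk_mul M hN.transpose, AddMonoidAlgebra.coeff_add, Finsupp.add_apply,
      C.blk_coeff, C.blk_coeff, e, e]
    ring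
  rw [hlhs, AddMonoidAlgebra.coeff_add, Finsupp.add_apply, smul_mul_smul_comm, mul_one,
    PrimeRing.coeff_zero_mul] at key0
  rw [key0]
  have hone : ∀ y : ZMod p, (1 : PrimeRing.R p).coeff y = if y = 0 then 1 else 0 := fun y => by
    simp [AddMonoidAlgebra.one_def, AddMonoidAlgebra.coeff_single, Finsupp.single_apply, eq_comm]
  have hsplit : ∀ y, (C.blk M 0 0 + C.blk M 1 1 - C.theta M • (1 : PrimeRing.R p)).coeff y *
      (C.blk N.transpose 0 0 + C.blk N.transpose 1 1 - C.theta N • (1 : PrimeRing.R p)).coeff (-y) =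
      C.hfun M y * C.hfun N y + if y = 0 then C.theta M * C.theta N else 0 := by
    intro y
    have hNy : C.hfun N.transpose (-y) = C.hfun N y := by
      simp only [Coord.hfun, Matrix.transpose_apply]
      rw [C.inv_shift hN 0 0 (-y) 0, C.inv_shift hN 1 1 (-y) 0, sub_neg_eq_add, zero_add]
    rw [AddMonoidAlgebra.coeff_sub, AddMonoidAlgebra.coeff_sub, Finsupp.sub_apply, Finsupp.sub_apply,
      C.hfun_coeff, C.hfun_coeff, AddMonoidAlgebra.coeff_smul_apply, AddMonoidAlgebra.coeff_smul_apply,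
      hone, hone, hNy]
    by_cases hy : y = 0
    · subst hy; simp [hM0, hN0]
    · simp [hy]
  rw [Finset.sum_congr rfl (fun y _ => hsplit y), Finset.sum_add_distrib, Finset.sum_ite_eq' Finset.univ,
    if_pos (Finset.mem_univ _), AddMonoidAlgebra.coeff_smul_apply, hone,
    if_pos rfl, smul_eq_mul, mul_one]
  ring

/-- The subdegree is at least two in a primitive group. -/
theorem two_le_card_orbit [hprim : IsPreprimitive G α] [FaithfulSMul G α] [hp : Fact p.Prime] {a b : α}
    (hb : b ≠ a) : 2 ≤ Nat.card (orbit (stabilizer G a) b) := by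
  classical
  have hpos : 0 < Nat.card (orbit (stabilizer G a) b) :=
    Nat.card_pos_iff.2 ⟨⟨⟨b, mem_orbit_self b⟩⟩, inferInstance⟩
  by_contra h1
  have hfix : stabilizer G a ≤ stabilizer G b := by
    intro g hg
    have h1' : Subsingleton (orbit (stabilizer G a) b) :=
      (Nat.card_eq_one_iff_unique.mp (by omega)).1
    let g' : stabilizer G a := ⟨g, hg⟩
    exact congrArg Subtype.val (h1'.elim ⟨g' • b, mem_orbit b g'⟩ ⟨b, mem_orbit_self b⟩)
  have hcard : ∀ x : α, Nat.card (stabilizer G x) = Nat.card (stabilizer G a) := fun x => by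
    obtain ⟨g, rfl⟩ := exists_smul_eq G a x
    rw [stabilizer_smul_eq_stabilizer_map_conj]
    exact Subgroup.card_map_of_injective (MulAut.conj g).injective
  have heq : stabilizer G b = stabilizer G a := (Subgroup.eq_of_le_of_card_ge hfix (hcard b).le).symm
  set B : Set α := {x | stabilizer G x = stabilizer G a} with hB
  have hBlock : IsBlock G B := by
    rw [isBlock_iff_smul_eq_of_nonempty]
    rintro g ⟨-, ⟨x, hx, rfl⟩, hgx⟩
    have key : ∀ y : α, stabilizer G (g • y) = stabilizer G a ↔ stabilizer G y = stabilizer G a := by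
      intro y
      have hgx' : (stabilizer G a).map (MulAut.conj g).toMonoidHom = stabilizer G a := by
        rw [← show stabilizer G x = stabilizer G a from hx, ← stabilizer_smul_eq_stabilizer_map_conj]
        exact (show stabilizer G (g • x) = _ from hgx).trans hx.symm
      rw [stabilizer_smul_eq_stabilizer_map_conj]
      constructor
      · intro h
        exact Subgroup.map_injective (MulAut.conj g).injective (h.trans hgx'.symm)
      · intro h
        rw [h, hgx']
    ext y
    constructor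
    · rintro ⟨z, hz, rfl⟩
      exact (key z).2 hz
    · intro hy
      exact ⟨g⁻¹ • y, (key _).1 (by rw [smul_inv_smul]; exact hy), smul_inv_smul g y⟩
  rcases IsPreprimitive.isTrivialBlock_of_isBlock hBlock with h | h
  · exact hb (h (show b ∈ B from heq) (show a ∈ B from rfl))
  · have hbot : stabilizer G a = ⊥ := by
      rw [eq_bot_iff]
      intro g hg
      refine FaithfulSMul.eq_of_smul_eq_smul (α := α) fun x => ?_
      rw [one_smul]
      have hx : x ∈ B := h ▸ Set.mem_univ x
      exact ((show stabilizer G x = stabilizer G a from hx).symm ▸ hg : g ∈ stabilizer G x)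
    have hn : Nontrivial α := ⟨⟨b, a, hb⟩⟩
    have hco := IsPreprimitive.isCoatom_stabilizer_of_isPreprimitive (G := G) a
    have hg1 : C.g ≠ 1 := fun e => by
      have := C.he 0 0
      rw [e, one_smul] at this
      simp at this
    have hz : Subgroup.zpowers C.g = ⊤ := hco.2 _ (by
      rw [hbot, bot_lt_iff_ne_bot, Ne, Subgroup.zpowers_eq_bot]; exact hg1)
    obtain ⟨t, ht⟩ := exists_smul_eq G (C.e (0, 0)) (C.e (1, 0))
    obtain ⟨n, rfl⟩ := (isOfFinOrder_of_finite C.g).mem_powers_iff_mem_zpowers.2 (hz ▸ Subgroup.mem_top t)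
    simp only at ht
    rw [C.pow_smul_e] at ht
    simp at ht

/-- Wielandt's theorem, given coordinates. -/
theorem Coord.main [hprim : IsPreprimitive G α] [FaithfulSMul G α] [hp : Fact p.Prime] (a : α) :
    (∀ y z : α, y ≠ a → z ≠ a → ∃ h : G, h • a = a ∧ h • y = z) ∨
    (Nat.card (orbitRel.Quotient (stabilizer G a) α) = 3 ∧ ∃ j : ℕ, 0 < j ∧
      p = 2 * j ^ 2 + 2 * j + 1 ∧ ∀ b : α, b ≠ a → Nat.card (orbit (stabilizer G a) b) = j * (2 * j + 1) ∨
        Nat.card (orbit (stabilizer G a) b) = (j + 1) * (2 * j + 1)) := by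
  classical
  rcases C.dsum_cases with hS | hS | hS
  rotate_left
  · exact (C.not_prim hS).elim
  · left
    intro y z hy hz
    have h1 := C.const_offdiag hS (orb_inv (G := G) a (Quotient.mk'' y)) hy hz
    rw [orb_apply, orb_apply, ← cls_eq (one_smul G a), ← cls_eq (one_smul G a), one_smul, one_smul,
      if_pos rfl] at h1
    by_cases he : (Quotient.mk'' z : orbitRel.Quotient (stabilizer G a) α) = Quotient.mk'' y
    · have h := Quotient.exact' he
      rw [orbitRel_apply, mem_orbit_iff] at h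
      obtain ⟨⟨g, hg⟩, hgy⟩ := h
      exact ⟨g, hg, hgy⟩
    · rw [if_neg he] at h1
      norm_num at h1
  right
  let Q := orbitRel.Quotient (stabilizer G a) α
  let q0 : Q := Quotient.mk'' a
  let I := {q : Q // q ≠ q0}
  haveI : Fintype Q := Fintype.ofFinite Q
  let k : Q → ℚ := fun q => ∑ y, orb a q a y
  let th : Q → ℚ := fun q => C.theta (orb a q)
  have hkcard : ∀ b : α, k (Quotient.mk'' b) = Nat.card (orbit (stabilizer G a) b) := by
    intro b
    show ∑ y, orb a (Quotient.mk'' b) a y = _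
    rw [Finset.sum_congr rfl (fun y _ => orb_apply a _ a y), Finset.sum_boole,
      Nat.card_eq_fintype_card, Fintype.card_of_subtype]
    intro y
    simp only [Finset.mem_filter, Finset.mem_univ, true_and]
    rw [← cls_eq (one_smul G a), one_smul, Quotient.eq'', orbitRel_apply]
  have hcls0 : ∀ {x y : α}, cls (G := G) a x y = q0 ↔ y = x := by
    intro x y
    obtain ⟨h, hh⟩ := exists_smul_eq G x a
    rw [← cls_eq hh, mk_eq_base_iff]
    exact ⟨fun e => smul_left_cancel h (e.trans hh.symm), fun e => by rw [e, hh]⟩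
  have hk2 : ∀ q : I, 2 ≤ k q.1 := by
    rintro ⟨q, hq⟩
    obtain ⟨b, rfl⟩ := Quotient.mk''_surjective q
    have := two_le_card_orbit C (a := a) (b := b) (fun e => hq (by rw [e]))
    show (2 : ℚ) ≤ k _
    rw [hkcard]
    exact_mod_cast this
  have hh0 : ∀ q : I, C.hfun (orb a q.1) 0 = 0 := fun q => by
    simp only [Coord.hfun, orb_apply, hcls0.2 rfl, if_neg (Ne.symm q.2), add_zero]
  have h01 : ∀ (q : Q) x y, orb (G := G) a q x y = 0 ∨ orb (G := G) a q x y = 1 := fun q x y => by
    rw [orb_apply]; split_ifs <;> simp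
  have hfull : ∀ (x y : α), y ≠ x → ∑ q : I, orb a q.1 x y = 1 := by
    intro x y hxy
    have hq : cls (G := G) a x y ≠ q0 := fun e => hxy (hcls0.1 e)
    rw [Fintype.sum_eq_single ⟨cls (G := G) a x y, hq⟩ (fun q hq' => by
      rw [orb_apply, if_neg]; exact fun e => hq' (Subtype.ext e.symm)), orb_apply, if_pos rfl]
  have hne : ∀ (i : Fin 2) (y : ZMod p), y ≠ 0 → C.e (i, y) ≠ C.e (i, 0) := fun i y hy e => hy (by
    simpa using C.e.injective e)
  -- restriction to nonzero residues
  have hY : ∀ f : ZMod p → ℚ, f 0 = 0 → ∑ y, f y = ∑ y : {y : ZMod p // y ≠ 0}, f y.1 := by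
    intro f hf
    rw [← Finset.sum_erase Finset.univ hf]
    exact (Finset.sum_subtype _ (by simp) f)
  have hEval : ∀ (q : I) x y, cls a x y = q.1 → k q.1 * C.E x y = th q.1 / 2 := by
    intro q x y hxy
    have h1 := congrFun (congrFun (C.mul_E (orb_inv (G := G) a q.1)) x) x
    rw [Matrix.mul_apply, Matrix.smul_apply, smul_eq_mul, C.diag, hS] at h1
    have h2 : ∀ z, orb a q.1 x z * C.E z x = orb a q.1 x z * C.E x y := by
      intro z
      rw [orb_apply]
      split_ifs with hz
      · congr 1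
        obtain ⟨h, hh⟩ := exists_smul_eq G x a
        rw [← cls_eq hh] at hxy hz
        have e := Quotient.exact' (hz.trans hxy.symm)
        rw [orbitRel_apply, mem_orbit_iff] at e
        obtain ⟨⟨g, hg⟩, hgy⟩ := e
        rw [C.E_symm z x, ← C.E_inv h x z, ← C.E_inv h x y, ← hgy, hh]
        show C.E a (g • h • y) = _
        have hEg := C.E_inv g a (h • y)
        rw [show g • a = a from hg] at hEg
        exact hEg
      · simp
    rw [Finset.sum_congr rfl (fun z _ => h2 z), ← Finset.sum_mul, (orb_inv (G := G) a q.1).row_sum x a] at h1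
    rw [show (1 : PrimeRing.R p).coeff 0 = 1 by simp [AddMonoidAlgebra.one_def, AddMonoidAlgebra.coeff_single]] at h1
    linear_combination h1
  have hA : ∀ q : I, 2 * k q.1 = 2 * th q.1 * th q.1 + ∑ y : {y : ZMod p // y ≠ 0},
      C.hfun (orb a q.1) y.1 * C.hfun (orb a q.1) y.1 := by
    intro q
    rw [← hY (fun y => C.hfun (orb a q.1) y * C.hfun (orb a q.1) y) (by simp [hh0 q]),
      ← C.pairing hS (orb_inv a q.1) (orb_inv a q.1) (hh0 q) (hh0 q) a]
    congr 1
    refine Finset.sum_congr rfl fun y _ => ?_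
    rcases h01 q.1 a y with e | e <;> rw [e] <;> ring
  have hkH : ∀ q : I, k q.1 = (∑ y : {y : ZMod p // y ≠ 0}, C.hfun (orb a q.1) y.1) - th q.1 := by
    intro q
    rw [← hY (C.hfun (orb a q.1)) (hh0 q), C.hfun_sum (orb_inv (G := G) a q.1) a]
    simp [k, th]
  have heven : (∃ q : I, th q.1 = 0) → ∀ (q : I) (y : {y : ZMod p // y ≠ 0}), C.hfun (orb a q.1) y.1 ≠ 1 := by
    rintro ⟨q, hq⟩
    have h2 : ∀ y, C.hfun (orb a q.1) y = 0 ∨ C.hfun (orb a q.1) y = 2 := by
      intro y
      by_cases hy : y = 0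
      · rw [hy]; exact Or.inl (hh0 q)
      have e1 := hA q
      rw [hkH q, hq] at e1
      simp only [sub_zero, mul_zero, zero_add, Finset.mul_sum] at e1
      have e2 : ∀ z : {y : ZMod p // y ≠ 0}, C.hfun (orb a q.1) z.1 * C.hfun (orb a q.1) z.1 ≤
          2 * C.hfun (orb a q.1) z.1 := fun z => by
        simp only [Coord.hfun]
        rcases h01 q.1 (C.e (0, 0)) (C.e (0, z.1)) with u | u <;>
          rcases h01 q.1 (C.e (1, 0)) (C.e (1, z.1)) with v | v <;> rw [u, v] <;> norm_num
      have e3 := (Finset.sum_eq_sum_iff_of_le (fun z _ => e2 z)).1 e1.symm ⟨y, hy⟩ (Finset.mem_univ _)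
      have e4 : C.hfun (orb a q.1) y * (C.hfun (orb a q.1) y - 2) = 0 := by linear_combination e3
      rcases mul_eq_zero.1 e4 with e | e
      · exact Or.inl e
      · exact Or.inr (sub_eq_zero.1 e)
    have hdiag : C.blk (orb a q.1) 0 0 = C.blk (orb a q.1) 1 1 := PrimeRing.ext_coeff fun y => by
      rw [C.blk_coeff, C.blk_coeff]
      have := h2 y
      simp only [Coord.hfun] at this
      rcases h01 q.1 (C.e (0, 0)) (C.e (0, y)) with u | u <;>
        rcases h01 q.1 (C.e (1, 0)) (C.e (1, y)) with v | v <;> rw [u, v] at this ⊢ <;> norm_num at this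
    obtain ⟨s1, s2, -, -⟩ := C.shape hS (orb_inv (G := G) a q.1)
    rw [show C.theta (orb a q.1) = 0 from hq, zero_smul, mul_zero, sub_zero, sub_zero] at s1 s2
    have hd : (C.blk (orb a q.1) 0 0 + C.blk (orb a q.1) 1 1) * (C.blk C.E 1 1 - C.blk C.E 0 0) = 0 := by
      linear_combination -s1 + s2 + hdiag
    have hE : C.blk C.E 1 1 - C.blk C.E 0 0 = 0 := by
      refine PrimeRing.eq_zero_of_chi ?_ (by rw [map_sub, C.eps_blk, C.eps_blk, C.E_aug.1, C.E_aug.2, sub_self])
      have h := congrArg PrimeRing.chi hd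
      rw [map_mul, map_zero] at h
      refine (mul_eq_zero.1 h).resolve_left fun h0 => ?_
      have hall : ∀ y, C.hfun (orb a q.1) y = 0 := fun y => by
        rw [← C.hfun_coeff, PrimeRing.coeff_const h0, C.hfun_coeff, hh0 q]
      have := hk2 q
      rw [hkH q, hq, Finset.sum_eq_zero (fun y _ => hall y.1)] at this
      norm_num at this
    intro r y
    obtain ⟨t1, t2, -, -⟩ := C.shape hS (orb_inv (G := G) a r.1)
    have e : C.blk (orb a r.1) 0 0 = C.blk (orb a r.1) 1 1 := by
      linear_combination t1 - t2 + (C.blk (orb a r.1) 0 0 + C.blk (orb a r.1) 1 1 -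
        2 * (C.theta (orb a r.1) • (1 : PrimeRing.R p))) * hE
    have e' := congrArg (fun z : PrimeRing.R p => z.coeff y.1) e
    simp only [C.blk_coeff] at e'
    simp only [Coord.hfun, ← e']
    rcases h01 r.1 (C.e (0, 0)) (C.e (0, y.1)) with u | u <;> rw [u] <;> norm_num
  obtain ⟨hcard, j, hj, hp', hall⟩ := combinatorics (ι := I) (Y := {y : ZMod p // y ≠ 0})
    (fun q => th q.1) (fun q => k q.1) (fun q y => C.hfun (orb a q.1) y.1)
    (fun q => by
      have hint : ∀ i l : Fin 2, ∃ z : ℤ, C.s (orb a q.1) i l = z := by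
        intro i l
        refine ⟨∑ y, if cls (G := G) a (C.e (i, 0)) (C.e (l, y)) = q.1 then 1 else 0, ?_⟩
        simp [Coord.s, orb_apply]
      obtain ⟨z1, e1⟩ := hint 0 0
      obtain ⟨z2, e2⟩ := hint 0 1
      exact ⟨z1 - z2, by simp [th, Coord.theta, e1, e2]⟩)
    (fun q y => by
      simp only [Coord.hfun]
      rcases h01 q.1 (C.e (0, 0)) (C.e (0, y.1)) with u | u <;>
        rcases h01 q.1 (C.e (1, 0)) (C.e (1, y.1)) with v | v <;> rw [u, v] <;> norm_num)
    (fun y => by
      simp only [Coord.hfun, Finset.sum_add_distrib]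
      rw [hfull _ _ (hne 0 _ y.2), hfull _ _ (hne 1 _ y.2)]
      norm_num)
    hk2 hkH hA
    (fun q r hqr => by
      show 2 * th q.1 * th r.1 + _ = 0
      rw [← hY (fun y => C.hfun (orb a q.1) y * C.hfun (orb a r.1) y) (by simp [hh0 q]),
        ← C.pairing hS (orb_inv a q.1) (orb_inv a r.1) (hh0 q) (hh0 r) a, Finset.sum_eq_zero, mul_zero]
      intro y _
      rw [orb_apply, orb_apply]
      split_ifs with e1 e2 <;> simp
      exact hqr (Subtype.ext (e1.symm.trans e2)))
    (by
      have hu : ∑ y, C.u y = 0 := by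
        rw [← C.e.sum_comp, Fintype.sum_prod_type, Fin.sum_univ_two]
        simp [C.u_e]
      set x0 := C.e (0, 0)
      have hth : ∀ q : I, th q.1 = ∑ y, orb a q.1 x0 y * C.u y := fun q => by
        rw [C.mul_u (orb_inv (G := G) a q.1), C.u_e]; simp [th]
      rw [Finset.sum_congr rfl (fun q _ => hth q), Finset.sum_comm]
      have hy : ∀ y, (∑ q : I, orb a q.1 x0 y * C.u y) = C.u y - if y = x0 then C.u y else 0 := by
        intro y
        by_cases hy : y = x0
        · subst hy
          rw [if_pos rfl, sub_self, Finset.sum_eq_zero]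
          intro q _
          rw [orb_apply, if_neg (by rw [hcls0.2 rfl]; exact Ne.symm q.2), zero_mul]
        · rw [← Finset.sum_mul, hfull _ _ hy, one_mul, if_neg hy, sub_zero]
      rw [Finset.sum_congr rfl (fun y _ => hy y), Finset.sum_sub_distrib, hu, Finset.sum_ite_eq' Finset.univ,
        if_pos (Finset.mem_univ _), C.u_e]
      simp)
    (fun y => by
      have h0 := congrArg (fun z : PrimeRing.R p => z.coeff y.1) hS
      simp only [Coord.dsum, AddMonoidAlgebra.coeff_add, Finsupp.add_apply, C.blk_coeff,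
        AddMonoidAlgebra.one_def, AddMonoidAlgebra.coeff_single, Finsupp.single_eq_of_ne y.2] at h0
      have hterm : ∀ (x w : α), w ≠ x → ∑ q : I, th q.1 / k q.1 * orb a q.1 x w = 2 * C.E x w := by
        intro x w hwx
        have hq : cls (G := G) a x w ≠ q0 := fun e => hwx (hcls0.1 e)
        rw [Fintype.sum_eq_single ⟨cls (G := G) a x w, hq⟩ (fun q hq' => by
          rw [orb_apply, if_neg, mul_zero]; exact fun e => hq' (Subtype.ext e.symm))]
        have hv := hEval ⟨cls (G := G) a x w, hq⟩ x w rfl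
        have hk' := hk2 ⟨cls (G := G) a x w, hq⟩
        rw [orb_apply, if_pos rfl, mul_one, div_eq_iff (by linarith)]
        linear_combination -2 * hv
      simp only [Coord.hfun, mul_add, Finset.sum_add_distrib]
      rw [hterm _ _ (hne 0 _ y.2), hterm _ _ (hne 1 _ y.2)]
      linear_combination 2 * h0)
    heven
  refine ⟨?_, j, hj, ?_, fun b hb => ?_⟩
  · rw [Nat.card_eq_fintype_card]
    have : Fintype.card I = Fintype.card Q - 1 := by
      rw [Fintype.card_subtype_compl, Fintype.card_subtype_eq]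
    have hpos : 0 < Fintype.card Q := Fintype.card_pos_iff.2 ⟨q0⟩
    show Fintype.card Q = 3
    omega
  · rw [Fintype.card_subtype_compl, Fintype.card_subtype_eq, ZMod.card] at hp'
    have := hp.out.pos
    omega
  · have hbq : (Quotient.mk'' b : Q) ≠ q0 := fun e => hb (mk_eq_base_iff.1 e)
    rcases hall ⟨Quotient.mk'' b, hbq⟩ with e | e
    · left
      rw [show k (Quotient.mk'' b) = _ from hkcard b] at e
      exact_mod_cast e
    · right
      rw [show k (Quotient.mk'' b) = _ from hkcard b] at e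
      exact_mod_cast e

end Cfsg.Agent.H33.TwiceP
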